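import Mathlib
import Cfsg.Agent.Lib.Grp.Frattini
import Cfsg.Agent.S0205

/-!
# Chains of subgroups and simple groups of length eight: the setting (for S3250)
-/

set_option autoImplicit false
set_option linter.style.haveILetI false

namespace Cfsg.Agent.Fus.LenEight

open Subgroup

universe u

/-- Below `H` there is a strictly decreasing chain of `n` steps. -/
def Len {G : Type u} [Group G] : ℕ → Subgroup G → Prop
  | 0, _ => True
  | n + 1, H => ∃ K < H, Len n K

theorem Len.succ {G : Type u} [Group G] {K H : Subgroup G} {n : ℕ} (h : Len n K) (hlt : K < H) :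
    Len (n + 1) H :=
  ⟨K, hlt, h⟩

theorem Len.mono {G : Type u} [Group G] {K H : Subgroup G} {n : ℕ} (h : Len n K) (hle : K ≤ H) : Len n H := by
  cases n with
  | zero => trivial
  | succ n => obtain ⟨K', h1, h2⟩ := h; exact ⟨K', h1.trans_le hle, h2⟩

theorem Len.of_le {G : Type u} [Group G] {n m : ℕ} (hm : m ≤ n) {H : Subgroup G} (h : Len n H) : Len m H := by
  induction hm with
  | refl => exact h
  | step _ ih =>
    obtain ⟨K, hK, h'⟩ := h
    exact (ih (h'.mono hK.le))

theorem Len.map {G : Type u} [Group G] {K : Type u} [Group K] (f : K →* G) (hf : Function.Injective f) :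
    ∀ {n : ℕ} {H : Subgroup K}, Len n H → Len n (H.map f)
  | 0, _, _ => trivial
  | _ + 1, _, ⟨_, hlt, h⟩ => ⟨_, (map_lt_map_iff_of_injective hf).2 hlt, Len.map f hf h⟩

theorem Len.of_top {G : Type u} [Group G] {H : Subgroup G} {n : ℕ} (h : Len n (⊤ : Subgroup H)) : Len n H := by
  have := h.map H.subtype H.subtype_injective
  rwa [← MonoidHom.range_eq_map, range_subtype] at this

theorem Len.comap {G : Type u} [Group G] {K : Type u} [Group K] (f : G →* K) (hf : Function.Surjective f)
    {m : ℕ} (hm : Len m f.ker) : ∀ {n : ℕ} {H : Subgroup K}, Len n H → Len (n + m) (H.comap f)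
  | 0, H, _ => by
    rw [Nat.zero_add]
    exact hm.mono (fun x hx => show f x ∈ H from (MonoidHom.mem_ker.1 hx).symm ▸ one_mem H)
  | n + 1, H, ⟨K', hlt, h⟩ => by
    rw [Nat.add_right_comm]
    exact (Len.comap f hf hm h).succ ((comap_lt_comap_of_surjective hf).2 hlt)

theorem Len.exists_chain {G : Type u} [Group G] :
    ∀ {n : ℕ} {H : Subgroup G}, Len n H → ∃ c : Fin (n + 1) → Subgroup G, StrictAnti c ∧ c 0 = H
  | 0, H, _ => ⟨fun _ => H, fun i j hij => absurd hij (by omega), rfl⟩
  | n + 1, H, ⟨K, hlt, h⟩ => by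
    obtain ⟨c, hc, hc0⟩ := h.exists_chain
    refine ⟨Fin.cons H c, Fin.strictAnti_iff_succ_lt.2 fun i => ?_, rfl⟩
    refine Fin.cases ?_ (fun j => ?_) i
    · simpa [hc0] using hlt
    · simpa [Fin.cons_succ] using hc (show j.castSucc < j.succ from Fin.castSucc_lt_succ)

theorem len_pGroup : ∀ (a : ℕ) (G : Type u) [Group G] [Finite G], Nat.card G = 2 ^ a → Len a (⊤ : Subgroup G) := by
  intro a
  induction a with
  | zero => intro G _ _ _; trivial
  | succ a ih =>
    intro G _ _ hG
    haveI : Fact (Nat.Prime 2) := ⟨Nat.prime_two⟩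
    obtain ⟨K, hK⟩ := Sylow.exists_subgroup_card_pow_prime (G := G) 2 (n := a) (hG ▸ pow_dvd_pow 2 (Nat.le_succ a))
    refine (ih K hK).of_top.succ (lt_top_iff_ne_top.2 fun e => ?_)
    rw [e, card_top, hG] at hK
    exact absurd (Nat.pow_right_injective le_rfl hK) (Nat.succ_ne_self a)

theorem len_two_group {G : Type u} [Group G] [Finite G] {H : Subgroup G} {a : ℕ} (hH : Nat.card H = 2 ^ a) :
    Len a H :=
  (len_pGroup a H hH).of_top

theorem len_solvable : ∀ (N : ℕ) (G : Type u) [Group G] [Finite G], Nat.card G = N → Group.IsSolvable G →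
    Len N.primeFactorsList.length (⊤ : Subgroup G) := by
  intro N
  induction N using Nat.strong_induction_on with
  | _ N ih =>
    intro G _ _ hN hs
    rcases subsingleton_or_nontrivial G with hsub | hnt
    · rw [← hN, Nat.card_unique]; simp [Len]
    haveI := hs
    obtain hc | ⟨M, hM, hle⟩ := eq_top_or_exists_le_coatom (commutator G)
    · exact absurd hc (Group.IsSolvable.commutator_lt_top_of_nontrivial (G := G)).ne
    haveI : M.Normal := Subgroup.Normal.of_commutator_le (G := G) (h := hle)
    have hp := Grp.normal_index_prime_of_coatom hM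
    have hpos : 0 < Nat.card M := Nat.card_pos
    have hNM : N = Nat.card M * M.index := by rw [← hN, M.card_mul_index]
    have hlt : Nat.card M < N := hNM ▸ lt_mul_of_one_lt_right hpos hp.one_lt
    have hlen : N.primeFactorsList.length = (Nat.card M).primeFactorsList.length + 1 := by
      rw [hNM, (Nat.perm_primeFactorsList_mul hpos.ne' hp.ne_zero).length_eq, List.length_append,
        Nat.primeFactorsList_prime hp, List.length_singleton]
    rw [hlen]
    exact (ih _ hlt M rfl inferInstance).of_top.succ (lt_top_iff_ne_top.2 hM.1)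

/-- A non-solvable group has a chain of four steps. -/
theorem len_four : ∀ (N : ℕ) (G : Type u) [Group G] [Finite G], Nat.card G = N → ¬ Group.IsSolvable G →
    Len 4 (⊤ : Subgroup G) := by
  intro N
  induction N using Nat.strong_induction_on with
  | _ N ih =>
    intro G _ _ hN hns
    haveI : Fact (Nat.Prime 2) := ⟨Nat.prime_two⟩
    by_cases hsub : ∃ K : Subgroup G, K ≠ ⊤ ∧ ¬ Group.IsSolvable K
    · obtain ⟨K, hK, hKns⟩ := hsub
      refine ((ih _ ?_ K rfl hKns).of_top).mono le_top
      exact hN ▸ lt_of_le_of_ne (card_le_card_group K) (fun e => hK ((card_eq_iff_eq_top K).1 e))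
    push Not at hsub
    by_cases hsimp : ∃ R : Subgroup G, R.Normal ∧ R ≠ ⊥ ∧ R ≠ ⊤
    · obtain ⟨R, hR, hR1, hR2⟩ := hsimp
      haveI := hR
      have hq : ¬ Group.IsSolvable (G ⧸ R) := fun h =>
        hns ((Group.isSolvable_iff_subgroup_quotient R).2 ⟨hsub R hR2, h⟩)
      have hlt : Nat.card (G ⧸ R) < N := by
        rw [← index_eq_card, ← hN, ← R.card_mul_index]
        exact lt_mul_of_one_lt_left (Nat.pos_of_ne_zero index_ne_zero_of_finite)
          (by rwa [Finite.one_lt_card_iff_nontrivial, nontrivial_iff_ne_bot])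
      have h4 := Len.comap (QuotientGroup.mk' R) (QuotientGroup.mk'_surjective R) (m := 0) trivial
        (ih _ hlt (G ⧸ R) rfl hq)
      rwa [comap_top] at h4
    push Not at hsimp
    have h2 : 2 ∣ Nat.card G := even_iff_two_dvd.1 (Nat.not_odd_iff_even.1 fun ho => hns (Cfsg.Agent.S0205.result ho))
    obtain ⟨Q⟩ : Nonempty (Sylow 2 G) := inferInstance
    have hQs : ∀ K : Subgroup G, Group.IsSolvable K → K ≠ ⊤ := fun K hK e => hns (by
      haveI := hK
      subst e
      exact Group.isSolvable_of_isSolvable_injective (f := (topEquiv (G := G)).symm.toMonoidHom) topEquiv.symm.injective)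
    have hQtop : (Q : Subgroup G) ≠ ⊤ := by
      haveI := Q.isPGroup'.isNilpotent
      exact hQs _ inferInstance
    obtain ⟨a, ha⟩ := IsPGroup.iff_card.1 Q.isPGroup'
    have hlen : Len a (Q : Subgroup G) := len_two_group ha
    by_cases ha3 : 3 ≤ a
    · exact ((hlen.of_le ha3).succ (lt_top_iff_ne_top.2 hQtop))
    have hcomm : IsMulCommutative (Q : Subgroup G) := by
      rcases (show a = 0 ∨ a = 1 ∨ a = 2 by omega) with rfl | rfl | rfl
      · haveI : Subsingleton (Q : Subgroup G) := (Nat.card_eq_one_iff_unique.1 (by simpa using ha)).1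
        exact ⟨⟨fun x y => Subsingleton.elim _ _⟩⟩
      · haveI : IsCyclic (Q : Subgroup G) := isCyclic_of_prime_card (p := 2) (by simpa using ha)
        exact ⟨⟨fun x y => IsCyclic.commGroup.mul_comm x y⟩⟩
      · exact ⟨⟨fun x y => (IsPGroup.commGroupOfCardEqPrimeSq (p := 2) ha).mul_comm x y⟩⟩
    have hQC : (Q : Subgroup G) ≤ centralizer ((Q : Subgroup G) : Set G) := fun x hx =>
      mem_centralizer_iff.2 fun y hy => congrArg Subtype.val (hcomm.is_comm.comm ⟨y, hy⟩ ⟨x, hx⟩)
    have hNC : ¬ normalizer ((Q : Subgroup G) : Set G) ≤ centralizer ((Q : Subgroup G) : Set G) := fun h => by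
      have hk := MonoidHom.ker_transferSylow_isComplement' Q h
      haveI : (MonoidHom.transferSylow Q h).ker.Normal := inferInstance
      by_cases hb : (MonoidHom.transferSylow Q h).ker = ⊥
      · rw [hb, isComplement'_bot_left] at hk
        exact hQtop hk
      · rw [hsimp _ inferInstance hb] at hk
        have := isComplement'_top_left.1 hk
        have h1 : 2 ∣ Nat.card (Q : Subgroup G) := Q.dvd_card_of_dvd_card h2
        rw [this, card_bot] at h1
        omega
    have hlt : (Q : Subgroup G) < normalizer ((Q : Subgroup G) : Set G) :=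
      lt_of_le_of_ne le_normalizer fun e => hNC (e ▸ hQC)
    have hNtop : normalizer ((Q : Subgroup G) : Set G) ≠ ⊤ := fun e => by
      haveI : (Q : Subgroup G).Normal := normalizer_eq_top_iff.1 e
      by_cases hb : (Q : Subgroup G) = ⊥
      · have := Q.dvd_card_of_dvd_card h2
        rw [hb, card_bot] at this
        omega
      · exact hQtop (hsimp _ inferInstance hb)
    have ha2 : a = 2 := by
      have h1 : 2 ∣ Nat.card (Q : Subgroup G) := Q.dvd_card_of_dvd_card h2
      rcases (show a = 0 ∨ a = 1 ∨ a = 2 by omega) with rfl | rfl | rfl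
      · rw [ha] at h1; omega
      · exfalso
        refine hNC fun x hx => mem_centralizer_iff.2 fun y hy => ?_
        obtain ⟨q, hq⟩ : ∃ q, ∀ z ∈ (Q : Subgroup G), z = 1 ∨ z = q := by
          obtain ⟨⟨q, hq⟩, hq1⟩ := (Q : Subgroup G).ne_bot_iff_exists_ne_one.1 (fun e => by
            rw [e, card_bot] at ha; omega)
          refine ⟨q, fun z hz => or_iff_not_imp_left.2 fun hz1 => ?_⟩
          obtain ⟨o, ho⟩ := (Nat.card_eq_two_iff' (1 : (Q : Subgroup G))).1 (by rw [ha, pow_one])
          exact congrArg Subtype.val ((ho.2 ⟨z, hz⟩ fun e => hz1 (congrArg Subtype.val e)).trans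
            (ho.2 ⟨q, hq⟩ hq1).symm)
        rcases hq y hy with rfl | rfl
        · rw [one_mul, mul_one]
        · rcases hq _ ((mem_normalizer_iff.1 hx y).1 hy) with e | e
          · rw [conj_eq_one_iff] at e
            rw [e, one_mul, mul_one]
          · exact (mul_inv_eq_iff_eq_mul.1 e).symm
      · rfl
    exact ((ha2 ▸ hlen).succ hlt).succ (lt_top_iff_ne_top.2 hNtop)

/-- The hypotheses of S3250. -/
structure Hyp (G : Type u) [Group G] [Finite G] (S : Sylow 2 G) : Prop where
  simple : IsSimpleGroup G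
  nonab : ¬ IsMulCommutative G
  len : ∀ c : Fin 10 → Subgroup G, ¬ StrictAnti c
  card : Nat.card (S : Subgroup G) = 2 ^ 7

variable {G : Type u} [Group G] [Finite G] {S : Sylow 2 G} (h : Hyp G S)
include h

theorem Hyp.not_len_nine {H : Subgroup G} : ¬ Len 9 H := fun hl => by
  obtain ⟨c, hc, -⟩ := hl.exists_chain
  exact h.len c hc

theorem Hyp.proper_len {H : Subgroup G} {n : ℕ} (hl : Len n H) (hH : H ≠ ⊤) : n ≤ 7 := by
  by_contra hn
  exact h.not_len_nine ((hl.of_le (show 8 ≤ n by omega)).succ (lt_top_iff_ne_top.2 hH))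

theorem Hyp.normal_eq (N : Subgroup G) (hN : N.Normal) : N = ⊥ ∨ N = ⊤ := h.simple.eq_bot_or_eq_top_of_normal N hN

theorem Hyp.ne_top : (S : Subgroup G) ≠ ⊤ := fun e => by
  haveI := h.simple
  haveI := S.isPGroup'.isNilpotent
  refine h.nonab ⟨⟨IsSimpleGroup.comm_iff_isSolvable.2 ?_⟩⟩
  haveI : Group.IsSolvable (⊤ : Subgroup G) := e ▸ (inferInstance : Group.IsSolvable (S : Subgroup G))
  exact Group.isSolvable_of_isSolvable_injective (f := (topEquiv (G := G)).symm.toMonoidHom) topEquiv.symm.injective

theorem Hyp.sylow_maximal {K : Subgroup G} (hK : (S : Subgroup G) ≤ K) : K = S ∨ K = ⊤ := by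
  by_contra! hne
  have := h.proper_len ((len_two_group h.card).succ (lt_of_le_of_ne hK hne.1.symm)) hne.2
  omega

theorem Hyp.normalizer_sylow : normalizer ((S : Subgroup G) : Set G) = S := by
  rcases h.sylow_maximal le_normalizer with e | e
  · exact e
  · haveI := normalizer_eq_top_iff.1 e
    rcases h.normal_eq (S : Subgroup G) inferInstance with e1 | e1
    · have := h.card; rw [e1, card_bot] at this; norm_num at this
    · exact absurd e1 h.ne_top

theorem Hyp.centralizer_eq {z : G} (hz1 : z ≠ 1) (hzc : ∀ x ∈ (S : Subgroup G), x * z = z * x) :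
    centralizer ({z} : Set G) = S := by
  rcases h.sylow_maximal (fun x hx => mem_centralizer_singleton_iff.2 (hzc x hx)) with e | e
  · exact e
  · exfalso
    have hz : z ∈ center G := mem_center_iff.2 fun g => mem_centralizer_singleton_iff.1 (e ▸ mem_top g)
    rcases h.normal_eq (center G) inferInstance with e1 | e1
    · rw [e1, mem_bot] at hz; exact hz1 hz
    · exact h.nonab ⟨⟨fun a b => mem_center_iff.1 (e1 ▸ mem_top b) a⟩⟩

omit h in
theorem exists_central (hc : Nat.card (S : Subgroup G) = 2 ^ 7) :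
    ∃ z ∈ (S : Subgroup G), z ≠ 1 ∧ z * z = 1 ∧ ∀ x ∈ (S : Subgroup G), x * z = z * x := by
  haveI : Fact (Nat.Prime 2) := ⟨Nat.prime_two⟩
  haveI : Nontrivial (S : Subgroup G) := Finite.one_lt_card_iff_nontrivial.1 (hc ▸ by norm_num)
  haveI := S.isPGroup'.center_nontrivial
  obtain ⟨a, ha⟩ := IsPGroup.iff_card.1 (S.isPGroup'.to_subgroup (center (S : Subgroup G)))
  have h2 : 2 ∣ Nat.card (center (S : Subgroup G)) := by
    rw [ha]
    refine dvd_pow_self 2 fun e => ?_
    rw [e, pow_zero] at ha
    exact (Finite.one_lt_card (α := center (S : Subgroup G))).ne' ha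
  obtain ⟨z, hz⟩ := exists_prime_orderOf_dvd_card' 2 h2
  refine ⟨((z : (S : Subgroup G)) : G), (z : (S : Subgroup G)).2, fun e => ?_, ?_, fun x hx =>
    congrArg Subtype.val (mem_center_iff.1 z.2 ⟨x, hx⟩)⟩
  · rw [← Subgroup.orderOf_coe, ← Subgroup.orderOf_coe, e, orderOf_one] at hz
    omega
  · have := pow_orderOf_eq_one z
    rw [hz, sq] at this
    exact_mod_cast congrArg (fun y : center (S : Subgroup G) => ((y : (S : Subgroup G)) : G)) this

end Cfsg.Agent.Fus.LenEight
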