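import Mathlib
import Cfsg.Agent.Lib.Grp.Basic
import Cfsg.Agent.Lib.Grp.DisconnectedGraph

/-!
# Two small quotient lemmas (for S3250)
-/

set_option autoImplicit false
set_option linter.style.haveILetI false

namespace Cfsg.Agent.Fus.LenEight

open Subgroup

universe u

/-- In a group of order twice an odd number an involution and a distinct conjugate generate no 2-group. -/
theorem exists_pair_two {Q : Type u} [Group Q] [Finite Q] {k : ℕ} (hQ : Nat.card Q = 2 * k) (hk : Odd k)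
    {B B' : Q} (hB : B * B = 1) (hB1 : B ≠ 1) (hB' : B' * B' = 1) (hB'1 : B' ≠ 1) (hne : B' ≠ B) (j : ℕ) :
    (B * B') ^ 2 ^ j ≠ 1 := by
  haveI : Fact (Nat.Prime 2) := ⟨Nat.prime_two⟩
  intro hpow
  obtain ⟨i, -, hi⟩ := (Nat.dvd_prime_pow Nat.prime_two).1 (orderOf_dvd_of_pow_eq_one hpow)
  have hd : orderOf (B * B') ∣ 2 := by
    rcases Nat.lt_or_ge i 2 with h2 | h2
    · rw [hi]; exact (Nat.pow_dvd_pow 2 (show i ≤ 1 by omega)).trans (by norm_num)
    · exfalso
      have h4 : 4 ∣ 2 * k := by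
        rw [← hQ]
        exact ((show 4 = 2 ^ 2 by norm_num) ▸ Nat.pow_dvd_pow 2 h2).trans (hi ▸ orderOf_dvd_natCard _)
      obtain ⟨t, ht⟩ := hk
      omega
  have hsq : (B * B') * (B * B') = 1 := by
    have := orderOf_dvd_iff_pow_eq_one.1 hd
    rwa [sq] at this
  have hcomm : B * B' = B' * B := by
    calc B * B' = (B * B')⁻¹ := (inv_eq_of_mul_eq_one_right hsq).symm
      _ = B' * B := by rw [mul_inv_rev, inv_eq_of_mul_eq_one_right hB, inv_eq_of_mul_eq_one_right hB']
  have hoB : Nat.card (zpowers B) = 2 := by rw [Nat.card_zpowers]; exact orderOf_eq_prime (by rw [sq, hB]) hB1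
  have hoB' : Nat.card (zpowers B') = 2 := by rw [Nat.card_zpowers]; exact orderOf_eq_prime (by rw [sq, hB']) hB'1
  have hnorm : zpowers B ≤ normalizer (zpowers B' : Set Q) := by
    refine zpowers_le.2 (le_trans ?_ (centralizer_le_normalizer _) (mem_zpowers B))
    refine zpowers_le.2 (mem_centralizer_iff.2 fun g hg => ?_)
    obtain ⟨i, rfl⟩ := mem_zpowers_iff.1 hg
    exact ((show Commute B' B from hcomm.symm).zpow_left i).eq
  have hinf : zpowers B ⊓ zpowers B' = ⊥ := by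
    by_contra hne'
    have h1 := card_dvd_of_le (inf_le_left : zpowers B ⊓ zpowers B' ≤ zpowers B)
    rw [hoB, Nat.dvd_prime Nat.prime_two] at h1
    have hc := h1.resolve_left fun e => hne' (card_eq_one.1 e)
    have e1 := eq_of_le_of_card_ge (inf_le_left : zpowers B ⊓ zpowers B' ≤ zpowers B) (by rw [hc, hoB])
    have hmem : B ∈ zpowers B' := (e1.ge (mem_zpowers B)).2
    obtain ⟨o, ho⟩ := (Nat.card_eq_two_iff' (1 : zpowers B')).1 hoB'
    exact hne (congrArg Subtype.val ((ho.2 ⟨B', mem_zpowers B'⟩ fun e => hB'1 (congrArg Subtype.val e)).trans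
      (ho.2 ⟨B, hmem⟩ fun e => hB1 (congrArg Subtype.val e)).symm))
  have hc := Grp.card_sup_mul_card_inf hnorm
  rw [hinf, card_bot, mul_one, hoB, hoB'] at hc
  have := card_subgroup_dvd_card (zpowers B ⊔ zpowers B')
  rw [hc, hQ] at this
  obtain ⟨t, ht⟩ := hk
  omega

/-- A solvable group of order `2^c k` without normal 2-subgroups is a Frobenius-like group. -/
theorem cyclic_quot {Q : Type u} [Group Q] [Finite Q] [Group.IsSolvable Q] {c k : ℕ}
    (hQ : Nat.card Q = 2 ^ c * k) (hk : k.Prime) (hk2 : k ≠ 2)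
    (hcore : ∀ R : Subgroup Q, R.Normal → IsPGroup 2 R → R = ⊥) (R : Subgroup Q) (hR : Nat.card R = 2 ^ c) :
    IsCyclic R ∧ 2 ^ c ∣ k - 1 ∧ ∀ B ∈ R, B * B = 1 → B ≠ 1 → ∃ f, orderOf (B * (f * B * f⁻¹)) = k := by
  haveI : Fact (Nat.Prime 2) := ⟨Nat.prime_two⟩
  haveI : Fact k.Prime := ⟨hk⟩
  haveI : Nontrivial Q := Finite.one_lt_card_iff_nontrivial.1 (by
    rw [hQ]; exact lt_of_lt_of_le hk.one_lt (Nat.le_mul_of_pos_left k (Nat.two_pow_pos c)))
  obtain ⟨p, P, hp, hPn, hPp, hP1⟩ := Grp.Graph.exists_normal_pGroup (G := Q)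
  haveI : Fact p.Prime := ⟨hp⟩
  obtain ⟨i, hi⟩ := IsPGroup.iff_card.1 hPp
  have hi0 : i ≠ 0 := fun e => hP1 (card_eq_one.1 (by rw [hi, e, pow_zero]))
  have hpd : p ∣ 2 ^ c * k := hQ ▸ (hi ▸ dvd_pow_self p hi0 : p ∣ Nat.card P).trans (card_subgroup_dvd_card P)
  have hpk : p = k := by
    rcases (hp.dvd_mul).1 hpd with h | h
    · have := (Nat.prime_dvd_prime_iff_eq hp Nat.prime_two).1 (hp.dvd_of_dvd_pow h)
      subst this
      exact absurd (hcore P hPn hPp) hP1
    · exact (Nat.prime_dvd_prime_iff_eq hp hk).1 h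
  have hcop : Nat.Coprime (2 ^ c) k := ((Nat.coprime_primes Nat.prime_two hk).2 (Ne.symm hk2)).pow_left c
  have hPk : Nat.card P = k := by
    subst hpk
    refine Nat.dvd_antisymm ?_ (hi ▸ dvd_pow_self p hi0)
    have h1 : Nat.card P ∣ 2 ^ c * p := hQ ▸ card_subgroup_dvd_card P
    refine (Nat.Coprime.dvd_mul_left ?_).1 h1
    rw [hi]
    exact (hcop.symm.pow_left i)
  haveI := hPn
  have hsup : R ⊔ P = ⊤ := eq_top_of_card_eq _ (by
    rw [Grp.card_sup_coprime (by rw [normalizer_eq_top]; exact le_top) (by rw [hR, hPk]; exact hcop), hR, hPk, hQ])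
  have hker : R ⊓ centralizer (P : Set Q) = ⊥ := by
    refine hcore _ ?_ (IsPGroup.to_le (IsPGroup.of_card hR) inf_le_left)
    rw [← normalizer_eq_top_iff, eq_top_iff, ← hsup, sup_le_iff]
    refine ⟨fun r hr => mem_normalizer_fintype fun t ht => ⟨?_, ?_⟩, fun q hq => mem_normalizer_fintype fun t ht => ?_⟩
    · exact R.mul_mem (R.mul_mem hr ht.1) (R.inv_mem hr)
    · exact (inferInstance : (centralizer (P : Set Q)).Normal).conj_mem t ht.2 r
    · have := mem_centralizer_iff.1 ht.2 q hq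
      show q * t * q⁻¹ ∈ _
      rwa [this, mul_inv_cancel_right]
  let φ : R →* MulAut P := (MulAut.conjNormal (H := P)).comp R.subtype
  have hφ : Function.Injective φ := by
    rw [← MonoidHom.ker_eq_bot_iff, eq_bot_iff]
    intro r hr
    have h1 : (r : Q) ∈ R ⊓ centralizer (P : Set Q) := ⟨r.2, mem_centralizer_iff.2 fun q hq => by
      have := congrArg Subtype.val (DFunLike.congr_fun (MonoidHom.mem_ker.1 hr) ⟨q, hq⟩)
      simp only [φ, MonoidHom.comp_apply, Subgroup.coe_subtype, MulAut.conjNormal_apply, MulAut.one_apply] at this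
      exact ((mul_inv_eq_iff_eq_mul.1 this)).symm⟩
    rw [hker, mem_bot] at h1
    exact mem_bot.2 (Subtype.ext h1)
  haveI : IsCyclic P := isCyclic_of_prime_card hPk
  haveI : IsCyclic (MulAut P) := by
    haveI : IsCyclic (ZMod (Nat.card P))ˣ := by rw [hPk]; infer_instance
    exact isCyclic_of_surjective (IsCyclic.mulAutMulEquiv P).symm.toMonoidHom (MulEquiv.surjective _)
  refine ⟨isCyclic_of_injective φ hφ, ?_, fun B hB hB2 hB1 => ?_⟩
  · have := card_dvd_of_injective φ hφ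
    rwa [hR, IsCyclic.card_mulAut, hPk, Nat.totient_prime hk] at this
  · obtain ⟨f, hf, hfB⟩ : ∃ f ∈ P, f * B ≠ B * f := by
      by_contra! hall
      exact hB1 (mem_bot.1 (hker ▸ ⟨hB, mem_centralizer_iff.2 fun q hq => hall q hq⟩))
    refine ⟨f, ?_⟩
    have hBi : B⁻¹ = B := inv_eq_of_mul_eq_one_right hB2
    have hmem : B * (f * B * f⁻¹) ∈ P := by
      rw [show B * (f * B * f⁻¹) = (B * f * B⁻¹) * f⁻¹ by rw [hBi]; group]
      exact mul_mem (hPn.conj_mem f hf B) (inv_mem hf)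
    have h1 : orderOf (B * (f * B * f⁻¹)) ∣ k := hPk ▸ orderOf_dvd_natCard P hmem
    refine ((Nat.dvd_prime hk).1 h1).resolve_left fun e => hfB ?_
    have h2 := orderOf_eq_one_iff.1 e
    have h3 : f * B * f⁻¹ = B := by
      exact (eq_inv_of_mul_eq_one_right h2).trans hBi
    exact mul_inv_eq_iff_eq_mul.1 h3

end Cfsg.Agent.Fus.LenEight
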