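import Cfsg.Agent.Lib.Fus.LengthEight.EssBasics
import Cfsg.Agent.Lib.Fus.LengthEight.Quot

/-!
# The data attached to an essential subgroup (for S3250)
-/

set_option autoImplicit false
set_option linter.style.haveILetI false

namespace Cfsg.Agent.Fus.LenEight

open Subgroup

universe u

variable {G : Type u} [Group G] [Finite G] {S : Sylow 2 G}

/-- The element of `T - U`, its inverted element of order three, and the splitting. -/
structure Data (S : Sylow 2 G) (U : Subgroup G) where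
  b : G
  y : G
  b_mem : b ∈ nS S U
  b_notU : b ∉ U
  y_mem : y ∈ normalizer (U : Set G)
  split : Split U b y
  card_T : Nat.card (nS S U) = 2 * Nat.card U
  gen : ∀ K : Subgroup G, nS S U ≤ K → y ∈ K → normalizer (U : Set G) ≤ K

/-- Elementwise commutativity. -/
def Ab (U : Subgroup G) : Prop := ∀ a ∈ U, ∀ c ∈ U, a * c = c * a

theorem comap_pgroup {U : Subgroup G} (hU : IsPGroup 2 U) :
    IsPGroup 2 (QuotientGroup.mk' (U.subgroupOf (normalizer (U : Set G)))).ker := by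
  rw [QuotientGroup.ker_mk']
  exact hU.of_equiv (subgroupOfEquivOfLe le_normalizer).symm

variable (h : Hyp G S) {z : G} (hz : Cen S z) {U : Subgroup G} (hU : Ess S U)
include hU

theorem Ess.normal_two_le (R : Subgroup (normalizer (U : Set G) ⧸ U.subgroupOf (normalizer (U : Set G))))
    (hR : R.Normal) (hRp : IsPGroup 2 R) : R = ⊥ := by
  rw [eq_bot_iff]
  intro r hr
  obtain ⟨n, rfl⟩ := QuotientGroup.mk'_surjective _ r
  set K := R.comap (QuotientGroup.mk' (U.subgroupOf (normalizer (U : Set G))))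
  have hK : IsPGroup 2 K := hRp.comap_of_ker_isPGroup _ (comap_pgroup hU.pgroup)
  have h1 := hU.core (K.map (normalizer (U : Set G)).subtype) (map_subtype_le _)
    (hK.map (normalizer (U : Set G)).subtype) (by
      rintro g hg _ ⟨t, ht, rfl⟩
      exact ⟨⟨g, hg⟩ * t * ⟨g, hg⟩⁻¹, (hR.comap _).conj_mem t ht ⟨g, hg⟩, rfl⟩)
  exact mem_bot.2 ((QuotientGroup.eq_one_iff n).2 (mem_subgroupOf.2 (h1 ⟨n, hr, rfl⟩)))

theorem Ess.quot_card {u a k : ℕ} (hs : Sizes S U z u a k) :
    Nat.card (normalizer (U : Set G) ⧸ U.subgroupOf (normalizer (U : Set G))) = 2 ^ (a - u) * k := by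
  have h1 := (U.subgroupOf (normalizer (U : Set G))).card_eq_card_quotient_mul_card_subgroup
  rw [Nat.card_congr (subgroupOfEquivOfLe (le_normalizer : U ≤ normalizer (U : Set G))).toEquiv, hs.cardN,
    hs.cardU] at h1
  refine Nat.eq_of_mul_eq_mul_right (Nat.two_pow_pos u) ?_
  rw [← h1, mul_right_comm, ← pow_add, Nat.sub_add_cancel hs.lt.le]

/-- Some conjugate of `b` gives with `b` a product which is no 2-element modulo `U`. -/
theorem Ess.exists_pair {u a k : ℕ} (hs : Sizes S U z u a k) (hT : a = u + 1) {b : G}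
    (hb : b ∈ nS S U) (hbU : b ∉ U) :
    ∃ g ∈ normalizer (U : Set G), ¬ ∃ j : ℕ, (b * (g * b * g⁻¹)) ^ 2 ^ j ∈ U := by
  set N := normalizer (U : Set G)
  have hQ := hU.quot_card hs
  rw [show a - u = 1 by omega, pow_one] at hQ
  set π := QuotientGroup.mk' (U.subgroupOf N)
  set B : N := ⟨b, hb.2⟩
  have hU2 : U.relIndex (nS S U) = 2 :=
    rel_two hU.le_nS (by rw [hs.cardT, hs.cardU, hT, pow_succ'])
  have hBB : π B * π B = 1 := by
    rw [← map_mul]; exact (QuotientGroup.eq_one_iff _).2 (rel_sq hU2 hb)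
  have hB1 : π B ≠ 1 := fun e => hbU ((QuotientGroup.eq_one_iff B).1 e)
  obtain ⟨g, hg⟩ : ∃ g : N, π (g * B * g⁻¹) ≠ π B := by
    by_contra! hall
    have hnorm : (zpowers (π B)).Normal := ⟨fun x hx q => by
      obtain ⟨g, rfl⟩ := QuotientGroup.mk'_surjective _ q
      obtain ⟨i, rfl⟩ := mem_zpowers_iff.1 hx
      rw [← conj_zpow, show π g * π B * (π g)⁻¹ = π B by rw [← map_inv, ← map_mul, ← map_mul]; exact hall g]
      exact zpow_mem (mem_zpowers _) i⟩
    have hp : IsPGroup 2 (zpowers (π B)) := IsPGroup.of_card (n := 1) (by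
      haveI : Fact (Nat.Prime 2) := ⟨Nat.prime_two⟩
      rw [Nat.card_zpowers, pow_one]; exact orderOf_eq_prime (by rw [sq, hBB]) hB1)
    exact hB1 (mem_bot.1 (hU.normal_two_le _ hnorm hp ▸ mem_zpowers _))
  refine ⟨g, g.2, fun ⟨j, hj⟩ => exists_pair_two hQ hs.odd hBB hB1 ?_ ?_ hg j ?_⟩
  · simp only [map_mul, map_inv, conj_mul, hBB, mul_one, mul_inv_cancel]
  · rw [map_mul, map_mul, map_inv]; exact fun e => hB1 (conj_eq_one_iff.1 e)
  · rw [← map_mul, ← map_pow]
    exact (QuotientGroup.eq_one_iff _).2 (mem_subgroupOf.2 hj)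

/-- A centralised subgroup of index at most two has index exactly two. -/
theorem Ess.hyper_exact {b : G} (hbU : b ∉ U) (hH : Nat.card U ≤ 2 * Nat.card ↥(U ⊓ centralizer ({b} : Set G))) :
    Nat.card U = 2 * Nat.card ↥(U ⊓ centralizer ({b} : Set G)) := by
  refine le_antisymm hH (double_le (S := S) hU.le (lt_of_le_of_ne inf_le_left fun e => hbU ?_))
  refine hU.cent (mem_centralizer_iff.2 fun u hu => ?_)
  exact mem_centralizer_singleton_iff.1 (e.ge hu).2

include h hz

theorem Ess.data_of_hyper {u a k : ℕ} (hs : Sizes S U z u a k) (hT : a = u + 1) (hk : k.Prime) {b : G}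
    (hb : b ∈ nS S U) (hbU : b ∉ U) (hH : Nat.card U ≤ 2 * Nat.card ↥(U ⊓ centralizer ({b} : Set G))) :
    Nonempty (Data S U) := by
  obtain ⟨g, hg, hno⟩ := hU.exists_pair hs hT hb hbU
  have hU2 : U.relIndex (nS S U) = 2 :=
    rel_two hU.le_nS (by rw [hs.cardT, hs.cardU, hT, pow_succ'])
  obtain ⟨y, hyN, -, hyo, hy1, ⟨d⟩⟩ := exists_split_of_pair hU.pgroup hU.cent (hU.z_mem hz) (hU.z_comm hz) hz.sq
    (fun g hg e => h.fix_z hz hg e) hb.2 hg (rel_sq hU2 hb) (H0 := U ⊓ centralizer ({b} : Set G)) inf_le_left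
    (hU.hyper_exact hbU hH) (fun c hc => (mem_centralizer_singleton_iff.1 hc.2).symm) hno
  refine ⟨⟨b, y, hb, hbU, hyN, d, by rw [hs.cardT, hs.cardU, hT, pow_succ'], fun K hK hyK => ?_⟩⟩
  have hdvd := card_dvd_of_le (inf_le_right : K ⊓ normalizer (U : Set G) ≤ normalizer (U : Set G))
  have hle : nS S U ≤ K ⊓ normalizer (U : Set G) := le_inf hK inf_le_right
  obtain ⟨m, hm⟩ := card_dvd_of_le hle
  rw [hs.cardN, hm, hs.cardT] at hdvd
  have hmk : m ∣ k := Nat.dvd_of_mul_dvd_mul_left (Nat.two_pow_pos a) hdvd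
  rcases (Nat.dvd_prime hk).1 hmk with e | e
  · exfalso
    have := eq_of_le_of_card_ge hle (by rw [hm, e, mul_one])
    exact not_mem_of_odd S.isPGroup' hyo hy1 (this.ge ⟨hyK, hyN⟩).1
  · exact (eq_of_le_of_card_ge (inf_le_right : K ⊓ normalizer (U : Set G) ≤ _)
      (by rw [hm, hs.cardT, hs.cardN, e])).ge.trans inf_le_left

/-- An element of `S - T` normalising `T`. -/
theorem Ess.exists_x :
    ∃ x ∈ (S : Subgroup G), x ∉ nS S U ∧ x ∈ normalizer (nS S U : Set G) ∧
      U.map (MulAut.conj x).toMonoidHom ≤ nS S U ∧ U.map (MulAut.conj x).toMonoidHom ≠ U ∧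
      ∀ t ∈ nS S U, ∀ q ∈ U.map (MulAut.conj x).toMonoidHom, t * q * t⁻¹ ∈ U.map (MulAut.conj x).toMonoidHom := by
  obtain ⟨x, hxS, hxT, hxN⟩ := exists_normalizing (S := S) le_rfl (hU.nS_lt h hz)
  refine ⟨x, hxS, hxT, hxN, ?_, fun e => hxT ⟨hxS, Grp.mem_normalizer_of_map_eq.2 e⟩, fun t ht q hq => ?_⟩
  · rintro _ ⟨a, ha, rfl⟩
    exact (mem_normalizer_iff.1 hxN a).1 (hU.le_nS ha)
  · have hxt : x⁻¹ * t * x ∈ nS S U := by simpa using (mem_normalizer_iff.1 (inv_mem hxN) t).1 ht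
    rw [mem_conj] at hq ⊢
    have := (mem_normalizer_iff.1 hxt.2 _).1 hq
    simpa [mul_assoc] using this

/-- Two halves of `T`. -/
theorem Ess.two_halves {u a k : ℕ} (hs : Sizes S U z u a k) (hT : a = u + 1) {x : G}
    (hle : U.map (MulAut.conj x).toMonoidHom ≤ nS S U) (hne : U.map (MulAut.conj x).toMonoidHom ≠ U) :
    Nat.card U = 2 * Nat.card ↥(U ⊓ U.map (MulAut.conj x).toMonoidHom) := by
  have hc : Nat.card (nS S U) = 2 * Nat.card U := by rw [hs.cardT, hs.cardU, hT, pow_succ']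
  have := inf_card hU.le_nS hle hc (by rw [card_conj, hc]) (Ne.symm hne)
  omega

end Cfsg.Agent.Fus.LenEight
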