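import Cfsg.Agent.Lib.Fus.LengthEight.Orbits

/-!
# No essential subgroups of order sixteen only (for S3250)
-/

set_option autoImplicit false
set_option linter.style.haveILetI false

namespace Cfsg.Agent.Fus.LenEight

open Subgroup
open scoped Pointwise

universe u

variable {G : Type u} [Group G] [Finite G] {S : Sylow 2 G}

theorem Data.sixteen (h : Hyp G S) {z : G} (hz : Cen S z) {U : Subgroup G} (hU : Ess S U) (d : Data S U)
    (hall : ∀ V : Subgroup G, Ess S V → Nat.card V = 16) :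
    (∀ q ∈ U, q * q = 1) ∧ ∃ (V : Subgroup G) (_ : Ess S V) (_ : Data S V) (g : G), g ∈ V ∧ g * g ≠ 1 := by
  haveI : Fact (Nat.Prime 2) := ⟨Nat.prime_two⟩
  have h16 := hall U hU
  have hUab : Ab U := (h.ess_small hz hU).2
  obtain ⟨T, hT⟩ : ∃ T, T = nS S U := ⟨_, rfl⟩
  have hTS : T ≤ (S : Subgroup G) := hT ▸ inf_le_left
  have hUT : U ≤ T := hT ▸ hU.le_nS
  have hbT : d.b ∈ T := hT ▸ d.b_mem
  have hcT : Nat.card T = 32 := by rw [hT, d.card_T, h16]
  have hiU : U.relIndex T = 2 := hT ▸ d.iU hU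
  obtain ⟨C, hC⟩ : ∃ C, C = d.split.C := ⟨_, rfl⟩
  have hcC : Nat.card C = 4 := by have := d.split.card; rw [← hC] at this; omega
  obtain ⟨v0, hv0⟩ : ∃ v0, v0 = d.split.v := ⟨_, rfl⟩
  have hv0U : v0 ∈ U := hv0 ▸ d.split.v_mem
  have hv00 : v0 * v0 = 1 := hv0 ▸ d.split.v_sq
  -- the centre of `T`
  obtain ⟨A, hA⟩ : ∃ A, A = U ⊓ centralizer ({d.b} : Set G) := ⟨_, rfl⟩
  have memA : ∀ q, q ∈ A ↔ q ∈ U ∧ q * d.b = d.b * q := fun q => by
    rw [hA, mem_inf, mem_centralizer_singleton_iff]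
  have hAU : A ≤ U := fun q hq => ((memA q).1 hq).1
  have hCA : C ≤ A := fun q hq => (memA q).2 ⟨d.split.C_le (hC ▸ hq), (d.split.b_C q (hC ▸ hq)).symm⟩
  have hv0A : v0 ∉ A := fun e => d.bv_ne (hv0 ▸ ((memA v0).1 e).2.symm)
  have hcA : Nat.card A = 8 := by
    have hCw : C < A := lt_of_le_of_ne hCA fun e =>
      d.split.w_notC (hC ▸ e.ge ((memA _).2 ⟨d.split.w_mem, d.split.b_w.symm⟩))
    have h1 := double_le (S := S) (hAU.trans hU.le) hCw
    have h2 := double_le (S := S) hU.le (lt_of_le_of_ne hAU fun e => hv0A (e.ge hv0U))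
    omega
  have hcentT : ∀ q ∈ A, ∀ t ∈ T, t * q = q * t := by
    intro q hq t ht
    obtain ⟨hqU, hqb⟩ := (memA q).1 hq
    rcases d.cases_T hU (hT ▸ ht) with e | e
    · exact hUab t e q hqU
    · have h1 : Commute d.b q := hqb.symm
      have h2 : Commute (d.b⁻¹ * t) q := hUab _ e q hqU
      have := h1.mul_left h2
      rwa [mul_inv_cancel_left] at this
  have hcentA : ∀ q, (∀ t ∈ T, t * q = q * t) → q ∈ A := fun q hq =>
    (memA q).2 ⟨hU.cent (mem_centralizer_iff.2 fun t ht => hq t (hUT ht)), (hq d.b hbT).symm⟩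
  have hAnorm : ∀ {g}, g ∈ normalizer (T : Set G) → ∀ q ∈ A, g * q * g⁻¹ ∈ A := fun {g} hg q hq =>
    hcentA _ fun t ht => by
      have := hcentT q hq (g⁻¹ * t * g) (by simpa using (mem_normalizer_iff.1 (inv_mem hg) t).1 ht)
      have := congrArg (fun s => g * s * g⁻¹) this
      simpa [mul_assoc] using this
  have hTsq : ∀ t ∈ T, t * t ∈ A := by
    intro t ht
    refine (memA _).2 ⟨rel_sq hiU ht, ?_⟩
    rcases d.cases_T hU (hT ▸ ht) with e | e
    · exact ((memA _).1 (hCA (hC ▸ d.split.sq_mem t e))).2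
    · have h1 : Commute (t * t) t := (Commute.refl t).mul_left (Commute.refl t)
      have h2 : Commute (t * t) (d.b⁻¹ * t) := hUab _ (rel_sq hiU ht) _ e
      have := h1.mul_right h2.inv_right
      rwa [mul_inv_rev, inv_inv, mul_inv_cancel_left] at this
  have hiA : A.relIndex U = 2 := rel_two hAU (by omega)
  -- elements normalising `A` and fixing the class of `v0` normalise `U`
  have hnormU : ∀ g : G, (∀ q ∈ A, g * q * g⁻¹ ∈ A) → g * v0 * g⁻¹ ∈ U → g ∈ normalizer (U : Set G) := by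
    intro g hg hgv
    refine mem_normalizer_fintype fun q hq => ?_
    by_cases hqA : q ∈ A
    · exact hAU (hg q hqA)
    · have hm : v0⁻¹ * q ∈ A :=
        (rel_mul hiA (inv_mem hv0U) hq).2 (iff_of_false (fun e => hv0A (inv_mem_iff.1 e)) hqA)
      show g * q * g⁻¹ ∈ U
      rw [show g * q * g⁻¹ = g * v0 * g⁻¹ * (g * (v0⁻¹ * q) * g⁻¹) by group]
      exact mul_mem hgv (hAU (hg _ hm))
  -- `T` is not normal in `S`
  have hnotn : ¬ (S : Subgroup G) ≤ normalizer (T : Set G) := by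
    intro hle
    obtain ⟨P, hP⟩ : ∃ P, P = T ⊓ centralizer ({d.b} : Set G) := ⟨_, rfl⟩
    have hAP : A ≤ P := fun q hq => hP ▸ ⟨hUT (hAU hq), mem_centralizer_singleton_iff.2 ((memA q).1 hq).2⟩
    have hbP : d.b ∈ P := hP ▸ ⟨hbT, mem_centralizer_singleton_iff.2 rfl⟩
    have hPT : P ≤ T := hP ▸ inf_le_left
    have hiP : P.relIndex T = 2 := by
      have h1 := double_le (S := S) (hPT.trans hTS)
        (lt_of_le_of_ne hAP fun e => d.b_notU (hAU (e.ge hbP)))
      have h2 := double_le (S := S) hTS (lt_of_le_of_ne hPT fun e =>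
        d.bv_ne (hv0 ▸ (mem_centralizer_singleton_iff.1 (hP ▸ e.ge (hUT hv0U) : v0 ∈ T ⊓ _).2).symm))
      exact rel_two hPT (by omega)
    have hUP : ∀ q, q ∈ U → q ∈ P → q ∈ A := fun q h1 h2 =>
      (memA q).2 ⟨h1, mem_centralizer_singleton_iff.1 (hP ▸ h2 : q ∈ T ⊓ _).2⟩
    classical
    have hconjT : ∀ s ∈ (S : Subgroup G), s * v0 * s⁻¹ ∈ T := fun s hs =>
      (mem_normalizer_iff.1 (hle hs) v0).1 (hUT hv0U)
    let f : (S : Subgroup G) ⧸ T.subgroupOf (S : Subgroup G) → Bool × Bool := fun q =>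
      (decide ((q.out : G) * v0 * (q.out : G)⁻¹ ∈ U), decide ((q.out : G) * v0 * (q.out : G)⁻¹ ∈ P))
    have hinj : Function.Injective f := by
      intro p q e
      simp only [f, Prod.mk.injEq, decide_eq_decide] at e
      rw [← QuotientGroup.out_eq' p, ← QuotientGroup.out_eq' q]
      refine QuotientGroup.eq.2 (mem_subgroupOf.2 ?_)
      rw [coe_mul, coe_inv]
      refine hT.ge ⟨(S : Subgroup G).mul_mem ((S : Subgroup G).inv_mem p.out.2) q.out.2, hnormU _ (hAnorm (hle (mul_mem (inv_mem p.out.2) q.out.2))) ?_⟩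
      have hα : ((p.out : G) * v0 * (p.out : G)⁻¹)⁻¹ * ((q.out : G) * v0 * (q.out : G)⁻¹) ∈ A := by
        have m1 := hconjT _ p.out.2
        have m2 := hconjT _ q.out.2
        exact hUP _ ((rel_mul hiU (inv_mem m1) m2).2 (inv_mem_iff.trans e.1))
          ((rel_mul hiP (inv_mem m1) m2).2 (inv_mem_iff.trans e.2))
      have h2 := hAnorm (hle (inv_mem p.out.2)) _ hα
      rw [show ((p.out : G)⁻¹ * (q.out : G)) * v0 * ((p.out : G)⁻¹ * (q.out : G))⁻¹ =
        v0 * ((p.out : G)⁻¹ * (((p.out : G) * v0 * (p.out : G)⁻¹)⁻¹ * ((q.out : G) * v0 * (q.out : G)⁻¹)) *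
          (p.out : G)⁻¹⁻¹) by group]
      exact mul_mem hv0U (hAU h2)
    have hrange : Set.range f ⊆ {(true, false), (false, true), (false, false)} := by
      rintro _ ⟨q, rfl⟩
      have hnA : ¬ ((q.out : G) * v0 * (q.out : G)⁻¹ ∈ U ∧ (q.out : G) * v0 * (q.out : G)⁻¹ ∈ P) := fun hm =>
        hv0A (by
          have := hAnorm (hle (inv_mem q.out.2)) _ (hUP _ hm.1 hm.2)
          simpa [mul_assoc] using this)
      simp only [f, Set.mem_insert_iff, Set.mem_singleton_iff, Prod.mk.injEq, decide_eq_true_eq, decide_eq_false_iff_not]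
      tauto
    have h3 := Set.ncard_le_ncard hrange (Set.toFinite _)
    rw [Set.ncard_range_of_injective hinj, ← index_eq_card] at h3
    have h4 := Grp.card_mul_relIndex hTS
    rw [h.card, hcT] at h4
    have h5 : ({(true, false), (false, true), (false, false)} : Set (Bool × Bool)).ncard ≤ 3 := by
      refine (Set.ncard_insert_le _ _).trans ?_
      refine Nat.succ_le_succ ((Set.ncard_insert_le _ _).trans ?_)
      rw [Set.ncard_singleton]
    change T.relIndex (S : Subgroup G) ≤ _ at h3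
    omega
  -- `R = N_S(T)`
  obtain ⟨R, hR⟩ : ∃ R, R = (S : Subgroup G) ⊓ normalizer (T : Set G) := ⟨_, rfl⟩
  have hRS : R ≤ (S : Subgroup G) := hR ▸ inf_le_left
  have hRN : R ≤ normalizer (T : Set G) := hR ▸ inf_le_right
  have hTR : T ≤ R := hR ▸ le_inf hTS le_normalizer
  obtain ⟨x, hxR, hxT⟩ : ∃ x ∈ R, x ∉ T := by
    have hne : T ≠ (S : Subgroup G) := fun e => by rw [e, h.card] at hcT; norm_num at hcT
    obtain ⟨x, hxS, hxT, hxN⟩ := exists_normalizing (S := S) le_rfl (lt_of_le_of_ne hTS hne)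
    exact ⟨x, hR ▸ ⟨hxS, hxN⟩, hxT⟩
  have hcR : Nat.card R = 64 := by
    have h1 := double_le (S := S) hRS (lt_of_le_of_ne hTR fun e => hxT (e.ge hxR))
    have h2 := double_le (S := S) le_rfl (lt_of_le_of_ne hRS fun e => hnotn (e.ge.trans hRN))
    rw [h.card] at h2
    omega
  have hiR : R.relIndex (S : Subgroup G) = 2 := rel_two hRS (by rw [h.card, hcR]; norm_num)
  have hiT : T.relIndex R = 2 := rel_two hTR (by omega)
  have hxx : x * x ∈ T := rel_sq hiT hxR
  have hxA : ∀ q ∈ A, x * q * x⁻¹ ∈ A := hAnorm (hRN hxR)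
  -- the involution `f`
  obtain ⟨f, hfC, hf1, hff, hfR⟩ : ∃ f ∈ C, f ≠ 1 ∧ f * f = 1 ∧ ∀ r ∈ R, r * f = f * r := by
    obtain ⟨C', hC'⟩ : ∃ C', C' = C.map (MulAut.conj x).toMonoidHom := ⟨_, rfl⟩
    have memC' : ∀ g, g ∈ C' ↔ x⁻¹ * g * x ∈ C := fun g => hC' ▸ mem_conj
    have hC'A : C' ≤ A := by
      rw [hC']; rintro _ ⟨q, hq, rfl⟩; exact hxA q (hCA hq)
    obtain ⟨D, hD⟩ : ∃ D, D = C ⊓ C' := ⟨_, rfl⟩
    have hD1 : D ≠ ⊥ := by
      intro e
      have hn : C ≤ normalizer (C' : Set G) := fun g hg => mem_normalizer_fintype fun q hq => by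
        have hc := hcentT q (hC'A hq) g (hUT (hAU (hCA hg)))
        show g * q * g⁻¹ ∈ C'
        rw [hc, mul_inv_cancel_right]; exact hq
      have h1 := Grp.card_sup_mul_card_inf hn
      rw [← hD, e, card_bot, mul_one, hcC, hC', card_conj, hcC] at h1
      have h2 := card_le_of_le (sup_le hCA hC'A)
      rw [hC', h1, hcA] at h2
      omega
    have hDA : D ≤ A := hD ▸ inf_le_left.trans hCA
    have hDn : ∀ r ∈ R, ∀ q ∈ D, r * q * r⁻¹ ∈ D := by
      have hfix : ∀ t ∈ T, ∀ q ∈ D, t * q * t⁻¹ = q := fun t ht q hq => by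
        rw [hcentT q (hDA hq) t ht, mul_inv_cancel_right]
      have hx : ∀ q ∈ D, x * q * x⁻¹ ∈ D := by
        intro q hq
        rw [hD] at hq ⊢
        refine ⟨?_, (memC' _).2 (by simpa [mul_assoc] using hq.1)⟩
        have h2 := (memC' q).1 hq.2
        have h3 := hcentT _ (hCA h2) _ hxx
        have : x * q * x⁻¹ = x⁻¹ * q * x := by
          calc x * q * x⁻¹ = (x * x) * (x⁻¹ * q * x) * (x * x)⁻¹ := by group
            _ = _ := by rw [h3, mul_inv_cancel_right]
        rwa [this]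
      intro r hr q hq
      by_cases hrT : r ∈ T
      · rw [hfix r hrT q hq]; exact hq
      · have hm : x⁻¹ * r ∈ T := (rel_mul hiT (inv_mem hxR) hr).2
          (iff_of_false (fun e => hxT (inv_mem_iff.1 e)) hrT)
        rw [show r * q * r⁻¹ = x * ((x⁻¹ * r) * q * (x⁻¹ * r)⁻¹) * x⁻¹ by group, hfix _ hm q hq]
        exact hx q hq
    haveI : (D.subgroupOf R).Normal := ⟨fun q hq r => hDn r r.2 q hq⟩
    haveI := (S.isPGroup'.to_le hRS).isNilpotent
    have h1 : D.subgroupOf R ≠ ⊥ := fun e => hD1 (by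
      rw [subgroupOf_eq_bot] at e
      exact disjoint_self.1 (e.mono_right (hDA.trans (hAU.trans (hUT.trans hTR)))))
    obtain ⟨⟨⟨q, hqR⟩, hq⟩, hq1⟩ := ne_bot_iff_exists_ne_one.1 (Grp.inf_center_ne_bot (D.subgroupOf R) h1)
    have hqD : q ∈ D := mem_subgroupOf.1 hq.1
    have hqc : ∀ r ∈ R, r * q = q * r := fun r hr => congrArg Subtype.val (mem_center_iff.1 hq.2 ⟨r, hr⟩)
    obtain ⟨k, hk⟩ := two_elt_of_mem S.isPGroup' (hRS hqR)
    have hk1 : k ≠ 0 := fun e => hq1 (Subtype.ext (Subtype.ext (orderOf_eq_one_iff.1 (by rw [hk, e, pow_zero]))))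
    obtain ⟨l, rfl⟩ := Nat.exists_eq_succ_of_ne_zero hk1
    refine ⟨q ^ 2 ^ l, (pow_mem (hD ▸ hqD : q ∈ C ⊓ C') _).1, fun e => ?_, ?_,
      fun r hr => ((show Commute r q from hqc r hr).pow_right _).eq⟩
    · have := orderOf_dvd_of_pow_eq_one e
      rw [hk, Nat.pow_dvd_pow_iff_le_right (by norm_num)] at this
      omega
    · rw [← pow_add, ← two_mul, ← pow_succ', ← hk, pow_orderOf_eq_one]
  have hfS : f ∈ (S : Subgroup G) := hTS (hUT (hAU (hCA hfC)))
  -- the element outside `R`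
  obtain ⟨V, hV, d2, hvR⟩ := h.exists_v hz hiR
  obtain ⟨v, hv⟩ : ∃ v, v = d2.split.v := ⟨_, rfl⟩
  rw [← hv] at hvR
  have hvS : v ∈ (S : Subgroup G) := hv ▸ d2.v_memS hV
  have hvv : v * v = 1 := hv ▸ d2.split.v_sq
  have hvi : v⁻¹ = v := inv_eq_of_mul_eq_one_right hvv
  have hmemV : ∀ g ∈ (S : Subgroup G), v * g * v⁻¹ = g → g ∈ V := fun g hg e => by
    rw [← d2.cent_v hV, ← hv]
    exact ⟨hg, mem_centralizer_singleton_iff.2 (mul_inv_eq_iff_eq_mul.1 e).symm⟩
  have hvf : v * f ≠ f * v := fun e => hf1 (d.C_central h hz hU (hC ▸ hfC) fun s hs => by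
    by_cases hsR : s ∈ R
    · exact hfR s hsR
    · have hm : v * s ∈ R := (half_mul hiR hvS hs).2 (iff_of_false hvR hsR)
      have h1 : Commute v f := e
      have h2 : Commute (v * s) f := hfR _ hm
      have := h1.inv_left.mul_left h2
      rwa [inv_mul_cancel_left] at this)
  have hvRn : ∀ r ∈ R, v * r * v⁻¹ ∈ R := fun r hr => (half_conj hiR (hRS hr) hvS).2 hr
  obtain ⟨T', hT'⟩ : ∃ T', T' = T.map (MulAut.conj v).toMonoidHom := ⟨_, rfl⟩
  have memT' : ∀ g, g ∈ T' ↔ v⁻¹ * g * v ∈ T := fun g => hT' ▸ mem_conj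
  have hT'R : T' ≤ R := by
    rw [hT']; rintro _ ⟨t, ht, rfl⟩; exact hvRn t (hTR ht)
  have hT'ne : T' ≠ T := fun e => hvR (hR ▸ ⟨hvS, Grp.mem_normalizer_of_map_eq.2 (hT' ▸ e)⟩)
  have hcT' : Nat.card T' = 32 := by rw [hT', card_conj, hcT]
  have hiT' : T'.relIndex R = 2 := rel_two hT'R (by omega)
  obtain ⟨I, hI⟩ : ∃ I, I = T ⊓ T' := ⟨_, rfl⟩
  have hIT : I ≤ T := hI ▸ inf_le_left
  have hIT' : I ≤ T' := hI ▸ inf_le_right
  have hcI : Nat.card I = 16 := by
    have := inf_card hTR hT'R (by omega) (by omega) (Ne.symm hT'ne)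
    rw [← hI] at this
    omega
  have hRI : ∀ r ∈ R, ∀ q ∈ I, r * q * r⁻¹ ∈ I := fun r hr q hq => by
    rw [hI] at hq ⊢
    exact ⟨(rel_conj hiT hr (hTR hq.1)).2 hq.1, (rel_conj hiT' hr (hT'R hq.2)).2 hq.2⟩
  have hvI : ∀ q ∈ I, v * q * v⁻¹ ∈ I := fun q hq => by
    rw [hI] at hq ⊢
    refine ⟨?_, (memT' _).2 (by simpa [mul_assoc] using hq.1)⟩
    have := (memT' q).1 hq.2
    rwa [hvi] at this ⊢
  -- `A` lies in `I`
  have hAI : A ≤ I := by
    intro a ha
    by_contra haI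
    have haT' : a ∉ T' := fun e => haI (hI ▸ ⟨hUT (hAU ha), e⟩)
    have haR : a ∈ R := hTR (hUT (hAU ha))
    have haNT' : v⁻¹ * a * v ∈ normalizer (T : Set G) := hRN (by
      have := hvRn a haR
      rwa [hvi] at this ⊢)
    obtain ⟨U', hU'⟩ : ∃ U', U' = U.map (MulAut.conj v).toMonoidHom := ⟨_, rfl⟩
    have hU'T : U' ≤ T' := hU' ▸ hT' ▸ map_mono hUT
    by_cases hq : ∃ q ∈ I, v⁻¹ * q * v ∈ U ∧ v⁻¹ * q * v ∉ A
    · obtain ⟨q, hqI, hqU, hqA⟩ := hq
      refine haT' ((memT' a).2 ?_)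
      rw [hT]
      refine ⟨(S : Subgroup G).mul_mem ((S : Subgroup G).mul_mem ((S : Subgroup G).inv_mem hvS) (hRS haR)) hvS, hnormU _ (hAnorm haNT') ?_⟩
      have hm : v0⁻¹ * (v⁻¹ * q * v) ∈ A :=
        (rel_mul hiA (inv_mem hv0U) hqU).2 (iff_of_false (fun e => hv0A (inv_mem_iff.1 e)) hqA)
      have hfix : v⁻¹ * a * v * (v⁻¹ * q * v) * (v⁻¹ * a * v)⁻¹ = v⁻¹ * q * v := by
        calc v⁻¹ * a * v * (v⁻¹ * q * v) * (v⁻¹ * a * v)⁻¹ = v⁻¹ * (a * q * a⁻¹) * v := by group
          _ = _ := by rw [← hcentT a ha q (hIT hqI), mul_inv_cancel_right]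
      have e : v0 = (v⁻¹ * q * v) * (v0⁻¹ * (v⁻¹ * q * v))⁻¹ := by group
      rw [e, ← conj_mul, hfix]
      exact mul_mem hqU (hAU (hAnorm haNT' _ (inv_mem hm)))
    push Not at hq
    refine haI ?_
    have hle : U' ⊓ I ≤ A.map (MulAut.conj v).toMonoidHom := fun q hq' =>
      mem_conj.2 (hq q hq'.2 (mem_conj.1 (hU' ▸ hq'.1 : q ∈ U.map _)))
    have hn : U' ≤ normalizer (I : Set G) := fun r hr => mem_normalizer_fintype fun q hq' =>
      hRI r (hT'R (hU'T hr)) q hq'
    have h1 := Grp.card_sup_mul_card_inf hn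
    have h2 := card_le_of_le (sup_le hU'T hIT')
    rw [hU', card_conj, h16, hcI] at h1
    rw [hcT', hU'] at h2
    have h3 : 8 ≤ Nat.card ↥(U' ⊓ I) := by rw [hU']; nlinarith
    have h4 := eq_of_le_of_card_ge hle (by rw [card_conj, hcA]; exact h3)
    have h5 : v * a * v⁻¹ ∈ U' ⊓ I := h4.ge ⟨a, ha, rfl⟩
    have h6 := hvI _ h5.2
    rw [hvi] at h6
    rw [show v * (v * a * v) * v = (v * v) * a * (v * v) by group, hvv, one_mul, mul_one] at h6
    exact h6
  have hiAI : A.relIndex I = 2 := rel_two hAI (by omega)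
  have hUI : ∀ q ∈ U, q ∈ I → q ∈ A := by
    intro q hqU hqI
    by_contra hqA
    have hUle : U ≤ I := fun p hp => by
      by_cases hpA : p ∈ A
      · exact hAI hpA
      · have hm : q⁻¹ * p ∈ A := (rel_mul hiA (inv_mem hqU) hp).2 (iff_of_false (fun e => hqA (inv_mem_iff.1 e)) hpA)
        simpa using mul_mem hqI (hAI hm)
    have e := eq_of_le_of_card_ge hUle (by omega)
    refine hxT (hT ▸ ⟨hRS hxR, mem_normalizer_fintype fun p hp => ?_⟩)
    exact e.ge (hRI x hxR p (hUle hp))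
  have hv0I : v0 ∉ I := fun e => hv0A (hUI v0 hv0U e)
  obtain ⟨t, ht⟩ : ∃ t, t = v * v0 * v⁻¹ := ⟨_, rfl⟩
  have htT' : t ∈ T' := ht ▸ hT' ▸ ⟨v0, hUT hv0U, rfl⟩
  have htR : t ∈ R := hT'R htT'
  have htt : t * t = 1 := by rw [ht, conj_mul, hv00, mul_one, mul_inv_cancel]
  have htI : t ∉ I := fun e => hv0I (by
    have := hvI t e
    rw [ht, hvi] at this
    rw [show v * (v * v0 * v) * v = (v * v) * v0 * (v * v) by group, hvv, one_mul, mul_one] at this
    exact this)
  have hcentR : ∀ q, (∀ r ∈ R, r * q = q * r) → v * q * v⁻¹ = q → ∀ s ∈ (S : Subgroup G), s * q = q * s := by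
    intro q hq hvq s hs
    by_cases hsR : s ∈ R
    · exact hq s hsR
    · have hm : v * s ∈ R := (half_mul hiR hvS hs).2 (iff_of_false hvR hsR)
      have h1 : Commute v q := mul_inv_eq_iff_eq_mul.1 hvq
      have h2 : Commute (v * s) q := hq _ hm
      have := h1.inv_left.mul_left h2
      rwa [inv_mul_cancel_left] at this
  constructor
  · -- a non-elementary `U` is impossible
    intro q0 hq0
    by_contra hne
    obtain ⟨c, hc, hcc⟩ : ∃ c ∈ C, c * c ≠ 1 := by
      obtain ⟨c, hc, hcases⟩ := d.split.decomp q0 hq0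
      have hw := d.split.w_mem
      have hv' := d.split.v_mem
      have hce : ∀ e, e ∈ U → e * e = 1 → q0 = c * e → c * c ≠ 1 := by
        intro e heU hee he hcc
        refine hne ?_
        rw [he, mul_assoc, ← mul_assoc e, ← hUab c (d.split.C_le hc) e heU, mul_assoc c e e, hee, mul_one, hcc]
      refine ⟨c, hC ▸ hc, ?_⟩
      rcases hcases with e | e | e | e
      · exact fun hcc => hne (e ▸ hcc)
      · exact hce _ hw d.split.w_sq e
      · exact hce _ hv' d.split.v_sq e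
      · refine hce _ (mul_mem hv' hw) ?_ e
        rw [mul_assoc, ← mul_assoc d.split.w, ← d.split.w_central _ hv', mul_assoc d.split.v d.split.w,
          d.split.w_sq, mul_one, d.split.v_sq]
    have hoc : orderOf c = 4 := by
      have h1 := orderOf_dvd_natCard _ hc
      rw [hcC] at h1
      obtain ⟨i, hi, e⟩ := (Nat.dvd_prime_pow Nat.prime_two).1 (show orderOf c ∣ 2 ^ 2 from h1)
      interval_cases i
      · exact absurd (by rw [orderOf_eq_one_iff.1 e, mul_one]) hcc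
      · exact absurd (by rw [← sq, ← pow_one 2, ← e, pow_orderOf_eq_one]) hcc
      · exact e
    have hfc : f = c * c := by
      have hgen : zpowers c = C := eq_of_le_of_card_ge (zpowers_le.2 hc) (by rw [Nat.card_zpowers, hoc, hcC])
      obtain ⟨i, hi⟩ := mem_zpowers_iff.1 (hgen.ge hfC)
      have h2 : c ^ (2 * i) = 1 := by rw [two_mul, zpow_add, hi, hff]
      rw [← orderOf_dvd_iff_zpow_eq_one, hoc] at h2
      obtain ⟨m, hm⟩ := h2
      have hi2 : i = 2 * m := by push_cast at hm; omega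
      rcases Int.even_or_odd' m with ⟨l, rfl | rfl⟩
      · exfalso; refine hf1 ?_
        rw [← hi, hi2, show 2 * (2 * l) = (orderOf c : ℤ) * l by rw [hoc]; ring, zpow_mul, zpow_natCast,
          pow_orderOf_eq_one, one_zpow]
      · rw [← hi, hi2, show 2 * (2 * l + 1) = (orderOf c : ℤ) * l + 2 by rw [hoc]; ring, zpow_add, zpow_mul,
          zpow_natCast, pow_orderOf_eq_one, one_zpow, one_mul, zpow_two]
    have hcI' : c ∈ I := hAI (hCA hc)
    have hc'I : v * c * v⁻¹ ∈ I := hvI c hcI'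
    have hcomm : Commute c (v * c * v⁻¹) := (hcentT c (hCA hc) _ (hIT hc'I)).symm
    have hmV : c * (v * c * v⁻¹) ∈ V := by
      refine hmemV _ (hTS (hIT (mul_mem hcI' hc'I))) ?_
      rw [← conj_mul]
      have : v * (v * c * v⁻¹) * v⁻¹ = c := by rw [hvi]; simp [← mul_assoc, hvv]; simp [mul_assoc, hvv]
      rw [this, ← hcomm.eq]
    have hsq : c * (v * c * v⁻¹) * (c * (v * c * v⁻¹)) = f * (v * f * v⁻¹) := by
      have e : c * (v * c * v⁻¹) * (c * (v * c * v⁻¹)) = (c * c) * ((v * c * v⁻¹) * (v * c * v⁻¹)) := by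
        rw [mul_assoc, ← mul_assoc (v * c * v⁻¹), ← hcomm.eq]; group
      rw [e, conj_mul, hfc]
    have hzq : f * (v * f * v⁻¹) = z := by
      refine d.central_eq h hz hU (hcentR _ (fun r hr => ?_) ?_) fun e => hvf ?_
      · have h1 : Commute r f := hfR r hr
        have hr' : v⁻¹ * r * v ∈ R := by have := hvRn r hr; rwa [hvi] at this ⊢
        have h2 : Commute r (v * f * v⁻¹) := by
          have hh := (show Commute (v⁻¹ * r * v) f from hfR _ hr').map (MulAut.conj v).toMonoidHom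
          simpa [mul_assoc] using hh
        exact h1.mul_right h2
      · have h1 : Commute (v * f * v⁻¹) f := hfR _ (hvRn f (hTR (hUT (hAU (hCA hfC)))))
        rw [← conj_mul, show v * (v * f * v⁻¹) * v⁻¹ = f by rw [hvi]; simp [← mul_assoc, hvv]; simp [mul_assoc, hvv]]
        exact h1.eq
      · have h1 : v * f * v⁻¹ = f := by
          rw [← inv_eq_of_mul_eq_one_right e, inv_eq_of_mul_eq_one_right hff]
        exact mul_inv_eq_iff_eq_mul.1 h1
    exact d2.no_square h hz hV hmV (hsq.trans hzq)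
  · -- the element of order four in `C_R(v)`
    have hW : Nat.card ↥(V ⊓ I) ≤ 4 := by
      have hn : V ⊓ I ≤ normalizer (A : Set G) := fun r hr =>
        mem_normalizer_fintype fun q hq => hAnorm (le_normalizer (hIT hr.2)) q hq
      have h1 := Grp.card_sup_mul_card_inf hn
      have h2 := card_le_of_le (sup_le (inf_le_right : V ⊓ I ≤ I) hAI)
      have h3 : Nat.card ↥((V ⊓ I) ⊓ A) ≤ 2 := by
        have hsub : (((V ⊓ I) ⊓ A : Subgroup G) : Set G) ⊆ {1, z} := by
          intro q hq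
          by_cases hq1 : q = 1
          · exact Or.inl hq1
          refine Or.inr (d.central_eq h hz hU (hcentR q (fun r hr => ?_) ?_) hq1)
          · have hvq : v * q = q * v := by
              have := (d2.cent_v hV).ge hq.1.1
              rw [← hv] at this
              exact (mem_centralizer_singleton_iff.1 this.2).symm
            by_cases hrT : r ∈ T
            · exact hcentT q hq.2 r hrT
            · have hm : t * r ∈ T := by
                have htT : t ∉ T := fun e => htI (hI ▸ ⟨e, htT'⟩)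
                exact (rel_mul hiT htR hr).2 (iff_of_false htT hrT)
              have h1 : Commute t q := by
                have hh := (show Commute v0 q from hcentT q hq.2 v0 (hUT hv0U)).map (MulAut.conj v).toMonoidHom
                have e : v * q * v⁻¹ = q := mul_inv_eq_iff_eq_mul.2 hvq
                simpa [← ht, e] using hh
              have h2 : Commute (t * r) q := hcentT q hq.2 _ hm
              have := h1.inv_left.mul_left h2
              rwa [inv_mul_cancel_left] at this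
          · have := (d2.cent_v hV).ge hq.1.1
            rw [← hv] at this
            exact mul_inv_eq_iff_eq_mul.2 (mem_centralizer_singleton_iff.1 this.2).symm
        have := (Set.ncard_le_ncard hsub).trans (Set.ncard_insert_le _ _)
        rw [← Nat.card_coe_set_eq, Set.ncard_singleton] at this
        exact this
      rw [hcI] at h2
      rw [hcA] at h1
      nlinarith
    have h8 : 8 ≤ Nat.card ↥(V ⊓ R) := by
      have hn : V ≤ normalizer (R : Set G) := fun r hr => mem_normalizer_fintype fun q hq =>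
        (half_conj hiR (hRS hq) (hV.le hr)).2 hq
      have h1 := Grp.card_sup_mul_card_inf hn
      have h2 := card_le_of_le (sup_le hV.le hRS : V ⊔ R ≤ (S : Subgroup G))
      rw [h.card] at h2
      rw [hall V hV, hcR] at h1
      nlinarith
    obtain ⟨g, hg, hgI⟩ : ∃ g ∈ V ⊓ R, g ∉ I := by
      by_contra! hle
      have := card_le_of_le (show V ⊓ R ≤ V ⊓ I from fun q hq => ⟨hq.1, hle q hq⟩)
      omega
    refine ⟨V, hV, d2, g, hg.1, fun hgg => ?_⟩
    have hvg : v * g * v⁻¹ = g := by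
      have := (d2.cent_v hV).ge hg.1
      rw [← hv] at this
      exact mul_inv_eq_iff_eq_mul.2 (mem_centralizer_singleton_iff.1 this.2).symm
    have hgT : g ∉ T := fun e => hgI (hI ▸ ⟨e, hT' ▸ ⟨g, e, hvg⟩⟩)
    have hgT' : g ∉ T' := fun e => hgT (by
      have := (memT' g).1 e
      rw [hvi] at this
      rw [hvi] at hvg
      rwa [hvg] at this)
    have htT : t ∉ T := fun e => htI (hI ▸ ⟨e, htT'⟩)
    obtain ⟨p, hp, hgp⟩ : ∃ p ∈ T, g = p * t :=
      ⟨g * t, (rel_mul hiT hg.2 htR).2 (iff_of_false hgT htT), by rw [mul_assoc, htt, mul_one]⟩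
    have hpI : p ∉ I := fun e => hgT' (hgp ▸ mul_mem (hIT' e) htT')
    have hiIT : I.relIndex T = 2 := rel_two hIT (by omega)
    have hj : p * v0 ∈ I := (rel_mul hiIT hp (hUT hv0U)).2 (iff_of_false hpI hv0I)
    obtain ⟨j, hjI, hpj⟩ : ∃ j ∈ I, p = j * v0 := ⟨_, hj, by rw [mul_assoc, hv00, mul_one]⟩
    subst hpj
    have htj : t * j * t⁻¹ * j⁻¹ ∈ A := by
      refine (rel_mul hiAI (hRI t htR j hjI) (inv_mem hjI)).2 ?_
      rw [inv_mem_iff]
      refine ⟨fun e => ?_, fun e => hAnorm (hRN htR) j e⟩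
      have := hAnorm (hRN (inv_mem htR)) _ e
      simpa [mul_assoc] using this
    have hvj : v0 * j⁻¹ * v0⁻¹ * j⁻¹ ∈ A := by
      refine (rel_mul hiAI (hRI v0 (hTR (hUT hv0U)) _ (inv_mem hjI)) (inv_mem hjI)).2 ?_
      refine ⟨fun e => ?_, fun e => hAnorm (le_normalizer (hUT hv0U)) _ e⟩
      have := hAnorm (le_normalizer (inv_mem (hUT hv0U))) _ e
      simpa [mul_assoc] using this
    obtain ⟨α, hα⟩ : ∃ α, α = t * j * t⁻¹ * j⁻¹ := ⟨_, rfl⟩
    rw [← hα] at htj
    have hti : t⁻¹ = t := inv_eq_of_mul_eq_one_right htt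
    have hv0i : v0⁻¹ = v0 := inv_eq_of_mul_eq_one_right hv00
    have hval : t * v0 * t⁻¹ = v0 * (v0 * j⁻¹ * v0⁻¹ * j⁻¹) * α⁻¹ := by
      rw [hgp] at hgg
      have h1 : (t * (j * v0) * t⁻¹) = (j * v0)⁻¹ := by
        rw [hti]
        apply eq_inv_of_mul_eq_one_left
        have := congrArg (fun s => (j * v0)⁻¹ * s * (j * v0)) hgg
        simpa [mul_assoc] using this
      calc t * v0 * t⁻¹ = (t * j * t⁻¹)⁻¹ * (t * (j * v0) * t⁻¹) := by group
        _ = (α * j)⁻¹ * (j * v0)⁻¹ := by rw [h1, hα]; group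
        _ = j⁻¹ * (α⁻¹ * (v0⁻¹ * j⁻¹)) := by group
        _ = j⁻¹ * (v0⁻¹ * j⁻¹ * α⁻¹) := by
          rw [← hcentT α⁻¹ (inv_mem htj) _ (mul_mem (inv_mem (hUT hv0U)) (inv_mem (hIT hjI)))]
        _ = _ := by rw [hv0i]; simp [← mul_assoc, hv00]
    have htN : t ∈ normalizer (U : Set G) := hnormU t (hAnorm (hRN htR)) (by
      rw [hval]; exact mul_mem (mul_mem hv0U (hAU hvj)) (hAU (inv_mem htj)))
    exact htT (hT ▸ ⟨hRS htR, htN⟩)

theorem Hyp.no_sixteen (h : Hyp G S) {z : G} (hz : Cen S z) {U : Subgroup G} (hU : Ess S U) (d : Data S U)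
    (hall : ∀ V : Subgroup G, Ess S V → Nat.card V = 16) : False := by
  obtain ⟨-, V, hV, d2, g, hg, hgg⟩ := d.sixteen h hz hU hall
  exact hgg ((d2.sixteen h hz hV hall).1 g hg)

end Cfsg.Agent.Fus.LenEight
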