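import Cfsg.Agent.Lib.Fus.LengthEight.EndEight
import Cfsg.Agent.Lib.Fus.LengthEight.EndSixteen
import Cfsg.Agent.S0206

/-!
# The Sylow 2-subgroup is dihedral (for S3250)
-/

set_option autoImplicit false
set_option linter.style.haveILetI false

namespace Cfsg.Agent.Fus.LenEight

open Subgroup

universe u

variable {G : Type u} [Group G] [Finite G] {S : Sylow 2 G}

/-- The commutator subgroup of `S` is contained in every maximal subgroup. -/
theorem gen_mod_commutator {X : Subgroup G} (hX : X ≤ (S : Subgroup G))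
    (hsup : (S : Subgroup G) ≤ X ⊔ ⁅(S : Subgroup G), (S : Subgroup G)⁆) : (S : Subgroup G) ≤ X := by
  haveI : Fact (Nat.Prime 2) := ⟨Nat.prime_two⟩
  haveI := S.isPGroup'.isNilpotent
  rcases eq_top_or_exists_le_coatom (X.subgroupOf (S : Subgroup G)) with e | ⟨M, hM, hle⟩
  · exact subgroupOf_eq_top.1 e
  exfalso
  haveI : M.Normal := Subgroup.NormalizerCondition.normal_of_coatom M
    Group.normalizerCondition_of_isNilpotent hM
  have hp := Grp.normal_index_prime_of_coatom hM
  haveI : Fact M.index.Prime := ⟨hp⟩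
  haveI : IsCyclic ((S : Subgroup G) ⧸ M) := isCyclic_of_prime_card (p := M.index) rfl
  have hc : commutator (S : Subgroup G) ≤ M := by
    rw [commutator_def, commutator_le]
    intro a _ c _
    rw [← QuotientGroup.eq_one_iff, commutatorElement_def, QuotientGroup.mk_mul, QuotientGroup.mk_mul,
      QuotientGroup.mk_mul, QuotientGroup.mk_inv, QuotientGroup.mk_inv,
      IsCyclic.commGroup.mul_comm (a : (S : Subgroup G) ⧸ M) c, mul_inv_cancel_right, mul_inv_cancel]
  have h1 : X ⊔ ⁅(S : Subgroup G), (S : Subgroup G)⁆ ≤ M.map (S : Subgroup G).subtype := by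
    refine sup_le (fun x hx => ⟨⟨x, hX hx⟩, hle hx, rfl⟩) ?_
    rw [← Subgroup.map_subtype_commutator]
    exact map_mono hc
  refine hM.1 ((eq_top_iff' M).2 fun s => ?_)
  obtain ⟨m, hm, e⟩ := h1 (hsup s.2)
  exact Subtype.ext (show (m : G) = s from e) ▸ hm

theorem Hyp.dihedral (h : Hyp G S) : ∃ n, n = 64 ∧ Nonempty ((S : Subgroup G) ≃* DihedralGroup n) := by
  haveI : Fact (Nat.Prime 2) := ⟨Nat.prime_two⟩
  obtain ⟨z, hz⟩ := exists_cen (S := S) h.card
  obtain ⟨D, hD⟩ : ∃ D, D = ⁅(S : Subgroup G), (S : Subgroup G)⁆ := ⟨_, rfl⟩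
  have hDS : D ≤ (S : Subgroup G) := hD ▸ commutator_le_S
  obtain ⟨M1, hM1⟩ := Sylow.exists_subgroup_card_pow_prime (G := (S : Subgroup G)) 2 (n := 6)
    (h.card ▸ pow_dvd_pow 2 (by norm_num))
  have hiM1 : (M1.map (S : Subgroup G).subtype).relIndex (S : Subgroup G) = 2 :=
    rel_two (map_subtype_le _) (by rw [h.card, card_map_of_injective (subtype_injective _), hM1]; norm_num)
  obtain ⟨U, hU, d, hv⟩ := h.exists_v hz hiM1
  by_cases hbig : 16 < Nat.card D
  · -- two involutions generate `S`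
    obtain ⟨v1, hv1⟩ : ∃ v, v = d.split.v := ⟨_, rfl⟩
    rw [← hv1] at hv
    have hv1S : v1 ∈ (S : Subgroup G) := hv1 ▸ d.v_memS hU
    have hv1D : v1 ∉ D := fun e => hv (commutator_le_half h hz hiM1 (hD ▸ e))
    obtain ⟨K, hK⟩ : ∃ K, K = D ⊔ zpowers v1 := ⟨_, rfl⟩
    have hKS : K ≤ (S : Subgroup G) := hK ▸ sup_le hDS (zpowers_le.2 hv1S)
    have hv11 : v1 * v1 = 1 := hv1 ▸ d.split.v_sq
    have hor : ∀ {v : G}, v * v = 1 → v ≠ 1 → orderOf v = 2 := fun hv hv' => orderOf_eq_prime (by rw [sq, hv]) hv'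
    have hKne : K ≠ (S : Subgroup G) := fun e => by
      have h1 := gen_mod_commutator (X := zpowers v1) (zpowers_le.2 hv1S) (by rw [← hD, sup_comm, ← hK, e])
      have h2 := card_le_of_le h1
      rw [h.card, Nat.card_zpowers, hor hv11 (hv1 ▸ d.split.v_ne)] at h2
      norm_num at h2
    have hiK : K.relIndex (S : Subgroup G) = 2 := by
      have h1 := double_le (S := S) hKS (lt_of_le_of_ne (hK ▸ le_sup_left : D ≤ K) fun e =>
        hv1D (e.ge (hK ▸ mem_sup_right (mem_zpowers v1))))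
      have h2 := double_le (S := S) le_rfl (lt_of_le_of_ne hKS hKne)
      refine rel_two hKS ?_
      obtain ⟨i, hi⟩ := card_two_pow hKS
      rw [hi, h.card] at h2
      rw [hi] at h1
      have : i = 6 := by
        by_contra hne
        rcases Nat.lt_or_ge i 6 with h6 | h6
        · have := Nat.pow_le_pow_right (show 0 < 2 by norm_num) (show i ≤ 5 by omega)
          obtain ⟨j, hj⟩ := card_two_pow hDS
          have h5 : 5 ≤ j := by
            by_contra h5
            have := Nat.pow_le_pow_right (show 0 < 2 by norm_num) (show j ≤ 4 by omega)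
            omega
          have := Nat.pow_le_pow_right (show 0 < 2 by norm_num) h5
          omega
        · have := Nat.pow_le_pow_right (show 0 < 2 by norm_num) (show 7 ≤ i by omega)
          omega
      rw [hi, h.card, this]; norm_num
    obtain ⟨U2, hU2, d2, hv2⟩ := h.exists_v hz hiK
    obtain ⟨v2, hv2'⟩ : ∃ v, v = d2.split.v := ⟨_, rfl⟩
    rw [← hv2'] at hv2
    have hv2S : v2 ∈ (S : Subgroup G) := hv2' ▸ d2.v_memS hU2
    have hv22 : v2 * v2 = 1 := hv2' ▸ d2.split.v_sq
    obtain ⟨X, hX⟩ : ∃ X, X = closure ({v1, v2} : Set G) := ⟨_, rfl⟩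
    have hX1 : v1 ∈ X := hX ▸ subset_closure (Or.inl rfl)
    have hX2 : v2 ∈ X := hX ▸ subset_closure (Or.inr rfl)
    have hXS : X ≤ (S : Subgroup G) := hX ▸ (closure_le _).2 (by
      rintro x (rfl | rfl)
      exacts [hv1S, hv2S])
    have hXD : (S : Subgroup G) ≤ X ⊔ D := by
      intro s hs
      have hKX : K ≤ X ⊔ D := hK ▸ sup_le le_sup_right (zpowers_le.2 (mem_sup_left hX1))
      by_cases hsK : s ∈ K
      · exact hKX hsK
      · have hm : v2 * s ∈ K := (half_mul hiK hv2S hs).2 (iff_of_false hv2 hsK)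
        have := mul_mem (mem_sup_left hX2 : v2 ∈ X ⊔ D) (hKX hm)
        rwa [← mul_assoc, hv22, one_mul] at this
    have hXeq : X = (S : Subgroup G) := le_antisymm hXS (gen_mod_commutator hXS (hD ▸ hXD))
    have hne : v1 ≠ v2 := fun e => hv2 (e ▸ hK ▸ mem_sup_right (mem_zpowers v1))
    obtain ⟨e⟩ := Cfsg.Agent.S0206.result v1 v2 (hor hv11 (hv1 ▸ d.split.v_ne))
      (hor hv22 (hv2' ▸ d2.split.v_ne)) hne
    have hcard : Nat.card (closure ({v1, v2} : Set G)) = 2 ^ 7 := by rw [← hX, hXeq, h.card]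
    rw [Nat.card_congr e.toEquiv, DihedralGroup.nat_card] at hcard
    exact ⟨orderOf (v1 * v2), by omega, ⟨(MulEquiv.subgroupCongr (hXeq.symm.trans hX)).trans e⟩⟩
  · exfalso
    rw [hD, not_lt] at hbig
    by_cases h8 : ∃ V, Ess S V ∧ Nat.card V = 8
    · obtain ⟨V, hV, hV8⟩ := h8
      obtain ⟨dV⟩ := hV.data h hz
      exact dV.no_eight h hz hV hbig hV8
    push Not at h8
    refine h.no_sixteen hz hU d fun V hV => ?_
    obtain ⟨j, hj⟩ := card_two_pow hV.le
    obtain ⟨dV⟩ := hV.data h hz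
    have hj4 : j ≤ 4 := by
      by_contra h4
      have := Nat.pow_le_pow_right (show 0 < 2 by norm_num) (show 5 ≤ j by omega)
      have := (h.ess_small hz hV).1
      omega
    have hle : (orb (S : Subgroup G) dV.split.v).ncard ≤ 16 := by
      refine (Set.ncard_le_ncard (t := (fun q => q * dV.split.v) '' (⁅(S : Subgroup G), (S : Subgroup G)⁆ : Subgroup G))
        fun p hp => ⟨p * (dV.split.v)⁻¹, orb_coset (dV.v_memS hV) hp, inv_mul_cancel_right _ _⟩).trans
        ((Set.ncard_image_le (Set.toFinite _)).trans ?_)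
      rw [← Nat.card_coe_set_eq]; exact hbig
    have horb := dV.orbit_v h hV
    rw [hj] at horb
    have hj3 : 3 ≤ j := by
      by_contra h3
      have := Nat.pow_le_pow_right (show 0 < 2 by norm_num) (show j ≤ 2 by omega)
      have h4 := Nat.mul_le_mul hle this
      omega
    rcases (show j = 3 ∨ j = 4 by omega) with rfl | rfl
    · exact absurd (by rw [hj]; norm_num) (h8 V hV)
    · rw [hj]; norm_num

end Cfsg.Agent.Fus.LenEight
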