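import Cfsg.Agent.Lib.Fus.LengthEight.Orbits

/-!
# No essential subgroup of order eight (for S3250)
-/

set_option autoImplicit false
set_option linter.style.haveILetI false

namespace Cfsg.Agent.Fus.LenEight

open Subgroup

universe u

variable {G : Type u} [Group G] [Finite G] {S : Sylow 2 G}

local notation "D'" => (⁅(S : Subgroup G), (S : Subgroup G)⁆ : Subgroup G)

omit [Finite G] in
theorem cent_conj_map {s g : G} (hs : s ∈ (S : Subgroup G)) :
    ((S : Subgroup G) ⊓ centralizer ({g} : Set G)).map (MulAut.conj s).toMonoidHom =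
      (S : Subgroup G) ⊓ centralizer ({s * g * s⁻¹} : Set G) := by
  ext x
  rw [mem_conj, mem_inf, mem_inf, mem_centralizer_singleton_iff, mem_centralizer_singleton_iff]
  constructor
  · rintro ⟨h1, h2⟩
    refine ⟨by simpa [mul_assoc] using mul_mem (mul_mem hs h1) (inv_mem hs), ?_⟩
    have := congrArg (fun t => s * t * s⁻¹) h2
    simpa [mul_assoc] using this
  · rintro ⟨h1, h2⟩
    refine ⟨mul_mem (mul_mem (inv_mem hs) h1) hs, ?_⟩
    have := congrArg (fun t => s⁻¹ * t * s) h2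
    simpa [mul_assoc] using this

theorem Data.eight (h : Hyp G S) {U : Subgroup G} (hU : Ess S U) (d : Data S U)
    (hD : Nat.card ↥D' ≤ 16) (h8 : Nat.card U = 8) :
    Nat.card ↥D' = 16 ∧ d.split.v ∉ D' ∧ (∀ q ∈ D', d.split.v * q * d.split.v⁻¹ = q⁻¹) ∧
      ∀ q ∈ D', (∃ s ∈ (S : Subgroup G), s * d.split.v * s⁻¹ = q * d.split.v) ∧
        Nat.card ↥((S : Subgroup G) ⊓ centralizer ({q * d.split.v} : Set G)) = 8 := by
  obtain ⟨v, hv⟩ : ∃ v, v = d.split.v := ⟨_, rfl⟩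
  rw [← hv]
  have hvS : v ∈ (S : Subgroup G) := hv ▸ d.v_memS hU
  have hn : (orb (S : Subgroup G) v).ncard = 16 := by
    have := d.orbit_v h hU
    rw [← hv, h8] at this
    norm_num at this
    omega
  have hsub : orb (S : Subgroup G) v ⊆ (fun q => q * v) '' (D' : Set G) :=
    fun p hp => ⟨p * v⁻¹, orb_coset hvS hp, inv_mul_cancel_right p v⟩
  have h1 : ((fun q => q * v) '' (D' : Set G)).ncard = Nat.card ↥D' := by
    rw [Set.ncard_image_of_injective _ (mul_left_injective v)]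
    exact (Nat.card_coe_set_eq _).symm
  have h2 := Set.ncard_le_ncard hsub
  rw [hn, h1] at h2
  have hc : Nat.card ↥D' = 16 := le_antisymm hD h2
  have heq := Set.eq_of_subset_of_ncard_le hsub (by rw [hn, h1, hc])
  have hall : ∀ q ∈ D', ∃ s ∈ (S : Subgroup G), s * v * s⁻¹ = q * v := fun q hq =>
    (heq.ge ⟨q, hq, rfl⟩ : q * v ∈ orb (S : Subgroup G) v)
  have hvv : v * v = 1 := hv ▸ d.split.v_sq
  refine ⟨hc, fun hvD => ?_, fun q hq => ?_, fun q hq => ⟨hall q hq, ?_⟩⟩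
  · obtain ⟨s, hs, e⟩ := hall v hvD
    rw [hvv] at e
    exact d.split.v_ne (hv ▸ conj_eq_one_iff.1 e)
  · obtain ⟨s, hs, e⟩ := hall q hq
    have h3 : q * v * (q * v) = 1 := by rw [← e, conj_mul, hvv, mul_one, mul_inv_cancel]
    rw [mul_assoc] at h3
    rw [inv_eq_of_mul_eq_one_right hvv]
    rw [inv_eq_of_mul_eq_one_right h3, mul_assoc]
  · obtain ⟨s, hs, e⟩ := hall q hq
    rw [← e, ← cent_conj_map hs, card_conj, hv, d.cent_v hU, h8]

omit [Finite G] in
/-- Squares halve at most, when there is one involution. -/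
theorem sq_half [Finite G] {A : Subgroup G} (hab : Ab A) {z : G} (hone : ∀ q ∈ A, q * q = 1 → q = 1 ∨ q = z) :
    ∃ B : Subgroup G, (∀ q, q ∈ B ↔ ∃ r ∈ A, r * r = q) ∧ B ≤ A ∧ Nat.card A ≤ 2 * Nat.card B := by
  obtain ⟨B, hB⟩ : ∃ B : Subgroup G, ∀ q, q ∈ B ↔ ∃ r ∈ A, r * r = q :=
    ⟨{ carrier := {q | ∃ r ∈ A, r * r = q}
       one_mem' := ⟨1, one_mem _, one_mul _⟩
       mul_mem' := fun {a c} ⟨r, hr, hra⟩ ⟨t, ht, htc⟩ => ⟨r * t, mul_mem hr ht, by
         rw [← hra, ← htc, mul_assoc, ← mul_assoc t r, hab t ht r hr]; group⟩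
       inv_mem' := fun {a} ⟨r, hr, hra⟩ => ⟨r⁻¹, inv_mem hr, by rw [← mul_inv_rev, hra]⟩ }, fun q => Iff.rfl⟩
  have hBA : B ≤ A := fun q hq => by obtain ⟨r, hr, rfl⟩ := (hB q).1 hq; exact mul_mem hr hr
  refine ⟨B, hB, hBA, ?_⟩
  classical
  have hsub : (A : Set G) ⊆ ⋃ q ∈ (B : Set G), {r | r ∈ A ∧ r * r = q} := fun r hr =>
    Set.mem_biUnion ((hB _).2 ⟨r, hr, rfl⟩) ⟨hr, rfl⟩
  rw [show Nat.card A = ((A : Set G)).ncard from Nat.card_coe_set_eq _,
    show Nat.card B = ((B : Set G)).ncard from Nat.card_coe_set_eq _]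
  refine (Set.ncard_le_ncard hsub (Set.toFinite _)).trans ?_
  refine ((Set.toFinite (B : Set G)).ncard_biUnion_le _).trans ?_
  rw [finsum_mem_eq_finite_toFinset_sum _ (Set.toFinite _), Set.ncard_eq_toFinset_card _ (Set.toFinite _),
    mul_comm 2, ← smul_eq_mul]
  refine Finset.sum_le_card_nsmul _ _ 2 fun q hq => ?_
  obtain ⟨r0, hr0, hq0⟩ := (hB q).1 ((Set.Finite.mem_toFinset _).1 hq)
  refine (Set.ncard_le_ncard (t := {r0, r0 * z}) (fun r hr' => ?_) (Set.toFinite _)).trans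
    ((Set.ncard_insert_le _ _).trans (by rw [Set.ncard_singleton]))
  obtain ⟨hr, hrq⟩ := hr'
  have h1 : r0⁻¹ * r * (r0⁻¹ * r) = 1 := by
    rw [mul_assoc, ← mul_assoc r, hab r hr r0⁻¹ (inv_mem hr0)]
    calc r0⁻¹ * (r0⁻¹ * r * r) = r0⁻¹ * r0⁻¹ * (r * r) := by group
      _ = r0⁻¹ * r0⁻¹ * (r0 * r0) := by rw [hrq, hq0]
      _ = 1 := by group
  rcases hone _ (mul_mem (inv_mem hr0) hr) h1 with e | e
  · exact Or.inl (inv_mul_eq_one.1 e).symm
  · exact Or.inr (inv_mul_eq_iff_eq_mul.1 e)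

/-- Elements of order four are powers. -/
theorem order_four {g : G} {H : Subgroup G} (hH : H ≤ (S : Subgroup G)) (hg : g ∈ H) (hgg : g * g ≠ 1) :
    ∃ j : ℕ, g ^ j * g ^ j ≠ 1 ∧ (g ^ j * g ^ j) * (g ^ j * g ^ j) = 1 := by
  obtain ⟨k, hk⟩ := two_elt_of_mem S.isPGroup' (hH hg)
  have hk2 : 2 ≤ k := by
    by_contra hlt
    refine hgg ?_
    have h1 : orderOf g ∣ 2 := hk ▸ (Nat.pow_dvd_pow 2 (show k ≤ 1 by omega)).trans (by norm_num)
    rw [← sq]; exact orderOf_dvd_iff_pow_eq_one.1 h1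
  obtain ⟨l, rfl⟩ := Nat.exists_eq_add_of_le hk2
  refine ⟨2 ^ l, fun e => ?_, ?_⟩
  · rw [← pow_add, ← two_mul, ← pow_succ'] at e
    have := orderOf_dvd_of_pow_eq_one e
    rw [hk, Nat.pow_dvd_pow_iff_le_right (by norm_num)] at this
    omega
  · rw [← pow_add, ← pow_add, show 2 ^ l + 2 ^ l + (2 ^ l + 2 ^ l) = orderOf g by rw [hk, pow_add]; ring,
      pow_orderOf_eq_one]

theorem Data.no_eight (h : Hyp G S) {z : G} (hz : Cen S z) {U : Subgroup G} (hU : Ess S U) (d : Data S U)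
    (hD : Nat.card ↥D' ≤ 16) (h8 : Nat.card U = 8) : False := by
  obtain ⟨hc, hvD, hinv, hcl⟩ := d.eight h hU hD h8
  obtain ⟨v, hv⟩ : ∃ v, v = d.split.v := ⟨_, rfl⟩
  rw [← hv] at hvD hinv hcl
  have hvS : v ∈ (S : Subgroup G) := hv ▸ d.v_memS hU
  have hvv : v * v = 1 := hv ▸ d.split.v_sq
  have hvi : v⁻¹ = v := inv_eq_of_mul_eq_one_right hvv
  have hDS : D' ≤ (S : Subgroup G) := commutator_le_S
  have hDab : Ab D' := fun a ha c hc' => by
    have h1 := hinv _ (mul_mem ha hc')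
    rw [← conj_mul, hinv a ha, hinv c hc'] at h1
    have := congrArg (·⁻¹) h1
    simp only [mul_inv_rev, inv_inv] at this
    exact this.symm
  have hzD : z ∈ D' := h.z_mem_normal hz hU d hDS (fun e => by rw [e, card_bot] at hc; omega)
    fun s hs q hq => commutator_conj hs hq
  have hmem : ∀ q, q ∈ U ⊓ D' ↔ q ∈ D' ∧ q * q = 1 := by
    intro q
    rw [← d.cent_v hU, ← hv]
    refine ⟨fun hq => ⟨hq.2, ?_⟩, fun hq => ⟨⟨hDS hq.1, ?_⟩, hq.1⟩⟩
    · have h1 := hinv q hq.2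
      rw [← mem_centralizer_singleton_iff.1 hq.1.2, mul_inv_cancel_right] at h1
      nth_rw 2 [h1]; rw [mul_inv_cancel]
    · refine mem_centralizer_singleton_iff.2 ?_
      have h1 := hinv q hq.1
      rw [inv_eq_of_mul_eq_one_right hq.2] at h1
      exact (mul_inv_eq_iff_eq_mul.1 h1).symm
  have hUab : Ab U := (h.ess_small hz hU).2
  have hzU : z ∈ U ⊓ D' := (hmem z).2 ⟨hzD, hz.sq⟩
  have hΩlt : U ⊓ D' < U := lt_of_le_of_ne inf_le_left fun e => hvD (e.ge (hv ▸ d.split.v_mem)).2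
  have hΩ4 := double_le (S := S) hU.le hΩlt
  rw [h8] at hΩ4
  by_cases hbig : ∃ f ∈ U ⊓ D', f ≠ 1 ∧ f ≠ z
  · -- four involutions in the commutator subgroup
    obtain ⟨f, hf, hf1, hfz⟩ := hbig
    have hfS : f ∈ (S : Subgroup G) := hDS hf.2
    obtain ⟨hfD, hff⟩ := (hmem f).1 hf
    have hΩeq : ∀ q ∈ U ⊓ D', q = 1 ∨ q = z ∨ q = f ∨ q = f * z := by
      intro q hq
      by_contra! hne
      have hs : ({1, z, f, f * z, q} : Set G) ⊆ ((U ⊓ D' : Subgroup G) : Set G) := by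
        rintro x (rfl | rfl | rfl | rfl | rfl)
        exacts [one_mem _, hzU, hf, mul_mem hf hzU, hq]
      have h5 := Set.ncard_le_ncard hs
      rw [show ((U ⊓ D' : Subgroup G) : Set G).ncard = Nat.card ↥(U ⊓ D') from (Nat.card_coe_set_eq _).symm] at h5
      have hfz1 : f * z ≠ 1 := fun e => hfz (by rw [← mul_one f, ← hz.sq, ← mul_assoc, e, one_mul])
      have hfzz : f * z ≠ z := fun e => hf1 (mul_eq_right.1 e)
      have hfzf : f * z ≠ f := fun e => hz.ne (mul_eq_left.1 e)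
      rw [Set.ncard_insert_of_notMem (by simp [hz.ne.symm, hf1.symm, hfz1.symm, hne.1.symm]),
        Set.ncard_insert_of_notMem (by simp [hfz.symm, hfzz.symm, hne.2.1.symm]),
        Set.ncard_insert_of_notMem (by simp [hfzf.symm, hne.2.2.1.symm]),
        Set.ncard_insert_of_notMem (by simp [hne.2.2.2.symm]), Set.ncard_singleton] at h5
      omega
    obtain ⟨M, hM⟩ : ∃ M, M = (S : Subgroup G) ⊓ centralizer ({f} : Set G) := ⟨_, rfl⟩
    have horb : (orb (S : Subgroup G) f).ncard = 2 := by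
      have hsub : orb (S : Subgroup G) f ⊆ {f, f * z} := by
        rintro _ ⟨s, hs, rfl⟩
        have h1 : s * f * s⁻¹ ∈ U ⊓ D' :=
          (hmem _).2 ⟨commutator_conj hs hfD, by rw [conj_mul, hff, mul_one, mul_inv_cancel]⟩
        rcases hΩeq _ h1 with e | e | e | e
        · exact absurd (conj_eq_one_iff.1 e) hf1
        · refine absurd ?_ hfz
          calc f = s⁻¹ * (s * f * s⁻¹) * s := by group
            _ = z := by rw [e, mul_assoc, ← hz.comm s hs, inv_mul_cancel_left]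
        · exact Or.inl e
        · exact Or.inr e
      have h2 := (Set.ncard_le_ncard hsub).trans (Set.ncard_insert_le _ _)
      rw [Set.ncard_singleton] at h2
      have h3 : 2 ≤ (orb (S : Subgroup G) f).ncard := by
        by_contra hlt
        refine hfz (d.central_eq h hz hU (fun s hs => ?_) hf1)
        have hin : s * f * s⁻¹ ∈ orb (S : Subgroup G) f := ⟨s, hs, rfl⟩
        have hin' : f ∈ orb (S : Subgroup G) f := ⟨1, one_mem _, by group⟩
        exact mul_inv_eq_iff_eq_mul.1 ((Set.ncard_le_one (Set.toFinite _)).1 (by omega) _ hin _ hin')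
      omega
    have hiM : M.relIndex (S : Subgroup G) = 2 := by
      refine rel_two (hM ▸ inf_le_left) ?_
      have h1 := orb_card (S : Subgroup G) f
      rw [horb, ← hM] at h1
      omega
    obtain ⟨U2, hU2, d2, hv2⟩ := h.exists_v hz hiM
    obtain ⟨hc2, hab2⟩ := h.ess_small hz hU2
    have hne : d2.split.v * f ≠ f * d2.split.v := fun e =>
      hv2 (hM ▸ ⟨d2.v_memS hU2, mem_centralizer_singleton_iff.2 e⟩)
    have h16 : Nat.card U2 = 16 := by
      obtain ⟨j, hj⟩ := card_two_pow hU2.le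
      have horbit := d2.orbit_v h hU2
      have hle : (orb (S : Subgroup G) d2.split.v).ncard ≤ 16 := by
        have hsub : orb (S : Subgroup G) d2.split.v ⊆ (fun q => q * d2.split.v) '' (D' : Set G) :=
          fun p hp => ⟨p * d2.split.v⁻¹, orb_coset (d2.v_memS hU2) hp, inv_mul_cancel_right _ _⟩
        refine (Set.ncard_le_ncard hsub).trans ((Set.ncard_image_le (Set.toFinite _)).trans ?_)
        rw [← Nat.card_coe_set_eq]; exact hD
      have hj3 : 3 ≤ j := by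
        by_contra h3
        have := Nat.pow_le_pow_right (show 0 < 2 by norm_num) (show j ≤ 2 by omega)
        rw [← hj] at this
        have h4 := Nat.mul_le_mul hle this
        omega
      have hj4 : j ≤ 4 := by
        by_contra h4
        have := Nat.pow_le_pow_right (show 0 < 2 by norm_num) (show 5 ≤ j by omega)
        omega
      rcases (show j = 3 ∨ j = 4 by omega) with rfl | rfl
      · exfalso
        obtain ⟨-, -, hinv2, -⟩ := d2.eight h hU2 hD (by rw [hj]; norm_num)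
        refine hne ?_
        have h1 := hinv2 f hfD
        rw [inv_eq_of_mul_eq_one_right hff] at h1
        exact mul_inv_eq_iff_eq_mul.1 h1
      · rw [hj]; norm_num
    -- `U2` avoids the coset of `v`
    have havoid : ∀ q ∈ D', q * v ∉ U2 := fun q hq hm => by
      have h1 := card_le_of_le (show U2 ≤ (S : Subgroup G) ⊓ centralizer ({q * v} : Set G) from fun x hx =>
        ⟨hU2.le hx, mem_centralizer_singleton_iff.2 (hab2 x hx _ hm)⟩)
      rw [(hcl q hq).2] at h1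
      omega
    have hnD : U2 ≤ normalizer (D' : Set G) := fun x hx =>
      mem_normalizer_fintype fun q hq => commutator_conj (hU2.le hx) hq
    have hlt : U2 ⊔ D' < (S : Subgroup G) := by
      refine lt_of_le_of_ne (sup_le hU2.le hDS) fun e => ?_
      have hm : v ∈ ((U2 ⊔ D' : Subgroup G) : Set G) := e.ge hvS
      rw [coe_mul_of_left_le_normalizer_right _ _ hnD] at hm
      obtain ⟨x, hx, q, hq, e⟩ := hm
      refine havoid (x * q⁻¹ * x⁻¹) (commutator_conj (hU2.le hx) (inv_mem hq)) ?_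
      rw [← show x * q = v from e, show x * q⁻¹ * x⁻¹ * (x * q) = x by group]
      exact hx
    have hE4 : 4 ≤ Nat.card ↥(U2 ⊓ D') := by
      have h1 := double_le (S := S) le_rfl hlt
      have h2 := Grp.card_sup_mul_card_inf hnD
      rw [h.card] at h1
      rw [h16, hc] at h2
      nlinarith
    have hfix2 : ∀ q ∈ U2 ⊓ D', q * q = 1 → q = 1 ∨ q = z := by
      intro q hq hqq
      rcases hΩeq q ((hmem q).2 ⟨hq.2, hqq⟩) with e | e | e | e
      · exact Or.inl e
      · exact Or.inr e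
      · exact absurd (hab2 _ d2.split.v_mem _ (e ▸ hq.1)) hne
      · refine absurd ?_ hne
        have h1 : Commute d2.split.v (f * z) := hab2 _ d2.split.v_mem _ (e ▸ hq.1)
        have h2 : Commute d2.split.v z := hz.comm _ (d2.v_memS hU2)
        have := h1.mul_right h2.inv_right
        rw [mul_inv_cancel_right] at this
        exact this.eq
    obtain ⟨e, he, hee⟩ : ∃ e ∈ U2 ⊓ D', e * e ≠ 1 := by
      by_contra! hall
      have hsub : ((U2 ⊓ D' : Subgroup G) : Set G) ⊆ {1, z} := fun q hq => hfix2 q hq (hall q hq)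
      have h1 := (Set.ncard_le_ncard hsub).trans (Set.ncard_insert_le _ _)
      rw [← Nat.card_coe_set_eq, Set.ncard_singleton] at h1
      exact absurd (hE4.trans h1) (by norm_num)
    obtain ⟨j, hj1, hj2⟩ := order_four (S := S) (inf_le_left.trans hU2.le) he hee
    have hj := pow_mem he j
    rcases hfix2 _ (mul_mem hj hj) hj2 with e1 | e1
    · exact hj1 e1
    · exact d2.no_square h hz hU2 hj.1 e1
  -- one involution in the commutator subgroup
  push Not at hbig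
  have hone : ∀ q ∈ D', q * q = 1 → q = 1 ∨ q = z := fun q hq hqq => by
    by_cases hq1 : q = 1
    · exact Or.inl hq1
    · exact Or.inr (hbig q ((hmem q).2 ⟨hq, hqq⟩) hq1)
  -- the fixed involution `f`
  have hCc : Nat.card d.split.C = 2 := by have := d.split.card; omega
  obtain ⟨f, hfC, hf1⟩ : ∃ f ∈ d.split.C, f ≠ 1 := by
    by_contra! hall
    have : d.split.C = ⊥ := (eq_bot_iff_forall _).2 hall
    rw [this, card_bot] at hCc; omega
  have hff : f * f = 1 := by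
    have := orderOf_dvd_natCard _ hfC
    rw [hCc] at this
    rw [← sq]; exact orderOf_dvd_iff_pow_eq_one.1 this
  have hfi : f⁻¹ = f := inv_eq_of_mul_eq_one_right hff
  have hfU : f ∈ U := d.split.C_le hfC
  have hfS : f ∈ (S : Subgroup G) := hU.le hfU
  have hfz : f ≠ z := fun e => hf1 (d.C_central h hz hU hfC (e ▸ hz.comm))
  have hfD : f ∉ D' := fun hm => by
    rcases hone f hm hff with e | e
    exacts [hf1 e, hfz e]
  have hfour : ∀ e ∈ D', e * e = z → e * f = f * e := by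
    intro e he hee
    have h1 : e * v * e⁻¹ = z * v := by
      calc e * v * e⁻¹ = e * (v * e⁻¹ * v⁻¹) * v := by group
        _ = e * e * v := by rw [hinv _ (inv_mem he), inv_inv]
        _ = z * v := by rw [hee]
    have heN : e ∈ normalizer (U : Set G) := by
      refine Grp.mem_normalizer_of_map_eq.2 ?_
      conv_lhs => rw [← d.cent_v hU, cent_conj_map (hDS he), ← hv, h1]
      conv_rhs => rw [← d.cent_v hU, ← hv]
      refine le_antisymm (fun x hx => ⟨hx.1, ?_⟩) (fun x hx => ⟨hx.1, ?_⟩)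
      · refine mem_centralizer_singleton_iff.2 ?_
        exact ((show Commute x z from hz.comm x hx.1).mul_right
          (show Commute x v from mem_centralizer_singleton_iff.1 hx.2)).eq
      · refine mem_centralizer_singleton_iff.2 ?_
        have h2 : Commute x (z * v) := mem_centralizer_singleton_iff.1 hx.2
        have h3 : Commute x z := hz.comm x hx.1
        have := h3.inv_right.mul_right h2
        rwa [inv_mul_cancel_left] at this
    rcases d.cases_T hU ⟨hDS he, heN⟩ with hm | hm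
    · exact hUab e hm f hfU
    · have h2 : Commute d.b f := d.split.b_C f hfC
      have h3 : Commute (d.b⁻¹ * e) f := hUab _ hm f hfU
      have := h2.mul_left h3
      rwa [mul_inv_cancel_left] at this
  have horbf : ∀ s ∈ (S : Subgroup G), s * f * s⁻¹ = f ∨ s * f * s⁻¹ = f * z := by
    intro s hs
    obtain ⟨q, hq⟩ : ∃ q, q = f⁻¹ * (s * f * s⁻¹) := ⟨_, rfl⟩
    have hqD : q ∈ D' := by
      rw [hq, show f⁻¹ * (s * f * s⁻¹) = f⁻¹ * (s * f * s⁻¹ * f⁻¹) * f⁻¹⁻¹ by group]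
      exact commutator_conj (inv_mem hfS) (orb_coset hfS ⟨s, hs, rfl⟩)
    have hfinv : f * q * f⁻¹ = q⁻¹ := by
      rw [hq]
      calc f * (f⁻¹ * (s * f * s⁻¹)) * f⁻¹ = s * f * s⁻¹ * f⁻¹ := by group
        _ = (s * f⁻¹ * s⁻¹) * f := by rw [hfi]
        _ = _ := by group
    have hgoal : q = 1 ∨ q = z := by
      by_contra hne
      have hqq : q * q ≠ 1 := fun e => hne (hone q hqD e)
      obtain ⟨j, hj1, hj2⟩ := order_four (S := S) hDS hqD hqq
      have hj := pow_mem hqD j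
      have he : q ^ j * q ^ j = z := (hone _ (mul_mem hj hj) hj2).resolve_left hj1
      have h2 := hfour _ hj he
      have h3 : f * q ^ j * f⁻¹ = (q ^ j)⁻¹ := by rw [← conj_pow, hfinv, inv_pow]
      rw [← h2, mul_inv_cancel_right] at h3
      exact hj1 (by nth_rw 2 [h3]; rw [mul_inv_cancel])
    have hsf : s * f * s⁻¹ = f * q := by rw [hq, mul_inv_cancel_left]
    rcases hgoal with e | e
    · exact Or.inl (by rw [hsf, e, mul_one])
    · exact Or.inr (by rw [hsf, e])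
  -- `D'` is cyclic
  obtain ⟨B1, hB1, hB1D, hcB1⟩ := sq_half hDab hone
  have hab1 : Ab B1 := fun a ha c hc' => hDab a (hB1D ha) c (hB1D hc')
  obtain ⟨B2, hB2, hB2B, hcB2⟩ := sq_half hab1 (fun q hq => hone q (hB1D hq))
  obtain ⟨B3, hB3, hB3B, hcB3⟩ := sq_half (fun a ha c hc' => hab1 a (hB2B ha) c (hB2B hc'))
    (fun q hq => hone q (hB1D (hB2B hq)))
  obtain ⟨d0, hd0, hd08⟩ : ∃ d0 ∈ D', d0 ^ 8 ≠ 1 := by
    by_contra! hall
    have hbot : B3 = ⊥ := (eq_bot_iff_forall _).2 fun q hq => by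
      obtain ⟨r, hr, rfl⟩ := (hB3 q).1 hq
      obtain ⟨t, ht, rfl⟩ := (hB2 r).1 hr
      obtain ⟨p, hp, rfl⟩ := (hB1 t).1 ht
      rw [← hall p hp]; simp only [pow_succ, pow_zero, one_mul, mul_assoc]
    rw [hbot, card_bot] at hcB3
    omega
  have hord : orderOf d0 = 16 := by
    haveI : Fact (Nat.Prime 2) := ⟨Nat.prime_two⟩
    refine orderOf_eq_prime_pow (p := 2) (n := 3) (by norm_num; exact hd08) ?_
    have h1 := orderOf_dvd_natCard _ hd0
    rw [hc] at h1
    exact orderOf_dvd_iff_pow_eq_one.1 h1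
  have hgen : zpowers d0 = D' := eq_of_le_of_card_ge (zpowers_le.2 hd0) (by rw [Nat.card_zpowers, hord, hc])
  obtain ⟨D2, hD2⟩ : ∃ D2, D2 = zpowers (d0 * d0) := ⟨_, rfl⟩
  have hord2 : orderOf (d0 * d0) = 8 := by
    rw [← sq, orderOf_pow, hord]; norm_num
  have hD2D : D2 ≤ D' := hD2 ▸ zpowers_le.2 (mul_mem hd0 hd0)
  have hiD2 : D2.relIndex D' = 2 := rel_two hD2D (by rw [hc, hD2, Nat.card_zpowers, hord2])
  have hd0D2 : d0 ∉ D2 := fun hm => by
    have := orderOf_dvd_natCard _ hm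
    rw [hD2, Nat.card_zpowers, hord, hord2] at this
    norm_num at this
  have hsqD2 : ∀ q ∈ D2, ∃ r ∈ D', r * r = q := by
    intro q hq
    rw [hD2] at hq
    obtain ⟨i, rfl⟩ := mem_zpowers_iff.1 hq
    exact ⟨d0 ^ i, zpow_mem hd0 i, by rw [(Commute.refl d0).mul_zpow]⟩
  have hnot8 : ∀ q ∈ D', q ∉ D2 → q ^ 8 ≠ 1 := by
    intro q hq hqD2 e
    have hm : d0⁻¹ * q ∈ D2 :=
      (rel_mul hiD2 (inv_mem hd0) hq).2 (iff_of_false (fun e => hd0D2 (inv_mem_iff.1 e)) hqD2)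
    have h1 : (d0⁻¹ * q) ^ 8 = 1 := by
      have h3 := orderOf_dvd_natCard _ hm
      rw [hD2, Nat.card_zpowers, hord2] at h3
      exact orderOf_dvd_iff_pow_eq_one.1 h3
    have h2 : Commute d0⁻¹ q := hDab _ (inv_mem hd0) q hq
    rw [h2.mul_pow, e, mul_one, inv_pow, inv_eq_one] at h1
    exact hd08 h1
  have hD2n : ∀ s ∈ (S : Subgroup G), ∀ q ∈ D2, s * q * s⁻¹ ∈ D2 := by
    intro s hs q hq
    obtain ⟨r, hr, rfl⟩ := hsqD2 q hq
    rw [← conj_mul]
    exact rel_sq hiD2 (commutator_conj hs hr)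
  have hval : ∀ s ∈ (S : Subgroup G), s * v * s⁻¹ * v⁻¹ ∈ D' := fun s hs => orb_coset hvS ⟨s, hs, rfl⟩
  have hmulv : ∀ a ∈ (S : Subgroup G), ∀ c ∈ (S : Subgroup G),
      (a * c * v * (a * c)⁻¹ * v⁻¹ ∈ D2 ↔ (a * v * a⁻¹ * v⁻¹ ∈ D2 ↔ c * v * c⁻¹ * v⁻¹ ∈ D2)) := by
    intro a ha c hc'
    have e : a * c * v * (a * c)⁻¹ * v⁻¹ = (a * (c * v * c⁻¹ * v⁻¹) * a⁻¹) * (a * v * a⁻¹ * v⁻¹) := by group
    have e2 : a * (c * v * c⁻¹ * v⁻¹) * a⁻¹ ∈ D2 ↔ c * v * c⁻¹ * v⁻¹ ∈ D2 := by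
      refine ⟨fun hh => ?_, hD2n a ha _⟩
      have := hD2n a⁻¹ (inv_mem ha) _ hh
      simpa [mul_assoc] using this
    rw [e, rel_mul hiD2 (commutator_conj ha (hval c hc')) (hval a ha), e2]
    exact iff_comm
  obtain ⟨M, hM⟩ : ∃ M : Subgroup G, ∀ s, s ∈ M ↔ s ∈ (S : Subgroup G) ∧ s * v * s⁻¹ * v⁻¹ ∈ D2 :=
    ⟨{ carrier := {s | s ∈ (S : Subgroup G) ∧ s * v * s⁻¹ * v⁻¹ ∈ D2}
       one_mem' := ⟨one_mem _, by rw [one_mul, inv_one, mul_one, mul_inv_cancel]; exact one_mem _⟩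
       mul_mem' := fun {a c} ha hc' => ⟨mul_mem ha.1 hc'.1, (hmulv a ha.1 c hc'.1).2 (iff_of_true ha.2 hc'.2)⟩
       inv_mem' := fun {a} ha => ⟨inv_mem ha.1, ((hmulv a⁻¹ (inv_mem ha.1) a ha.1).1
         (by rw [inv_mul_cancel, one_mul, inv_one, mul_one, mul_inv_cancel]; exact one_mem _)).2 ha.2⟩ },
      fun s => Iff.rfl⟩
  obtain ⟨s0, hs0, hs0e⟩ := (hcl d0 hd0).1
  have hs0M : s0 ∉ M := fun e => hd0D2 (by
    have := ((hM s0).1 e).2
    rwa [hs0e, mul_inv_cancel_right] at this)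
  have hiM : M.relIndex (S : Subgroup G) = 2 := by
    refine index_eq_two_iff.2 ⟨⟨s0, hs0⟩, fun s => ?_⟩
    simp only [mem_subgroupOf, coe_mul, hM, mul_mem s.2 hs0, s.2, true_and, hmulv _ s.2 _ hs0,
      show ¬ (s0 * v * s0⁻¹ * v⁻¹ ∈ D2) from fun e => hs0M ((hM s0).2 ⟨hs0, e⟩), iff_false]
    by_cases hh : (s : G) * v * (s : G)⁻¹ * v⁻¹ ∈ D2 <;> simp [Xor', hh]
  obtain ⟨U2, hU2, d2, hv2⟩ := h.exists_v hz hiM
  obtain ⟨v2, hv2d⟩ : ∃ v2, v2 = d2.split.v := ⟨_, rfl⟩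
  rw [← hv2d] at hv2
  have hv2S : v2 ∈ (S : Subgroup G) := hv2d ▸ d2.v_memS hU2
  have hv22 : v2 * v2 = 1 := hv2d ▸ d2.split.v_sq
  have hv2i : v2⁻¹ = v2 := inv_eq_of_mul_eq_one_right hv22
  obtain ⟨r, hr⟩ : ∃ r, r = v * v2 := ⟨_, rfl⟩
  have hrS : r ∈ (S : Subgroup G) := hr ▸ mul_mem hvS hv2S
  have hri : r⁻¹ = v2 * v := by rw [hr, mul_inv_rev, hvi, hv2i]
  have hr2 : r * r ∈ D' ∧ r * r ∉ D2 := by
    have e : v2 * v * v2⁻¹ * v⁻¹ = (r * r)⁻¹ := by rw [mul_inv_rev, hri, hvi, hv2i]; group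
    constructor
    · have := hval v2 hv2S; rw [e] at this; exact inv_mem_iff.1 this
    · intro hm; exact hv2 ((hM v2).2 ⟨hv2S, by rw [e]; exact inv_mem hm⟩)
  have hr16 : r ^ 16 = z := by
    have h1 : (r * r) ^ 8 ≠ 1 := hnot8 _ hr2.1 hr2.2
    have h2 : r ^ 16 = (r * r) ^ 8 := by rw [← sq, ← pow_mul]
    rw [h2]
    refine (hone _ (pow_mem hr2.1 8) ?_).resolve_left h1
    rw [← pow_add, ← orderOf_dvd_iff_pow_eq_one]
    have h3 := orderOf_dvd_natCard _ hr2.1
    rw [hc] at h3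
    exact h3
  have hr8 : r ^ 8 ∈ D' := by rw [show r ^ 8 = (r * r) ^ 4 by rw [← sq, ← pow_mul]]; exact pow_mem hr2.1 4
  have he : r ^ 8 * r ^ 8 = z := by rw [← pow_add]; exact hr16
  have hor : orderOf r = 32 := by
    haveI : Fact (Nat.Prime 2) := ⟨Nat.prime_two⟩
    refine orderOf_eq_prime_pow (p := 2) (n := 4) (by norm_num; rw [hr16]; exact hz.ne) ?_
    norm_num
    rw [show (32 : ℕ) = 16 + 16 by norm_num, pow_add, hr16, hz.sq]
  by_cases hfix : v2 * f = f * v2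
  · -- then `f` is central
    have hvf : v * f = f * v := (hUab f hfU v (hv ▸ d.split.v_mem)).symm
    have hrf : Commute r f := hr ▸ (show Commute v f from hvf).mul_left hfix
    obtain ⟨K, hK⟩ : ∃ K, K = zpowers f ⊔ zpowers r := ⟨_, rfl⟩
    have hKC : K ≤ centralizer ({r} : Set G) := hK ▸ sup_le
      (zpowers_le.2 (mem_centralizer_singleton_iff.2 hrf.eq.symm))
      (zpowers_le.2 (mem_centralizer_singleton_iff.2 rfl))
    have hKS : K ≤ (S : Subgroup G) := hK ▸ sup_le (zpowers_le.2 hfS) (zpowers_le.2 hrS)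
    have hKf : K ≤ centralizer ({f} : Set G) := hK ▸ sup_le
      (zpowers_le.2 (mem_centralizer_singleton_iff.2 rfl))
      (zpowers_le.2 (mem_centralizer_singleton_iff.2 hrf.eq))
    have hlt1 : zpowers r < K := hK ▸ lt_of_le_of_ne le_sup_right fun e => by
      have hm : f ∈ zpowers r := e.ge (le_sup_left (b := zpowers r) (mem_zpowers f))
      obtain ⟨i, hi⟩ := mem_zpowers_iff.1 hm
      have h1 : r ^ (2 * i) = 1 := by rw [two_mul, zpow_add, hi, hff]
      rw [← orderOf_dvd_iff_zpow_eq_one, hor] at h1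
      obtain ⟨m, hm'⟩ := h1
      refine hfD ?_
      rw [← hi, show i = 16 * m by push_cast at hm'; omega, zpow_mul, show r ^ (16 : ℤ) = z by exact_mod_cast hr16]
      exact zpow_mem hzD m
    have hv2K : v2 ∉ K := fun hm => by
      have h1 : Commute v2 r := mem_centralizer_singleton_iff.1 (hKC hm)
      have h2 : v2 * r * v2⁻¹ = r⁻¹ := by rw [hr, mul_inv_rev, hvi, hv2i]; simp [mul_assoc, hv22]
      rw [h1.eq, mul_inv_cancel_right] at h2
      have h3 : r * r = 1 := by nth_rw 2 [h2]; rw [mul_inv_cancel]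
      exact hr2.2 (h3 ▸ one_mem _)
    have hK2 : K < K ⊔ zpowers v2 :=
      lt_of_le_of_ne le_sup_left fun e => hv2K (e.ge (le_sup_right (b := zpowers v2) (mem_zpowers v2)))
    have h64 := double_le (S := S) hKS hlt1
    have hK2S : K ⊔ zpowers v2 ≤ (S : Subgroup G) := sup_le hKS (zpowers_le.2 hv2S)
    have h128 := double_le (S := S) hK2S hK2
    rw [Nat.card_zpowers, hor] at h64
    have hSeq : K ⊔ zpowers v2 = (S : Subgroup G) := eq_of_le_of_card_ge hK2S (by rw [h.card]; omega)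
    have hfc : (S : Subgroup G) ≤ centralizer ({f} : Set G) :=
      hSeq ▸ sup_le hKf (zpowers_le.2 (mem_centralizer_singleton_iff.2 hfix))
    exact hfz (d.central_eq h hz hU (fun x hx => mem_centralizer_singleton_iff.1 (hfc hx)) hf1)
  · obtain ⟨g, hg⟩ : ∃ g, g = f * r ^ 8 := ⟨_, rfl⟩
    have hfe : Commute f (r ^ 8) := (hfour _ hr8 he).symm
    have hgg : g * g = z := by
      rw [hg, ← mul_assoc, mul_assoc f, ← hfe.eq, ← mul_assoc, hff, one_mul, he]
    have hg2 : g ∈ (S : Subgroup G) ⊓ centralizer ({v2} : Set G) := by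
      refine ⟨hg ▸ mul_mem hfS (hDS hr8), mem_centralizer_singleton_iff.2 ?_⟩
      have h1 : v2 * f * v2⁻¹ = f * z :=
        (horbf v2 hv2S).resolve_left fun e => hfix (mul_inv_eq_iff_eq_mul.1 e)
      have h2 : v2 * r ^ 8 * v2⁻¹ = (r ^ 8)⁻¹ := by
        rw [← conj_pow, ← inv_pow]
        congr 1
        rw [hr, mul_inv_rev, hvi, hv2i]; simp [mul_assoc, hv22]
      have h3 : v2 * g * v2⁻¹ = g := by
        rw [hg, ← conj_mul, h1, h2, mul_assoc, ← he, mul_inv_cancel_right]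
      exact (mul_inv_eq_iff_eq_mul.1 h3).symm
    rw [hv2d, d2.cent_v hU2] at hg2
    exact d2.no_square h hz hU2 hg2 hgg

end Cfsg.Agent.Fus.LenEight
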