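import Cfsg.Agent.Lib.Fus.LengthEight.EndDihedral
import Cfsg.Agent.Lib.Invol.GW.Klein.LinearPSL
import Cfsg.Agent.S0483

/-!
# A simple group of length eight with Sylow order `2 ^ 7` is `L2(127)` (for S3250)
-/

set_option autoImplicit false
set_option linter.style.haveILetI false

namespace Cfsg.Agent.Fus.LenEight

open Subgroup

universe u

theorem main {G : Type u} [Group G] [Finite G] {S : Sylow 2 G} (h : Hyp G S) :
    ∃ (F : Type) (_ : Field F) (_ : Fintype F), Fintype.card F = 127 ∧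
      Nonempty (G ≃* Matrix.ProjectiveSpecialLinearGroup (Fin 2) F) := by
  haveI : Fact (Nat.Prime 2) := ⟨Nat.prime_two⟩
  haveI := h.simple
  obtain ⟨n, hn, hdi⟩ := h.dihedral
  haveI : Group.IsPerfect G := ⟨(h.normal_eq (commutator G) inferInstance).resolve_left fun e =>
    h.nonab ⟨⟨fun a b => commutatorElement_eq_one_iff_mul_comm.1
      (mem_bot.1 (e ▸ commutator_mem_commutator (mem_top a) (mem_top b)))⟩⟩⟩
  have hindex : ¬ 2 ∣ (S : Subgroup G).index := S.not_dvd_index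
  have hG : Nat.card G = 2 ^ 7 * (S : Subgroup G).index := by
    rw [← h.card, card_mul_index]
  have hodd : Cfsg.oddCore G = ⊥ := by
    refine (Grp.pPrimeCore_isNormal (p := 2) (G := G)).eq_bot_or_eq_top.resolve_right fun e => ?_
    have h1 := Grp.pPrimeCore_coprime (p := 2) (G := G)
    rw [show Cfsg.pPrimeCore 2 G = ⊤ from e, Subgroup.card_top, Nat.coprime_two_right, hG] at h1
    exact absurd h1 (Nat.not_odd_iff_even.2 (Nat.even_mul.2 (Or.inl (by decide))))
  let q0 : G ⧸ Cfsg.oddCore G ≃* G :=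
    (QuotientGroup.quotientMulEquivOfEq hodd).trans (QuotientGroup.quotientBot (G := G))
  rcases Cfsg.Agent.S0483.result S n (by omega) hdi with ⟨F, iF, iFF, hFodd, hF3, ⟨e⟩⟩ | he
  swap
  · exfalso
    obtain ⟨e⟩ := he
    have h1 := Nat.card_congr (q0.symm.trans e).toEquiv
    rw [hG, nat_card_alternatingGroup, Nat.card_eq_fintype_card, Fintype.card_fin] at h1
    norm_num [Nat.factorial] at h1
    omega
  refine ⟨F, iF, iFF, ?_, ⟨q0.symm.trans e⟩⟩
  obtain ⟨φ, -⟩ : ∃ φ : G ≃* Matrix.ProjectiveSpecialLinearGroup (Fin 2) F, φ = q0.symm.trans e := ⟨_, rfl⟩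
  obtain ⟨z, hz⟩ := exists_cen (S := S) h.card
  have hzo : orderOf (φ z) = 2 := by
    rw [MulEquiv.orderOf_eq]
    exact orderOf_eq_prime (by rw [sq, hz.sq]) hz.ne
  obtain ⟨T, -, hTc, -, -, hT1, hT3⟩ := Invol.GW.Klein.PSL.exists_torus hFodd hzo
  obtain ⟨i, hi⟩ : ∃ i, Nat.card T = 2 ^ i := by
    have hle : T.comap φ.toMonoidHom ≤ (S : Subgroup G) := fun x hx =>
      h.mem_of_fix_z hz (φ.injective (by rw [map_mul, map_mul]; exact (hTc _ hx).eq))
    obtain ⟨i, hi⟩ := card_two_pow hle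
    refine ⟨i, ?_⟩
    rw [← hi, Nat.card_congr ((T.comap φ.toMonoidHom).equivMapOfInjective φ.toMonoidHom φ.injective).toEquiv,
      map_comap_eq_self_of_surjective (f := φ.toMonoidHom) φ.surjective]
  have h2 := Invol.GW.Klein.PSL.card_mul (F := F) hFodd
  rw [← Nat.card_congr φ.toEquiv, hG] at h2
  have hi7 : i ≤ 7 := by
    have hdvd : 2 ^ i ∣ Nat.card G := Nat.card_congr φ.toEquiv ▸ hi ▸ card_subgroup_dvd_card T
    rw [hG] at hdvd
    exact (Nat.pow_dvd_pow_iff_le_right (by norm_num)).1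
      (((Nat.prime_two.coprime_iff_not_dvd.2 hindex).pow_left i).dvd_of_dvd_mul_right hdvd)
  obtain ⟨m, hm⟩ := Nat.odd_iff.2 (Nat.two_dvd_ne_zero.1 hindex)
  rw [hm] at h2
  obtain ⟨p, -, ⟨r, hr0⟩, hp, hpq⟩ := FiniteField.card' (K := F)
  rcases (show Fintype.card F % 4 = 1 ∨ Fintype.card F % 4 = 3 by
    obtain ⟨t, ht⟩ := hFodd; omega) with h4 | h4
  · exfalso
    have hq := hT1 h4
    rw [hi] at hq
    interval_cases i <;> norm_num at hq <;> rw [← hq] at h2 h4 hF3 hpq <;> try omega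
    -- `q = 129`
    simp only [PNat.mk_coe] at hpq
    have h3 : p = 3 := by
      have : 3 ∣ p ^ r := hpq ▸ (by norm_num)
      exact ((Nat.prime_dvd_prime_iff_eq Nat.prime_three hp).1 (Nat.prime_three.dvd_of_dvd_pow this)).symm
    have h43 : 43 ∣ p ^ r := hpq ▸ (by norm_num)
    have := (Nat.prime_dvd_prime_iff_eq (by norm_num) hp).1 ((show Nat.Prime 43 by norm_num).dvd_of_dvd_pow h43)
    omega
  · have hq := hT3 h4
    rw [hi] at hq
    have hq' : Fintype.card F = 2 * 2 ^ i - 1 := by omega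
    rw [hq'] at h2 h4 hF3 ⊢
    interval_cases i <;> first | omega | (norm_num at h2 h4 hF3 ⊢ <;> omega)

end Cfsg.Agent.Fus.LenEight
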