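import Cfsg.Agent.Lib.Fus.LengthEight.DataPair

/-!
# Small essential subgroups are abelian (for S3250)
-/

set_option autoImplicit false
set_option linter.style.haveILetI false

namespace Cfsg.Agent.Fus.LenEight

open Subgroup

universe u

variable {G : Type u} [Group G] [Finite G] {S : Sylow 2 G}

omit [Finite G] in
/-- In a group which is the double of an abelian `L = Z ∪ Za` all non-trivial commutators agree. -/
theorem comm_const {U L Z : Subgroup G} (hLU : L ≤ U) (hiL : L.relIndex U = 2) (hiZ : Z.relIndex L = 2) (hZL : Z ≤ L)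
    (hZ : ∀ q ∈ Z, ∀ v ∈ U, v * q = q * v) {a b c : G} (haL : a ∈ L) (haZ : a ∉ Z)
    (hbU : b ∈ U) (hbL : b ∉ L) (hc : c = b * a * b⁻¹ * a⁻¹) (hcc : c * c = 1) (hcZ : c ∈ Z)
    {p q : G} (hp : p ∈ U) (hq : q ∈ U) (hpq : p * q ≠ q * p) : p * q * p⁻¹ * q⁻¹ = c := by
  have habel : ∀ l ∈ L, l * a = a * l := by
    intro l hl
    by_cases hlZ : l ∈ Z
    · exact (hZ l hlZ a (hLU haL)).symm
    · have hm : l * a⁻¹ ∈ Z := (rel_mul hiZ hl (inv_mem haL)).2 (iff_of_false hlZ fun e => haZ (inv_mem_iff.1 e))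
      have := hZ _ hm a (hLU haL)
      calc l * a = l * a⁻¹ * a * a := by group
        _ = a * (l * a⁻¹) * a := by rw [this]
        _ = a * l := by group
  have key : ∀ r ∈ U, r ∉ L → ∀ l ∈ L, l ∉ Z → r * l * r⁻¹ * l⁻¹ = c := by
    intro r hr hrL l hl hlZ
    have hm : l * a⁻¹ ∈ Z := (rel_mul hiZ hl (inv_mem haL)).2 (iff_of_false hlZ fun e => haZ (inv_mem_iff.1 e))
    have hbr : b⁻¹ * r ∈ L := (rel_mul hiL (inv_mem hbU) hr).2 (iff_of_false (fun e => hbL (inv_mem_iff.1 e)) hrL)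
    obtain ⟨o, ho, ho'⟩ : ∃ o ∈ L, r = b * o := ⟨_, hbr, by group⟩
    obtain ⟨e, he, he'⟩ : ∃ e ∈ Z, l = e * a := ⟨_, hm, by group⟩
    subst ho' he'
    have e1 : b * o * e * (b * o)⁻¹ = e := mul_inv_eq_iff_eq_mul.2 (hZ e he _ hr)
    have e2 : o * a * o⁻¹ = a := mul_inv_eq_iff_eq_mul.2 (habel o ho)
    calc b * o * (e * a) * (b * o)⁻¹ * (e * a)⁻¹
        = (b * o * e * (b * o)⁻¹) * (b * (o * a * o⁻¹) * b⁻¹) * a⁻¹ * e⁻¹ := by group
      _ = e * (b * a * b⁻¹ * a⁻¹) * e⁻¹ := by rw [e1, e2]; group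
      _ = c := by rw [← hc, hZ c hcZ e (hLU (hZL he)), mul_inv_cancel_right]
  have hZc : ∀ {r s : G}, r ∈ Z → s ∈ U → r * s = s * r := fun hr hs => (hZ _ hr _ hs).symm
  by_cases hpL : p ∈ L <;> by_cases hqL : q ∈ L
  · exfalso
    by_cases hpZ : p ∈ Z
    · exact hpq (hZc hpZ hq)
    obtain ⟨e, he, rfl⟩ : ∃ e ∈ Z, p = e * a :=
      ⟨_, (rel_mul hiZ hpL (inv_mem haL)).2 (iff_of_false hpZ fun e => haZ (inv_mem_iff.1 e)), by group⟩
    exact hpq (((show Commute e q from hZc he hq).mul_left (show Commute a q from (habel q hqL).symm)).eq)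
  · have hpZ : p ∉ Z := fun e => hpq (hZc e hq)
    have e := key q hq hqL p hpL hpZ
    rw [← inv_eq_of_mul_eq_one_right hcc, ← e]
    group
  · exact key p hp hpL q hqL fun e => hpq (hZc e hp).symm
  · obtain ⟨l, hl, rfl⟩ : ∃ l ∈ L, q = l * p :=
      ⟨q * p⁻¹, (rel_mul hiL hq (inv_mem hp)).2 (iff_of_false hqL fun e => hpL (inv_mem_iff.1 e)), by group⟩
    have hlZ : l ∉ Z := fun e => hpq (by
      rw [← mul_assoc, ← hZc e hp, mul_assoc])
    rw [← key p hp hpL l hl hlZ]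
    group

variable (h : Hyp G S) {z : G} (hz : Cen S z) {U : Subgroup G} (hU : Ess S U)
include h hz hU

theorem Ess.ab_small {u a k : ℕ} (hs : Sizes S U z u a k) (hu : u ≤ 4) : Ab U := by
  intro a' ha b hb
  by_contra hab
  set Z := centralizer (U : Set G) with hZdef
  have hZ : ∀ q ∈ Z, ∀ v ∈ U, v * q = q * v := fun q hq v hv => mem_centralizer_iff.1 hq v hv
  obtain ⟨L, hL⟩ : ∃ L : Subgroup G, ∀ v, v ∈ L ↔ v ∈ U ∧ v * a' = a' * v :=
    ⟨U ⊓ centralizer ({a'} : Set G), fun v => by rw [mem_inf, mem_centralizer_singleton_iff]⟩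
  have hLU : L ≤ U := fun v hv => ((hL v).1 hv).1
  have hZL : Z ≤ L := fun q hq => (hL q).2 ⟨hU.cent hq, (hZ q hq a' ha).symm⟩
  have haZ : a' ∉ Z := fun e => hab (hZ a' e b hb).symm
  have haL : a' ∈ L := (hL a').2 ⟨ha, rfl⟩
  have hbL : b ∉ L := fun e => hab ((hL b).1 e).2.symm
  have h1 := double_le (S := S) (hLU.trans hU.le) (lt_of_le_of_ne hZL fun e => haZ (e ▸ haL))
  have h2 := double_le (S := S) hU.le (lt_of_le_of_ne hLU fun e => hbL (by rw [e]; exact hb))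
  have h3 := hs.cent
  rw [hs.cardU] at h2
  have h4 := Nat.pow_le_pow_right (show 0 < 2 by norm_num) hu
  have h5 := hs.three
  rw [← hZdef] at h3
  have hiL : L.relIndex U = 2 := rel_two hLU (by rw [hs.cardU]; omega)
  have hiZ : Z.relIndex L = 2 := rel_two hZL (by omega)
  have hconj : b * a' * b⁻¹ ∈ L := (rel_conj hiL hb ha).2 haL
  have hconjZ : b * a' * b⁻¹ ∉ Z := fun e => haZ (by
    have e' := hZ _ e b hb
    have : b * a' * b⁻¹ = a' := by
      have := congrArg (fun t => b⁻¹ * t) e'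
      simpa [mul_assoc] using this
    exact this ▸ e)
  have hcZ : b * a' * b⁻¹ * a'⁻¹ ∈ Z :=
    (rel_mul hiZ hconj (inv_mem haL)).2 (iff_of_false hconjZ fun e => haZ (inv_mem_iff.1 e))
  obtain ⟨c, hc⟩ : ∃ c, c = b * a' * b⁻¹ * a'⁻¹ := ⟨_, rfl⟩
  rw [← hc] at hcZ
  have hbb : b * b * a' = a' * (b * b) :=
    ((hL _).1 (rel_sq hiL hb)).2
  have hcc : c * c = 1 := by
    have hbc : b * c * b⁻¹ = c := mul_inv_eq_iff_eq_mul.2 (hZ c hcZ b hb)
    have e0 : b * b * a' * b⁻¹ * b⁻¹ = a' := by rw [hbb]; group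
    have e1 : b * (c * a') * b⁻¹ = a' := by
      rw [hc]; conv_rhs => rw [← e0]
      group
    have e2 : b * (c * a') * b⁻¹ = c * c * a' := by
      calc b * (c * a') * b⁻¹ = (b * c * b⁻¹) * (b * a' * b⁻¹ * a'⁻¹) * a' := by group
        _ = c * c * a' := by rw [hbc, ← hc]
    exact mul_eq_right.1 (e2.symm.trans e1)
  have hfix : ∀ n ∈ normalizer (U : Set G), n * c * n⁻¹ = c := by
    intro n hn
    have hm : ∀ {v}, v ∈ U → n * v * n⁻¹ ∈ U := fun {v} hv => (mem_normalizer_iff.1 hn v).1 hv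
    have := comm_const hLU hiL hiZ hZL hZ haL haZ hb hbL hc hcc hcZ (hm hb) (hm ha) (fun e => hab (by
      have := congrArg (fun t => n⁻¹ * t * n) e
      simpa [mul_assoc] using this.symm))
    conv_rhs => rw [← this]
    rw [hc]; group
  have hc1 : c ≠ 1 := fun e => hab (by
    rw [hc] at e
    exact (mul_inv_eq_iff_eq_mul.1 (mul_inv_eq_one.1 e)).symm)
  have hsub : orb (normalizer (U : Set G)) z ⊆ (Z : Set G) \ {1} := by
    rintro _ ⟨n, hn, rfl⟩
    refine ⟨?_, fun e => hz.ne (conj_eq_one_iff.1 e)⟩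
    refine mem_centralizer_iff.2 fun v hv => ?_
    have h1 := hU.z_comm hz (n⁻¹ * v * n) (by simpa using (mem_normalizer_iff.1 (inv_mem hn) v).1 hv)
    have := congrArg (fun t => n * t * n⁻¹) h1
    simpa [mul_assoc] using this
  have heq : orb (normalizer (U : Set G)) z = (Z : Set G) \ {1} := by
    refine Set.eq_of_subset_of_ncard_le hsub ?_
    rw [Set.ncard_diff_singleton_of_mem (one_mem Z), hs.orbit,
      show ((Z : Subgroup G) : Set G).ncard = Nat.card Z from (Nat.card_coe_set_eq _).symm]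
    omega
  obtain ⟨m, hm, hmc⟩ : c ∈ orb (normalizer (U : Set G)) z := heq ▸ ⟨hcZ, hc1⟩
  refine hU.non fun n hn => h.mem_of_fix_z hz ?_
  have := hfix m⁻¹ (inv_mem hm)
  rw [← hmc] at this
  have hzc : z = c := by
    rw [← hmc]
    conv_lhs => rw [show z = m⁻¹ * (m * z * m⁻¹) * m⁻¹⁻¹ by group, this]
  rw [hzc]
  exact mul_inv_eq_iff_eq_mul.1 (hfix n hn)

end Cfsg.Agent.Fus.LenEight
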