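import Cfsg.Agent.Lib.Fus.LengthEight.Basic
import Cfsg.Agent.Lib.Grp.Basic

/-!
# An involution fixing a subgroup of index two gives a factor of type four (for S3250)
-/

set_option autoImplicit false
set_option linter.style.haveILetI false

namespace Cfsg.Agent.Fus.LenEight

open Subgroup

universe u

variable {G : Type u} [Group G] [Finite G]

/-- An element of odd order moving `x` by a fixed 2-element fixes `x`. -/
theorem fix_of_step {g x c : G} (hg : Odd (orderOf g)) (hc : ∃ k : ℕ, orderOf c = 2 ^ k)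
    (hgc : g * c = c * g) (he : g * x * g⁻¹ = x * c) : g * x = x * g := by
  have key : ∀ n : ℕ, g ^ n * x * (g ^ n)⁻¹ = x * c ^ n := by
    intro n
    induction n with
    | zero => simp
    | succ n ih =>
      have hcn : g * c ^ n * g⁻¹ = c ^ n := by
        rw [(Commute.pow_right (show Commute g c from hgc) n).eq, mul_inv_cancel_right]
      calc g ^ (n + 1) * x * (g ^ (n + 1))⁻¹ = g * (g ^ n * x * (g ^ n)⁻¹) * g⁻¹ := by rw [pow_succ']; group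
        _ = g * x * g⁻¹ * (g * c ^ n * g⁻¹) := by rw [ih]; group
        _ = x * c ^ (n + 1) := by rw [he, hcn, pow_succ', mul_assoc]
  have h1 := key (orderOf g)
  rw [pow_orderOf_eq_one, one_mul, inv_one, mul_one] at h1
  have h2 : c = 1 := by
    obtain ⟨k, hk⟩ := hc
    have hd : orderOf c ∣ orderOf g := orderOf_dvd_of_pow_eq_one (left_eq_mul.1 h1)
    exact orderOf_eq_one_iff.1 (Nat.eq_one_of_dvd_coprimes ((Nat.coprime_two_left.2 hg).pow_left k)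
      (hk ▸ dvd_rfl) hd)
  rw [h2, mul_one] at he
  exact mul_inv_eq_iff_eq_mul.1 he

theorem two_elt_of_mem {U : Subgroup G} (hU : IsPGroup 2 U) {c : G} (hc : c ∈ U) : ∃ k : ℕ, orderOf c = 2 ^ k := by
  haveI : Fact (Nat.Prime 2) := ⟨Nat.prime_two⟩
  obtain ⟨k, hk⟩ := hU.exists_orderOf_eq_pow ⟨c, hc⟩
  exact ⟨k, by rwa [Subgroup.orderOf_mk] at hk⟩

theorem not_mem_of_odd {U : Subgroup G} (hU : IsPGroup 2 U) {g : G} (hg : Odd (orderOf g)) (h1 : g ≠ 1) :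
    g ∉ U := fun hm => by
  obtain ⟨k, hk⟩ := two_elt_of_mem hU hm
  rcases Nat.eq_zero_or_pos k with rfl | hk0
  · exact h1 (orderOf_eq_one_iff.1 (by rw [hk, pow_zero]))
  · exact Nat.not_even_iff_odd.2 hg (by rw [hk]; exact Nat.even_pow.2 ⟨even_two, by omega⟩)

/-- The splitting of `U` by an element `y` of order three inverted by `b`. -/
structure Split (U : Subgroup G) (b y : G) where
  C : Subgroup G
  w : G
  v : G
  y_three : orderOf y = 3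
  mem_C : ∀ x, x ∈ C ↔ x ∈ U ∧ y * x = x * y
  normal_C : ∀ u ∈ U, ∀ c ∈ C, u * c * u⁻¹ ∈ C
  sq_mem : ∀ u ∈ U, u * u ∈ C
  w_mem : w ∈ U
  v_mem : v ∈ U
  w_central : ∀ u ∈ U, u * w = w * u
  v_central : ∀ u ∈ U, u * v = v * u
  w_sq : w * w = 1
  v_sq : v * v = 1
  w_notC : w ∉ C
  v_notC : v ∉ C
  vw_notC : v * w ∉ C
  decomp : ∀ u ∈ U, ∃ c ∈ C, u = c ∨ u = c * w ∨ u = c * v ∨ u = c * (v * w)
  card : Nat.card U = 4 * Nat.card C
  y_w : y * w * y⁻¹ = v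
  y_v : y * v * y⁻¹ = v * w
  y_vw : y * (v * w) * y⁻¹ = w
  b_C : ∀ c ∈ C, b * c = c * b
  b_w : b * w = w * b
  b_v : b * v * b⁻¹ = v * w

theorem Split.C_le {U : Subgroup G} {b y : G} (d : Split U b y) : d.C ≤ U := fun x hx => ((d.mem_C x).1 hx).1

theorem Split.w_ne {U : Subgroup G} {b y : G} (d : Split U b y) : d.w ≠ 1 := fun e =>
  d.w_notC (e ▸ one_mem _)

theorem Split.v_ne {U : Subgroup G} {b y : G} (d : Split U b y) : d.v ≠ 1 := fun e =>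
  d.v_notC (e ▸ one_mem _)

/-- An element of odd order normalising `U` cannot centralise a subgroup of index at most two. -/
theorem not_index_two {U : Subgroup G} (hU : IsPGroup 2 U) (hcent : centralizer (U : Set G) ≤ U) {y : G}
    (hyN : y ∈ normalizer (U : Set G)) (hy : Odd (orderOf y)) (hy1 : y ≠ 1) {L : Subgroup G} (hLU : L ≤ U)
    (hL : Nat.card U ≤ 2 * Nat.card L) (hc : ∀ l ∈ L, y * l = l * y) : False := by
  refine not_mem_of_odd hU hy hy1 (hcent (mem_centralizer_iff.2 fun u hu => ?_))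
  by_cases huL : u ∈ L
  · exact (hc u huL).symm
  have hi : L.relIndex U = 2 := by
    have h1 : L.relIndex U * Nat.card L = Nat.card U := by
      rw [mul_comm, relIndex, ← Nat.card_congr (subgroupOfEquivOfLe hLU).toEquiv]
      exact (L.subgroupOf U).card_mul_index
    have h2 : L.relIndex U ≠ 1 := fun e => huL (relIndex_eq_one.1 e hu)
    have h3 : L.relIndex U ≠ 0 := Subgroup.index_ne_zero_of_finite
    have := Nat.card_pos (α := L)
    nlinarith [show 2 ≤ L.relIndex U by omega, show L.relIndex U ≤ 2 by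
      by_contra h4; push Not at h4; nlinarith]
  have hm : y * u * y⁻¹ ∈ U := (mem_normalizer_iff.1 hyN u).1 hu
  have hnL : y * u * y⁻¹ ∉ L := fun hin => huL (by
    have e : y * (y * u * y⁻¹) * y⁻¹ = y * u * y⁻¹ := by rw [hc _ hin, mul_inv_cancel_right]
    have e' : y * u * y⁻¹ = u := by
      have := congrArg (fun t => y⁻¹ * t * y) e
      simpa [mul_assoc] using this
    exact e' ▸ hin)
  have hcL : u⁻¹ * (y * u * y⁻¹) ∈ L := by
    have h4 := mul_mem_iff_of_index_two (H := L.subgroupOf U) hi (a := ⟨u⁻¹, inv_mem hu⟩) (b := ⟨_, hm⟩)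
    simp only [mem_subgroupOf, MulMemClass.mk_mul_mk, inv_mem_iff] at h4
    exact h4.2 ⟨fun e => absurd e huL, fun e => absurd e hnL⟩
  exact (fix_of_step hy (two_elt_of_mem hU (hLU hcL)) (hc _ hcL) (by group)).symm

theorem rel_two {H U : Subgroup G} (hH : H ≤ U) (hc : Nat.card U = 2 * Nat.card H) : H.relIndex U = 2 := by
  have h1 : Nat.card H * H.relIndex U = Nat.card U := by
    rw [relIndex, ← Nat.card_congr (subgroupOfEquivOfLe hH).toEquiv]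
    exact (H.subgroupOf U).card_mul_index
  rw [hc, mul_comm 2] at h1
  exact Nat.eq_of_mul_eq_mul_left Nat.card_pos h1

omit [Finite G] in
theorem rel_mul {H U : Subgroup G} (hi : H.relIndex U = 2) {a c : G} (ha : a ∈ U) (hc : c ∈ U) :
    a * c ∈ H ↔ (a ∈ H ↔ c ∈ H) := by
  simpa [mem_subgroupOf] using mul_mem_iff_of_index_two (H := H.subgroupOf U) hi (a := ⟨a, ha⟩) (b := ⟨c, hc⟩)

omit [Finite G] in
theorem rel_conj {H U : Subgroup G} (hi : H.relIndex U = 2) {u c : G} (hu : u ∈ U) (hc : c ∈ U) :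
    u * c * u⁻¹ ∈ H ↔ c ∈ H := by
  rw [rel_mul hi (mul_mem hu hc) (inv_mem hu), rel_mul hi hu hc, inv_mem_iff]
  by_cases a : u ∈ H <;> simp [a]

omit [Finite G] in
theorem rel_sq {H U : Subgroup G} (hi : H.relIndex U = 2) {u : G} (hu : u ∈ U) : u * u ∈ H :=
  (rel_mul hi hu hu).2 Iff.rfl

theorem inf_card {H0 H1 U : Subgroup G} (h0 : H0 ≤ U) (h1 : H1 ≤ U) (hc0 : Nat.card U = 2 * Nat.card H0)
    (hc1 : Nat.card U = 2 * Nat.card H1) (hne : H0 ≠ H1) : Nat.card U = 4 * Nat.card ↥(H0 ⊓ H1) := by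
  obtain ⟨a, ha, ha0⟩ : ∃ a ∈ H1, a ∉ H0 := by
    by_contra! hle
    exact hne (eq_of_le_of_card_ge (show H1 ≤ H0 from hle) (by omega)).symm
  have hi : (H0.subgroupOf H1).index = 2 := by
    refine index_eq_two_iff.2 ⟨⟨a, ha⟩, fun b => ?_⟩
    simp only [mem_subgroupOf, coe_mul, rel_mul (rel_two h0 hc0) (h1 b.2) (h1 ha), iff_false_intro ha0, iff_false]
    by_cases hb : (b : G) ∈ H0 <;> simp [Xor', hb]
  have h2 := (H0.subgroupOf H1).card_mul_index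
  rw [hi, ← inf_subgroupOf_right, Nat.card_congr (subgroupOfEquivOfLe inf_le_right).toEquiv] at h2
  omega

/-- Among the three non-trivial classes of a four group: a fixed-point-free sequence has period three. -/
theorem period_three (a b c d : Bool × Bool) : a ≠ (true, true) → b ≠ (true, true) → c ≠ (true, true) →
    d ≠ (true, true) → a ≠ b → b ≠ c → a ≠ c → c ≠ d → b ≠ d → a = d := by
  obtain ⟨_ | _, _ | _⟩ := a <;> obtain ⟨_ | _, _ | _⟩ := b <;> obtain ⟨_ | _, _ | _⟩ := c <;>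
    obtain ⟨_ | _, _ | _⟩ := d <;> simp

/-- No coset of the centralised part is fixed by an element of odd order with the same fixed points. -/
theorem moves {U H0 H1 : Subgroup G} (hU : IsPGroup 2 U) (hi0 : H0.relIndex U = 2) (hi1 : H1.relIndex U = 2)
    {y : G} (hC : ∀ x, (x ∈ H0 ∧ x ∈ H1) ↔ (x ∈ U ∧ y * x = x * y)) {g : G} (hg : Odd (orderOf g))
    (hgy : ∀ x, g * x = x * g → y * x = x * y) (hyg : ∀ x, y * x = x * y → g * x = x * g)
    (hgN : g ∈ normalizer (U : Set G)) {x : G} (hx : x ∈ U) (hxC : ¬ (x ∈ H0 ∧ x ∈ H1)) :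
    ¬ ((x ∈ H0 ↔ g * x * g⁻¹ ∈ H0) ∧ (x ∈ H1 ↔ g * x * g⁻¹ ∈ H1)) := fun ht => by
  have hm : g * x * g⁻¹ ∈ U := (mem_normalizer_iff.1 hgN x).1 hx
  have hc : x⁻¹ * (g * x * g⁻¹) ∈ H0 ∧ x⁻¹ * (g * x * g⁻¹) ∈ H1 :=
    ⟨(rel_mul hi0 (inv_mem hx) hm).2 (inv_mem_iff.trans ht.1), (rel_mul hi1 (inv_mem hx) hm).2 (inv_mem_iff.trans ht.2)⟩
  obtain ⟨hcU, hcy⟩ := (hC _).1 hc
  exact hxC ((hC x).2 ⟨hx, hgy x (fix_of_step hg (two_elt_of_mem hU hcU) (hyg _ hcy) (by group))⟩)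

theorem order_three {U H0 H1 : Subgroup G} (hU : IsPGroup 2 U) (hcent : centralizer (U : Set G) ≤ U)
    (hi0 : H0.relIndex U = 2) (hi1 : H1.relIndex U = 2) {y : G}
    (hC : ∀ x, (x ∈ H0 ∧ x ∈ H1) ↔ (x ∈ U ∧ y * x = x * y)) (hyN : y ∈ normalizer (U : Set G))
    (hy : Odd (orderOf y)) (hy1 : y ≠ 1) : orderOf y = 3 := by
  classical
  haveI : Fact (Nat.Prime 3) := ⟨Nat.prime_three⟩
  refine orderOf_eq_prime ?_ hy1
  by_contra h3
  have h3' : Odd (orderOf (y ^ 3)) := hy.of_dvd_nat (orderOf_pow_dvd 3)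
  refine not_mem_of_odd hU h3' h3 (hcent (mem_centralizer_iff.2 fun x hx => ?_))
  by_cases hxC : x ∈ H0 ∧ x ∈ H1
  · exact ((Commute.pow_left (show Commute y x from ((hC x).1 hxC).2) 3).eq).symm
  have hy2 : Odd (orderOf (y * y)) := by rw [← sq]; exact hy.of_dvd_nat (orderOf_pow_dvd 2)
  have hback : ∀ x, y * y * x = x * (y * y) → y * x = x * y := fun x hx => by
    obtain ⟨j, hj⟩ := exists_pow_eq_self_of_coprime (x := y) (n := 2) (Nat.coprime_two_left.2 hy)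
    have := (Commute.pow_left (show Commute (y ^ 2) x by rw [sq]; exact hx) j).eq
    rwa [hj] at this
  have hfw : ∀ x, y * x = x * y → y * y * x = x * (y * y) := fun x hx =>
    ((show Commute y x from hx).mul_left hx).eq
  have hnotC : ∀ {x}, x ∈ U → ¬ (x ∈ H0 ∧ x ∈ H1) → ¬ (y * x * y⁻¹ ∈ H0 ∧ y * x * y⁻¹ ∈ H1) := by
    intro x hx hxC hin
    refine hxC ((hC x).2 ⟨hx, ?_⟩)
    have := congrArg (fun t => y⁻¹ * t * y) ((hC _).1 hin).2
    simpa [mul_assoc] using this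
  have m1 : y * x * y⁻¹ ∈ U := (mem_normalizer_iff.1 hyN x).1 hx
  have m2 : y * (y * x * y⁻¹) * y⁻¹ ∈ U := (mem_normalizer_iff.1 hyN _).1 m1
  have m3 : y * (y * (y * x * y⁻¹) * y⁻¹) * y⁻¹ ∈ U := (mem_normalizer_iff.1 hyN _).1 m2
  have n1 := hnotC hx hxC
  have n2 := hnotC m1 n1
  have n3 := hnotC m2 n2
  let p : G → Bool × Bool := fun t => (decide (t ∈ H0), decide (t ∈ H1))
  have hp1 : ∀ {t}, ¬ (t ∈ H0 ∧ t ∈ H1) → p t ≠ (true, true) := fun {t} ht e => ht (by simpa [p] using e)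
  have hp2 : ∀ {g t : G}, ¬ ((t ∈ H0 ↔ g * t * g⁻¹ ∈ H0) ∧ (t ∈ H1 ↔ g * t * g⁻¹ ∈ H1)) →
      p t ≠ p (g * t * g⁻¹) := fun {g t} ht e => ht (by simpa [p] using e)
  have hsq : ∀ t : G, y * y * t * (y * y)⁻¹ = y * (y * t * y⁻¹) * y⁻¹ := fun t => by group
  have he := period_three _ _ _ _ (hp1 hxC) (hp1 n1) (hp1 n2) (hp1 n3)
    (hp2 (moves hU hi0 hi1 hC hy (fun _ h => h) (fun _ h => h) hyN hx hxC))
    (hp2 (moves hU hi0 hi1 hC hy (fun _ h => h) (fun _ h => h) hyN m1 n1))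
    (hsq x ▸ hp2 (moves hU hi0 hi1 hC hy2 hback hfw (mul_mem hyN hyN) hx hxC))
    (hp2 (moves hU hi0 hi1 hC hy (fun _ h => h) (fun _ h => h) hyN m2 n2))
    (hsq (y * x * y⁻¹) ▸ hp2 (moves hU hi0 hi1 hC hy2 hback hfw (mul_mem hyN hyN) m1 n1))
  simp only [p, Prod.mk.injEq, decide_eq_decide] at he
  obtain ⟨hcU, hcy⟩ := (hC _).1 ⟨(rel_mul hi0 (inv_mem hx) m3).2 (inv_mem_iff.trans he.1),
    (rel_mul hi1 (inv_mem hx) m3).2 (inv_mem_iff.trans he.2)⟩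
  exact (fix_of_step h3' (two_elt_of_mem hU hcU) ((Commute.pow_left (show Commute y _ from hcy) 3).eq)
    (by rw [pow_three]; group)).symm

/-- The four group spanned by the orbit of a central involution. -/
theorem four_group {U : Subgroup G} {y z : G} (hy3 : y ^ 3 = 1) (hyN : y ∈ normalizer (U : Set G))
    (hzU : z ∈ U) (hzc : ∀ u ∈ U, u * z = z * u) (hz2 : z * z = 1)
    (hzfix : y * z ≠ z * y) :
    ∃ e f : G, (e ∈ U ∧ f ∈ U) ∧ (e * e = 1 ∧ f * f = 1) ∧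
      ((∀ u ∈ U, u * e = e * u) ∧ ∀ u ∈ U, u * f = f * u) ∧
      (y * e * y⁻¹ = f ∧ y * f * y⁻¹ = f * e ∧ y * (f * e) * y⁻¹ = e) ∧ e ≠ 1 := by
  have hyU : ∀ {x}, x ∈ U → y * x * y⁻¹ ∈ U := fun {x} hx => (mem_normalizer_iff.1 hyN x).1 hx
  have hcy : ∀ {x}, (∀ u ∈ U, u * x = x * u) → ∀ u ∈ U, u * (y * x * y⁻¹) = y * x * y⁻¹ * u := by
    intro x hx u hu
    have h := hx (y⁻¹ * u * y) (by simpa using (mem_normalizer_iff.1 (inv_mem hyN) u).1 hu)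
    have := congrArg (fun t => y * t * y⁻¹) h
    simpa [mul_assoc] using this
  obtain ⟨z1, hz1⟩ : ∃ t, t = y * z * y⁻¹ := ⟨_, rfl⟩
  obtain ⟨z2, hz2d⟩ : ∃ t, t = y * z1 * y⁻¹ := ⟨_, rfl⟩
  have m1 : z1 ∈ U := hz1 ▸ hyU hzU
  have m2 : z2 ∈ U := hz2d ▸ hyU m1
  have c1 : ∀ u ∈ U, u * z1 = z1 * u := hz1 ▸ hcy hzc
  have c2 : ∀ u ∈ U, u * z2 = z2 * u := hz2d ▸ hcy c1
  have s1 : z1 * z1 = 1 := by rw [hz1, conj_mul, hz2, mul_one, mul_inv_cancel]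
  have s2 : z2 * z2 = 1 := by rw [hz2d, conj_mul, s1, mul_one, mul_inv_cancel]
  have hz3 : y * z2 * y⁻¹ = z := by
    rw [hz2d, hz1]
    calc y * (y * (y * z * y⁻¹) * y⁻¹) * y⁻¹ = y ^ 3 * z * (y ^ 3)⁻¹ := by rw [pow_three]; group
      _ = z := by rw [hy3]; group
  have ce : ∀ u ∈ U, u * (z * z1) = z * z1 * u := fun u hu =>
    ((show Commute u z from hzc u hu).mul_right (c1 u hu)).eq
  have cf : ∀ u ∈ U, u * (z1 * z2) = z1 * z2 * u := fun u hu =>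
    ((show Commute u z1 from c1 u hu).mul_right (c2 u hu)).eq
  have hfe : z1 * z2 * (z * z1) = z2 * z := by
    rw [show z * z1 = z1 * z from (c1 z hzU), ← mul_assoc, mul_assoc z1 z2 z1, c1 z2 m2, ← mul_assoc, s1, one_mul]
  refine ⟨z * z1, z1 * z2, ⟨mul_mem hzU m1, mul_mem m1 m2⟩, ⟨?_, ?_⟩, ⟨ce, cf⟩, ⟨?_, ?_, ?_⟩, fun e => ?_⟩
  · rw [← mul_assoc, mul_assoc z z1 z, hzc z1 m1, ← mul_assoc, hz2, one_mul, s1]
  · rw [← mul_assoc, mul_assoc z1 z2 z1, c1 z2 m2, ← mul_assoc, s1, one_mul, s2]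
  · rw [← conj_mul, ← hz1, ← hz2d]
  · rw [hfe, ← conj_mul, ← hz2d, hz3]
  · rw [hfe, ← conj_mul, hz3, ← hz1]
  · refine hzfix (mul_inv_eq_iff_eq_mul.1 ?_)
    rw [← hz1]
    calc z1 = z * z * z1 := by rw [hz2, one_mul]
      _ = z := by rw [mul_assoc, e, mul_one]

/-- The key lemma. -/
theorem exists_split {U : Subgroup G} (hU : IsPGroup 2 U) (hcent : centralizer (U : Set G) ≤ U) {z : G}
    (hzU : z ∈ U) (hzc : ∀ u ∈ U, u * z = z * u) (hz2 : z * z = 1)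
    (hzfix : ∀ g : G, Odd (orderOf g) → g * z = z * g → g = 1)
    {y b : G} (hyN : y ∈ normalizer (U : Set G)) (hy : Odd (orderOf y)) (hy1 : y ≠ 1)
    {H0 H1 : Subgroup G} (h0 : H0 ≤ U) (h1 : H1 ≤ U) (hc0 : Nat.card U = 2 * Nat.card H0)
    (hc1 : Nat.card U = 2 * Nat.card H1) (hyc : ∀ c ∈ H0 ⊓ H1, y * c = c * y)
    (hb0 : ∀ c ∈ H0, b * c = c * b) (hby : b * y * b⁻¹ * y ∈ U) : Nonempty (Split U b y) := by
  have hi0 := rel_two h0 hc0
  have hi1 := rel_two h1 hc1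
  have hne : H0 ≠ H1 := fun e => not_index_two hU hcent hyN hy hy1 h0 hc0.le
    fun l hl => hyc l ⟨hl, e ▸ hl⟩
  have hcard := inf_card h0 h1 hc0 hc1 hne
  have hC : ∀ x, (x ∈ H0 ∧ x ∈ H1) ↔ (x ∈ U ∧ y * x = x * y) := by
    intro x
    refine ⟨fun hx => ⟨h0 hx.1, hyc x hx⟩, fun hx => ?_⟩
    by_contra hxL
    refine not_index_two hU hcent hyN hy hy1 (L := U ⊓ centralizer ({y} : Set G)) inf_le_left ?_
      fun c hc => (mem_centralizer_singleton_iff.1 hc.2).symm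
    have hlt : H0 ⊓ H1 < U ⊓ centralizer ({y} : Set G) := by
      refine lt_of_le_of_ne (fun t ht => ⟨h0 ht.1, mem_centralizer_singleton_iff.2 (hyc t ht).symm⟩) fun e => ?_
      have hm : x ∈ U ⊓ centralizer ({y} : Set G) := ⟨hx.1, mem_centralizer_singleton_iff.2 hx.2.symm⟩
      rw [← e] at hm
      exact hxL hm
    obtain ⟨m, hm⟩ := card_dvd_of_le hlt.le
    have h2 : m ≠ 1 := fun e => hlt.ne (eq_of_le_of_card_ge hlt.le (by rw [hm, e, mul_one]))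
    have h3 := Nat.card_pos (α := ↥(U ⊓ centralizer ({y} : Set G)))
    rw [hm] at h3
    have h4 : 0 < m := Nat.pos_of_mul_pos_left h3
    rw [hcard, hm]
    nlinarith [show 2 ≤ m by omega]
  have hy3 := order_three hU hcent hi0 hi1 hC hyN hy hy1
  obtain ⟨e, f, ⟨hem, hfm⟩, ⟨hee, hff⟩, ⟨hec, hfc⟩, ⟨hye, hyf, hyfe⟩, he1⟩ :=
    four_group (hy3 ▸ pow_orderOf_eq_one y) hyN hzU hzc hz2 fun hh => hy1 (hzfix y hy hh)
  have hfix1 : ∀ {t}, y * t = t * y → y * t * y⁻¹ = t := fun {t} ht => mul_inv_eq_iff_eq_mul.2 ht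
  have nC : ∀ {t}, ¬ y * t * y⁻¹ = t → ¬ (t ∈ H0 ∧ t ∈ H1) := fun {t} ht hh => ht (hfix1 ((hC t).1 hh).2)
  have neC : ¬ (e ∈ H0 ∧ e ∈ H1) := nC (by
    intro hh
    rw [hye] at hh
    apply he1
    rw [hh, hee] at hyf
    rw [hye] at hyf
    rw [← hh, hyf])
  have nfC : ¬ (f ∈ H0 ∧ f ∈ H1) := nC (by
    intro hh
    rw [hyf] at hh
    exact he1 (mul_eq_left.1 hh))
  have nfeC : ¬ (f * e ∈ H0 ∧ f * e ∈ H1) := nC (by
    intro hh
    rw [hyfe] at hh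
    apply he1
    have hf1 : f = 1 := right_eq_mul.1 hh
    rw [hf1] at hye
    exact conj_eq_one_iff.1 hye)
  have cfe : ∀ u ∈ U, u * (f * e) = f * e * u := fun u hu =>
    ((show Commute u f from hfc u hu).mul_right (hec u hu)).eq
  have p1 : f * e * f = e := by rw [mul_assoc, hfc e hem, ← mul_assoc, hff, one_mul]
  have p2 : e * (f * e) = f := by rw [← mul_assoc, hfc e hem, mul_assoc, hee, mul_one]
  have sfe : f * e * (f * e) = 1 := by
    rw [← mul_assoc, p1, hee]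
  obtain ⟨w, v, hw0, hvm, hwm, ⟨hwC, hvC, hvwC⟩, ⟨hww, hvv⟩, ⟨hwcent, hvcent⟩, hyw, hyv, hyvw⟩ :
      ∃ w v, w ∈ H0 ∧ v ∈ U ∧ w ∈ U ∧
        (¬ (w ∈ H0 ∧ w ∈ H1) ∧ ¬ (v ∈ H0 ∧ v ∈ H1) ∧ ¬ (v * w ∈ H0 ∧ v * w ∈ H1)) ∧ (w * w = 1 ∧ v * v = 1) ∧
        ((∀ u ∈ U, u * w = w * u) ∧ ∀ u ∈ U, u * v = v * u) ∧
        y * w * y⁻¹ = v ∧ y * v * y⁻¹ = v * w ∧ y * (v * w) * y⁻¹ = w := by
    by_cases q0 : e ∈ H0
    · exact ⟨e, f, q0, hfm, hem, ⟨neC, nfC, nfeC⟩, ⟨hee, hff⟩, ⟨hec, hfc⟩, hye, hyf, hyfe⟩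
    by_cases q1 : f ∈ H0
    · exact ⟨f, f * e, q1, mul_mem hfm hem, hfm, ⟨nfC, nfeC, by rw [p1]; exact neC⟩, ⟨hff, sfe⟩, ⟨hfc, cfe⟩, hyf,
        by rw [hyfe, p1], by rw [p1, hye]⟩
    · exact ⟨f * e, e, (rel_mul hi0 hfm hem).2 (iff_of_false q1 q0), hem, mul_mem hfm hem,
        ⟨nfeC, neC, by rw [p2]; exact nfC⟩, ⟨sfe, hee⟩, ⟨cfe, hec⟩, hyfe, by rw [hye, p2], by rw [p2, hyf]⟩
  refine ⟨⟨H0 ⊓ H1, w, v, hy3, hC, ?_, ?_, hwm, hvm, hwcent, hvcent, hww, hvv, hwC, hvC, hvwC, ?_,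
    hcard, hyw, hyv, hyvw, fun c hc => hb0 c hc.1, hb0 w hw0, ?_⟩⟩
  · exact fun u hu c hc => ⟨(rel_conj hi0 hu (h0 hc.1)).2 hc.1, (rel_conj hi1 hu (h1 hc.2)).2 hc.2⟩
  · exact fun u hu => ⟨rel_sq hi0 hu, rel_sq hi1 hu⟩
  · intro u hu
    have hw1 : w ∉ H1 := fun h => hwC ⟨hw0, h⟩
    have hA : ∀ {e}, e ∈ U → e * e = 1 → (u ∈ H0 ↔ e ∈ H0) → (u ∈ H1 ↔ e ∈ H1) →
        ∃ c ∈ H0 ⊓ H1, u = c * e := fun {e} hem hee t0 t1 =>
      ⟨u * e, ⟨(rel_mul hi0 hu hem).2 t0, (rel_mul hi1 hu hem).2 t1⟩, by rw [mul_assoc, hee, mul_one]⟩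
    have hv0 : v ∉ H0 := fun h => by
      by_cases hv1 : v ∈ H1
      · exact hvC ⟨h, hv1⟩
      · exact hvwC ⟨mul_mem h hw0, (rel_mul hi1 hvm hwm).2 (iff_of_false hv1 hw1)⟩
    have hvwsq : v * w * (v * w) = 1 := by
      rw [← mul_assoc, mul_assoc v w v, ← hwcent v hvm, ← mul_assoc, hvv, one_mul, hww]
    have hm0 : v * w ∉ H0 := fun h => hv0 ((mul_mem_cancel_right hw0).1 h)
    have hm1 : v * w ∈ H1 ↔ v ∉ H1 := by rw [rel_mul hi1 hvm hwm]; simp [hw1]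
    by_cases u0 : u ∈ H0 <;> by_cases u1 : u ∈ H1
    · exact ⟨u, ⟨u0, u1⟩, Or.inl rfl⟩
    · obtain ⟨c, hc, e⟩ := hA hwm hww (iff_of_true u0 hw0) (iff_of_false u1 hw1)
      exact ⟨c, hc, Or.inr (Or.inl e)⟩
    · by_cases v1 : v ∈ H1
      · obtain ⟨c, hc, e⟩ := hA hvm hvv (iff_of_false u0 hv0) (iff_of_true u1 v1)
        exact ⟨c, hc, Or.inr (Or.inr (Or.inl e))⟩
      · obtain ⟨c, hc, e⟩ := hA (mul_mem hvm hwm) hvwsq (iff_of_false u0 hm0) (iff_of_true u1 (hm1.2 v1))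
        exact ⟨c, hc, Or.inr (Or.inr (Or.inr e))⟩
    · by_cases v1 : v ∈ H1
      · obtain ⟨c, hc, e⟩ := hA (mul_mem hvm hwm) hvwsq (iff_of_false u0 hm0) (iff_of_false u1 fun h => hm1.1 h v1)
        exact ⟨c, hc, Or.inr (Or.inr (Or.inr e))⟩
      · obtain ⟨c, hc, e⟩ := hA hvm hvv (iff_of_false u0 hv0) (iff_of_false u1 v1)
        exact ⟨c, hc, Or.inr (Or.inr (Or.inl e))⟩
  · -- `b` inverts `y` modulo `U`
    have hbw : b * w * b⁻¹ = w := by rw [hb0 w hw0, mul_inv_cancel_right]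
    set u := b * y * b⁻¹ * y with hu
    have h2 : y⁻¹ * w * y = v * w := by
      conv_lhs => rw [← hyvw]
      group
    calc b * v * b⁻¹ = b * (y * w * y⁻¹) * b⁻¹ := by rw [hyw]
      _ = u * y⁻¹ * (b * w * b⁻¹) * y * u⁻¹ := by rw [hu]; group
      _ = u * (y⁻¹ * w * y) * u⁻¹ := by rw [hbw]; group
      _ = v * w := by
        rw [h2, ((show Commute u v from hvcent u hby).mul_right (hwcent u hby)).eq, mul_inv_cancel_right]

/-- The odd part of a product of two conjugates of `b`. -/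
theorem exists_split_of_pair {U : Subgroup G} (hU : IsPGroup 2 U) (hcent : centralizer (U : Set G) ≤ U) {z : G}
    (hzU : z ∈ U) (hzc : ∀ u ∈ U, u * z = z * u) (hz2 : z * z = 1)
    (hzfix : ∀ g : G, Odd (orderOf g) → g * z = z * g → g = 1)
    {b g : G} (hbN : b ∈ normalizer (U : Set G)) (hgN : g ∈ normalizer (U : Set G)) (hbb : b * b ∈ U)
    {H0 : Subgroup G} (h0 : H0 ≤ U) (hc0 : Nat.card U = 2 * Nat.card H0)
    (hb0 : ∀ c ∈ H0, b * c = c * b) (hno : ¬ ∃ j : ℕ, (b * (g * b * g⁻¹)) ^ 2 ^ j ∈ U) :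
    ∃ y ∈ normalizer (U : Set G), y ∈ zpowers (b * (g * b * g⁻¹)) ∧ Odd (orderOf y) ∧ y ≠ 1 ∧
      Nonempty (Split U b y) := by
  set a := b * (g * b * g⁻¹) with ha
  obtain ⟨k, r, hr, hkr⟩ := Nat.exists_eq_two_pow_mul_odd (orderOf_pos a).ne'
  set y := a ^ 2 ^ k with hy
  have haN : a ∈ normalizer (U : Set G) := mul_mem hbN (mul_mem (mul_mem hgN hbN) (inv_mem hgN))
  have hyo : Odd (orderOf y) := hr.of_dvd_nat (orderOf_dvd_of_pow_eq_one (by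
    rw [hy, ← pow_mul, ← hkr, pow_orderOf_eq_one]))
  have hy1 : y ≠ 1 := fun e => hno ⟨k, by rw [← hy, e]; exact one_mem U⟩
  refine ⟨y, pow_mem haN _, pow_mem (mem_zpowers a) _, hyo, hy1, ?_⟩
  have hU' : ∀ {x}, x ∈ U → ∀ {n}, n ∈ normalizer (U : Set G) → n * x * n⁻¹ ∈ U :=
    fun {x} hx {n} hn => (mem_normalizer_iff.1 hn x).1 hx
  refine exists_split hU hcent hzU hzc hz2 hzfix (pow_mem haN _) hyo hy1 (H1 := H0.map (MulAut.conj g).toMonoidHom)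
    h0 ?_ hc0 (by rw [card_map_of_injective (MulAut.conj g).injective, hc0]) (fun c hc => ?_) hb0 ?_
  · rintro _ ⟨x, hx, rfl⟩
    exact hU' (h0 hx) hgN
  · obtain ⟨hc0', d, hd, hdc⟩ := hc
    have hdc' : g * d * g⁻¹ = c := hdc
    have h1 : Commute b c := hb0 c hc0'
    have h2 : Commute (g * b * g⁻¹) c := by
      rw [← hdc']
      exact (show Commute b d from hb0 d hd).map (MulAut.conj g).toMonoidHom
    exact ((h1.mul_left h2).pow_left _).eq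
  · -- modulo `U`
    haveI hUn : (U.subgroupOf (normalizer (U : Set G))).Normal := Subgroup.normal_in_normalizer
    let π := QuotientGroup.mk' (U.subgroupOf (normalizer (U : Set G)))
    set B : ↥(normalizer (U : Set G)) := ⟨b, hbN⟩
    set g' : ↥(normalizer (U : Set G)) := ⟨g, hgN⟩
    have hB : π B * π B = 1 := by
      rw [← map_mul]; exact (QuotientGroup.eq_one_iff _).2 hbb
    have hBi : (π B)⁻¹ = π B := inv_eq_of_mul_eq_one_right hB
    have key : π B * π (B * (g' * B * g'⁻¹)) * (π B)⁻¹ = (π (B * (g' * B * g'⁻¹)))⁻¹ := by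
      simp only [map_mul, map_inv, mul_inv_rev, inv_inv, hBi]
      rw [← mul_assoc, hB, one_mul]
      group
    have : π ((B * (B * (g' * B * g'⁻¹)) ^ 2 ^ k * B⁻¹) * (B * (g' * B * g'⁻¹)) ^ 2 ^ k) = 1 := by
      rw [map_mul, map_mul, map_mul, map_inv, map_pow, ← conj_pow, key, inv_pow, inv_mul_cancel]
    have hm := (QuotientGroup.eq_one_iff _).1 this
    exact hm

end Cfsg.Agent.Fus.LenEight
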