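import Cfsg.Agent.Lib.Fus.LengthEight.Focal
import Cfsg.Agent.Lib.Fus.LengthEight.Key
import Cfsg.Agent.Lib.Grp.DisconnectedGraph
import Cfsg.Agent.S0144

/-!
# Elementary bounds for an essential subgroup (for S3250)
-/

set_option autoImplicit false
set_option linter.style.haveILetI false

namespace Cfsg.Agent.Fus.LenEight

open Subgroup

universe u

variable {G : Type u} [Group G] [Finite G] {S : Sylow 2 G}

/-- A chosen central involution of `S`. -/
structure Cen (S : Sylow 2 G) (z : G) : Prop where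
  mem : z ∈ (S : Subgroup G)
  ne : z ≠ 1
  sq : z * z = 1
  comm : ∀ x ∈ (S : Subgroup G), x * z = z * x

theorem exists_cen (hc : Nat.card (S : Subgroup G) = 2 ^ 7) : ∃ z, Cen S z := by
  obtain ⟨z, h1, h2, h3, h4⟩ := exists_central (S := S) hc
  exact ⟨z, h1, h2, h3, h4⟩

/-- The Sylow 2-subgroup `N_S(U)` of the normalizer. -/
abbrev nS (S : Sylow 2 G) (U : Subgroup G) : Subgroup G := (S : Subgroup G) ⊓ normalizer (U : Set G)

omit [Finite G] in
theorem mem_conj {U : Subgroup G} {x g : G} :
    g ∈ U.map (MulAut.conj x).toMonoidHom ↔ x⁻¹ * g * x ∈ U := by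
  constructor
  · rintro ⟨a, ha, rfl⟩
    simpa [mul_assoc] using ha
  · intro hg
    exact ⟨x⁻¹ * g * x, hg, by simp [mul_assoc]⟩

omit [Finite G] in
theorem card_conj {U : Subgroup G} {x : G} : Nat.card ↥(U.map (MulAut.conj x).toMonoidHom) = Nat.card U :=
  card_map_of_injective (MulAut.conj x).injective

theorem card_two_pow {H : Subgroup G} (hH : H ≤ (S : Subgroup G)) : ∃ n, Nat.card H = 2 ^ n := by
  haveI : Fact (Nat.Prime 2) := ⟨Nat.prime_two⟩
  exact IsPGroup.iff_card.1 (S.isPGroup'.to_le hH)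

/-- Growth of normalizers inside a 2-subgroup of `S`. -/
theorem exists_normalizing {H K : Subgroup G} (hK : K ≤ (S : Subgroup G)) (hlt : H < K) :
    ∃ x ∈ K, x ∉ H ∧ x ∈ normalizer (H : Set G) := by
  haveI : Fact (Nat.Prime 2) := ⟨Nat.prime_two⟩
  haveI := (S.isPGroup'.to_le hK).isNilpotent
  have h1 : H.subgroupOf K < ⊤ := lt_top_iff_ne_top.2 fun e => hlt.not_ge (subgroupOf_eq_top.1 e)
  obtain ⟨⟨x, hxK⟩, hxn, hx⟩ :=
    SetLike.exists_of_lt (Group.normalizerCondition_of_isNilpotent _ h1)
  refine ⟨x, hxK, fun h => hx h, mem_normalizer_fintype fun a ha => ?_⟩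
  exact (mem_normalizer_iff.1 hxn ⟨a, hlt.le ha⟩).1 ha

theorem double_le {H K : Subgroup G} (hK : K ≤ (S : Subgroup G)) (hlt : H < K) :
    2 * Nat.card H ≤ Nat.card K := by
  obtain ⟨m, hm⟩ := card_dvd_of_le hlt.le
  have h1 : m ≠ 1 := fun e => hlt.ne (eq_of_le_of_card_ge hlt.le (by rw [hm, e, mul_one]))
  have h2 : 0 < m := Nat.pos_of_mul_pos_left (hm ▸ Nat.card_pos)
  rw [hm, mul_comm (Nat.card H) m]
  exact Nat.mul_le_mul_right _ (by omega)

/-- The conjugates of `z` under a subgroup. -/
def orb (N : Subgroup G) (z : G) : Set G := {p | ∃ n ∈ N, n * z * n⁻¹ = p}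

variable (h : Hyp G S) {z : G} (hz : Cen S z) {U : Subgroup G} (hU : Ess S U)

omit [Finite G] in
theorem Ess.le_nS (hU : Ess S U) : U ≤ nS S U := le_inf hU.le le_normalizer

theorem Ess.pgroup (hU : Ess S U) : IsPGroup 2 U := S.isPGroup'.to_le hU.le

omit [Finite G] in
theorem Ess.center_le (hU : Ess S U) {c : G} (hc : ∀ x ∈ (S : Subgroup G), x * c = c * x) : c ∈ U :=
  hU.cent (mem_centralizer_iff.2 fun u hu => hc u (hU.le hu))

include hz hU

omit [Finite G] in
theorem Ess.z_mem : z ∈ U := hU.center_le hz.comm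

omit [Finite G] in
theorem Ess.z_comm : ∀ u ∈ U, u * z = z * u := fun u hu => hz.comm u (hU.le hu)

omit hU in
include h in
theorem Hyp.fix_z {g : G} (hg : Odd (orderOf g)) (hgz : g * z = z * g) : g = 1 := by
  by_contra hne
  refine not_mem_of_odd S.isPGroup' hg hne ?_
  rw [← h.centralizer_eq hz.ne hz.comm]
  exact mem_centralizer_singleton_iff.2 hgz

include h

omit hU in
theorem Hyp.mem_of_fix_z {g : G} (hgz : g * z = z * g) : g ∈ (S : Subgroup G) := by
  rw [← h.centralizer_eq hz.ne hz.comm]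
  exact mem_centralizer_singleton_iff.2 hgz

theorem Ess.ne_top : normalizer (U : Set G) ≠ ⊤ := fun e => by
  haveI := normalizer_eq_top_iff.1 e
  rcases h.normal_eq U inferInstance with e1 | e1
  · have := hU.z_mem hz
    rw [e1, mem_bot] at this
    exact hz.ne this
  · exact h.ne_top (top_le_iff.1 (e1 ▸ hU.le))

theorem Ess.nS_lt : nS S U < (S : Subgroup G) := lt_of_le_of_ne inf_le_left fun e => by
  rcases h.sylow_maximal (e ▸ inf_le_right : (S : Subgroup G) ≤ normalizer (U : Set G)) with e1 | e1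
  · exact hU.non e1.le
  · exact hU.ne_top h hz e1

theorem Ess.lt_nS : U < nS S U := by
  have hne : U ≠ (S : Subgroup G) := fun e => (hU.nS_lt h hz).not_ge (e ▸ hU.le_nS)
  obtain ⟨x, hxS, hxU, hxN⟩ := exists_normalizing (S := S) le_rfl (lt_of_le_of_ne hU.le hne)
  exact lt_of_le_of_ne hU.le_nS fun e => hxU (e ▸ ⟨hxS, hxN⟩)

/-- The odd number `|N : T|` and the orbit of `z`. -/
theorem Ess.orbit :
    ∃ k, Nat.card (normalizer (U : Set G)) = Nat.card (nS S U) * k ∧ Odd k ∧ 3 ≤ k ∧
      (orb (normalizer (U : Set G)) z).ncard = k ∧ k + 1 ≤ Nat.card (centralizer (U : Set G)) := by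
  set N := normalizer (U : Set G) with hN
  set k := (nS S U).relIndex N with hk
  have hcard : Nat.card N = Nat.card (nS S U) * k := (Grp.card_mul_relIndex inf_le_right).symm
  have hodd : Odd k := Nat.not_even_iff_odd.1 fun he => hU.syl (even_iff_two_dvd.1 he)
  have hk1 : k ≠ 1 := fun e => hU.non fun n hn =>
    ((eq_of_le_of_card_ge (inf_le_right : nS S U ≤ N) (by rw [hcard, e, mul_one])).ge hn).1
  have hzN : z ∈ N := le_normalizer (hU.z_mem hz)
  -- cosets of `T` are the points of the orbit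
  let f : N ⧸ (nS S U).subgroupOf N → G := fun q => q.out * z * (q.out : G)⁻¹
  have hf : ∀ n : N, f (QuotientGroup.mk n) = n * z * (n : G)⁻¹ := by
    intro n
    obtain ⟨⟨t, htT⟩, ht⟩ := QuotientGroup.mk_out_eq_mul ((nS S U).subgroupOf N) n
    have hc : (t : G) * z * (t : G)⁻¹ = z := mul_inv_eq_iff_eq_mul.2 (hz.comm t (mem_subgroupOf.1 htT).1)
    show ((QuotientGroup.mk n : N ⧸ (nS S U).subgroupOf N).out : G) * z * _⁻¹ = _
    rw [ht, coe_mul, mul_inv_rev]
    calc (n : G) * t * z * ((t : G)⁻¹ * (n : G)⁻¹) = n * (t * z * (t : G)⁻¹) * (n : G)⁻¹ := by group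
      _ = _ := by rw [hc]
  have hinj : Function.Injective f := by
    intro p q
    induction p using QuotientGroup.induction_on with
    | _ a =>
      induction q using QuotientGroup.induction_on with
      | _ b =>
        intro e
        rw [hf, hf] at e
        refine QuotientGroup.eq.2 (mem_subgroupOf.2 ?_)
        refine ⟨h.mem_of_fix_z hz ?_, (a⁻¹ * b : N).2⟩
        rw [coe_mul, coe_inv]
        have := congrArg (fun t => (a : G)⁻¹ * t * b) e
        simpa [mul_assoc] using this.symm
  have hrange : Set.range f = orb N z := by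
    ext p
    constructor
    · rintro ⟨q, rfl⟩; exact ⟨_, q.out.2, rfl⟩
    · rintro ⟨n, hn, rfl⟩; exact ⟨QuotientGroup.mk ⟨n, hn⟩, hf _⟩
  have hnc : (orb N z).ncard = k := by
    rw [← hrange, Set.ncard_range_of_injective hinj]
    rfl
  refine ⟨k, hcard, hodd, ?_, hnc, ?_⟩
  · obtain ⟨j, hj⟩ := hodd; omega
  · have hsub : orb N z ⊆ (centralizer (U : Set G) : Set G) \ {1} := by
      rintro _ ⟨n, hn, rfl⟩
      refine ⟨mem_centralizer_iff.2 fun u hu => ?_, fun e => hz.ne (conj_eq_one_iff.1 e)⟩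
      have h1 := hU.z_comm hz (n⁻¹ * u * n) (by simpa using (mem_normalizer_iff.1 (inv_mem hn) u).1 hu)
      have := congrArg (fun t => n * t * n⁻¹) h1
      simpa [mul_assoc] using this
    have h1 := Set.ncard_le_ncard hsub
    rw [Set.ncard_diff_singleton_of_mem (one_mem _), hnc] at h1
    rw [show ((centralizer (U : Set G) : Subgroup G) : Set G).ncard = Nat.card (centralizer (U : Set G)) from
      (Nat.card_coe_set_eq _).symm] at h1
    have := Nat.card_pos (α := centralizer (U : Set G))
    omega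

/-- The possible orders. -/
structure Sizes (S : Sylow 2 G) (U : Subgroup G) (z : G) (u a k : ℕ) : Prop where
  cardU : Nat.card U = 2 ^ u
  cardT : Nat.card (nS S U) = 2 ^ a
  cardN : Nat.card (normalizer (U : Set G)) = 2 ^ a * k
  lt : u < a
  le6 : a ≤ 6
  odd : Odd k
  three : 3 ≤ k
  orbit : (orb (normalizer (U : Set G)) z).ncard = k
  cent : k + 1 ≤ Nat.card (centralizer (U : Set G))
  len : a + k.primeFactorsList.length ≤ 7
  solv : Group.IsSolvable (normalizer (U : Set G))

theorem Ess.sizes : ∃ u a k, Sizes S U z u a k := by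
  haveI : Fact (Nat.Prime 2) := ⟨Nat.prime_two⟩
  obtain ⟨u, hu⟩ := card_two_pow hU.le
  obtain ⟨a, ha⟩ := card_two_pow (H := nS S U) inf_le_left
  obtain ⟨k, hN, hodd, h3, horb, hcent⟩ := hU.orbit h hz
  rw [ha] at hN
  have hua : u < a := by
    have := double_le (S := S) inf_le_left (hU.lt_nS h hz)
    rw [hu, ha] at this
    by_contra hle
    have := Nat.pow_le_pow_right (show 0 < 2 by norm_num) (not_lt.1 hle)
    have := Nat.two_pow_pos u
    omega
  have ha6 : a ≤ 6 := by
    have := double_le (S := S) le_rfl (hU.nS_lt h hz)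
    rw [ha, h.card] at this
    by_contra hgt
    have := Nat.pow_le_pow_right (show 0 < 2 by norm_num) (show 7 ≤ a by omega)
    omega
  set N := normalizer (U : Set G) with hNdef
  have hkU : k + 1 ≤ 2 ^ u := hu ▸ hcent.trans (card_le_of_le hU.cent)
  have hsolv : Group.IsSolvable N := by
    by_contra hns
    by_cases hk : ∃ p e, p.Prime ∧ k = p ^ e
    · obtain ⟨p, e, hp, rfl⟩ := hk
      exact hns (Cfsg.Agent.S0144.result 2 p a e Nat.prime_two hp hN)
    haveI : (U.subgroupOf N).Normal := Subgroup.normal_in_normalizer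
    have hUsolv : Group.IsSolvable (U.subgroupOf N) := by
      haveI := (hU.pgroup).isNilpotent
      exact Group.isSolvable_of_isSolvable_injective
        (f := (subgroupOfEquivOfLe (le_normalizer : U ≤ N)).toMonoidHom) (MulEquiv.injective _)
    have hq : ¬ Group.IsSolvable (N ⧸ U.subgroupOf N) := fun hh =>
      hns ((Group.isSolvable_iff_subgroup_quotient _).2 ⟨hUsolv, hh⟩)
    have h1 : Len u (U.subgroupOf N) :=
      len_two_group (by rw [Nat.card_congr (subgroupOfEquivOfLe (le_normalizer : U ≤ N)).toEquiv, hu])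
    have h2 := Len.comap (QuotientGroup.mk' (U.subgroupOf N)) (QuotientGroup.mk'_surjective _)
      (m := u) (by rwa [QuotientGroup.ker_mk']) (len_four _ _ rfl hq)
    rw [comap_top] at h2
    have h3' := h.proper_len h2.of_top (hU.ne_top h hz)
    have hk7 : k ≤ 7 := by
      have := Nat.pow_le_pow_right (show 0 < 2 by norm_num) (show u ≤ 3 by omega)
      omega
    obtain ⟨j, rfl⟩ := hodd
    refine hk ⟨2 * j + 1, 1, ?_, (pow_one _).symm⟩
    have : j ≤ 3 := by omega
    interval_cases j <;> first | omega | norm_num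
  refine ⟨u, a, k, hu, ha, hN, hua, ha6, hodd, h3, horb, hcent, ?_, hsolv⟩
  have h4 := h.proper_len (len_solvable _ N rfl hsolv).of_top (hU.ne_top h hz)
  rwa [hN, (Nat.perm_primeFactorsList_mul (by positivity) (by omega)).length_eq, List.length_append,
    Nat.Prime.primeFactorsList_pow Nat.prime_two, List.length_replicate] at h4

omit h hz hU

omit [Finite G] in
/-- `k` is prime unless it is `9` or `15`. -/
theorem Sizes.prime_or {u a k : ℕ} (hs : Sizes S U z u a k) (hC : centralizer (U : Set G) ≤ U) [Finite G] :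
    k.Prime ∨ ((k = 9 ∨ k = 15) ∧ u = 4 ∧ a = 5) := by
  have h1 : k + 1 ≤ 2 ^ u := hs.cardU ▸ hs.cent.trans (card_le_of_le hC)
  by_cases hp : k.Prime
  · exact Or.inl hp
  right
  have hl : 2 ≤ k.primeFactorsList.length := by
    by_contra hl
    rcases hlist : k.primeFactorsList with - | ⟨p, - | ⟨q, t⟩⟩
    · rcases ((Nat.primeFactorsList_eq_nil _).1 hlist) with e | e <;> (have := hs.three; omega)
    · refine hp ?_
      have := Nat.prod_primeFactorsList (n := k) (by have := hs.three; omega)
      rw [hlist] at this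
      simp at this
      exact this ▸ Nat.prime_of_mem_primeFactorsList (hlist ▸ List.mem_singleton_self p : p ∈ k.primeFactorsList)
    · simp [hlist] at hl
  have ha5 : a ≤ 5 := by have := hs.len; omega
  have hu4 : u ≤ 4 := by have := hs.lt; omega
  have hk15 : k ≤ 15 := by
    have := Nat.pow_le_pow_right (show 0 < 2 by norm_num) hu4
    omega
  have hk : k = 9 ∨ k = 15 := by
    have := hs.three
    obtain ⟨j, rfl⟩ := hs.odd
    have : j ≤ 7 := by omega
    interval_cases j <;> first | omega | norm_num at hp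
  have hu : u = 4 := by
    by_contra hne
    have := Nat.pow_le_pow_right (show 0 < 2 by norm_num) (show u ≤ 3 by omega)
    omega
  exact ⟨hk, hu, by have := hs.lt; omega⟩

end Cfsg.Agent.Fus.LenEight
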