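import Cfsg.Agent.Lib.Fus.LengthEight.EssQuad

/-!
# The structure of every essential subgroup (for S3250)
-/

set_option autoImplicit false
set_option linter.style.haveILetI false

namespace Cfsg.Agent.Fus.LenEight

open Subgroup
open scoped Pointwise

universe u

variable {G : Type u} [Group G] [Finite G] {S : Sylow 2 G}

variable (h : Hyp G S) {z : G} (hz : Cen S z) {U : Subgroup G} (hU : Ess S U)
include h hz hU

theorem Ess.hyper_ab {u a k : ℕ} (hs : Sizes S U z u a k) (hab : Ab U) (hT : a = u + 1) :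
    ∃ b ∈ nS S U, b ∉ U ∧ Nat.card U ≤ 2 * Nat.card ↥(U ⊓ centralizer ({b} : Set G)) := by
  obtain ⟨x, hxS, hxT, hxN, hle, hne, hTU⟩ := hU.exists_x h hz
  have hcI := hU.two_halves h hz hs hT hle hne
  obtain ⟨b, hb, hbU⟩ : ∃ b ∈ U.map (MulAut.conj x).toMonoidHom, b ∉ U := by
    by_contra! hall
    exact hne (eq_of_le_of_card_ge hall (by rw [card_conj]))
  refine ⟨b, hle hb, hbU, ?_⟩
  rw [hcI]
  refine Nat.mul_le_mul_left 2 (card_le_of_le (le_inf inf_le_left fun g hg => ?_))
  obtain ⟨g', hg', rfl⟩ := hg.2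
  obtain ⟨b', hb', rfl⟩ := hb
  exact mem_centralizer_singleton_iff.2 ((show Commute g' b' from hab g' hg' b' hb').map (MulAut.conj x).toMonoidHom).eq

/-- For composite `k` nothing outside `T` normalises `T`. -/
theorem Ess.self_norm {u a k : ℕ} (hs : Sizes S U z u a k) (hab : Ab U) (hu : u = 4) (ha : a = 5) {b : G}
    (hb : b ∈ nS S U) (hbU : b ∉ U) {n : G} (hn : n ∈ normalizer (U : Set G)) (hnT : n ∈ normalizer (nS S U : Set G)) :
    n ∈ nS S U := by
  by_contra hno
  haveI : Fact (Nat.Prime 2) := ⟨Nat.prime_two⟩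
  have hnS : n ∉ (S : Subgroup G) := fun e => hno ⟨e, hn⟩
  obtain ⟨T, hT⟩ : ∃ T, T = nS S U := ⟨_, rfl⟩
  rw [← hT] at hnT hb hno
  have hTS : T ≤ (S : Subgroup G) := hT ▸ inf_le_left
  have hUT : U ≤ T := hT ▸ hU.le_nS
  have hcT : Nat.card T = 2 ^ 5 := by rw [hT, hs.cardT, ha]
  have hzT : z ∈ T := hUT (hU.z_mem hz)
  have hTne : normalizer (T : Set G) ≠ ⊤ := fun e => by
    haveI := normalizer_eq_top_iff.1 e
    rcases h.normal_eq T inferInstance with e1 | e1
    · exact hz.ne (mem_bot.1 (e1 ▸ hzT))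
    · exact h.ne_top (top_le_iff.1 (e1 ▸ hTS))
  have hcTU : centralizer (T : Set G) ≤ U := (centralizer_le (SetLike.coe_subset_coe.2 hUT)).trans hU.cent
  have hRlt : T < (S : Subgroup G) ⊓ normalizer (T : Set G) := by
    obtain ⟨x, hxS, hxT, hxN⟩ := exists_normalizing (S := S) le_rfl
      (lt_of_le_of_ne hTS fun e => by rw [e, h.card] at hcT; norm_num at hcT)
    exact lt_of_le_of_ne (le_inf hTS le_normalizer) fun e => hxT (e.ge ⟨hxS, hxN⟩)
  obtain ⟨R, hR⟩ : ∃ R, R = (S : Subgroup G) ⊓ normalizer (T : Set G) := ⟨_, rfl⟩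
  rw [← hR] at hRlt
  have hRS : R < (S : Subgroup G) := lt_of_le_of_ne (hR ▸ inf_le_left) fun e => by
    rcases h.sylow_maximal (show (S : Subgroup G) ≤ normalizer (T : Set G) from e.ge.trans (hR ▸ inf_le_right))
      with e1 | e1
    · exact hnS (e1.le hnT)
    · exact hTne e1
  have hcR : Nat.card R = 2 ^ 6 := by
    have := double_le (S := S) hRS.le hRlt
    have := double_le (S := S) le_rfl hRS
    rw [h.card] at this
    omega
  -- `N(T)` has no subgroup of order `2 ^ 7`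
  have hno7 : ¬ 2 ^ 7 ∣ Nat.card (normalizer (T : Set G)) := by
    intro hdvd
    obtain ⟨K, hK⟩ := Sylow.exists_subgroup_card_pow_prime (G := normalizer (T : Set G)) 2 hdvd
    have hK' : Nat.card (K.map (normalizer (T : Set G)).subtype) = 2 ^ 7 := by
      rw [card_map_of_injective (subtype_injective _), hK]
    obtain ⟨P, hP⟩ : ∃ P : Sylow 2 G, (P : Subgroup G) = K.map (normalizer (T : Set G)).subtype := by
      obtain ⟨P, hP⟩ := (IsPGroup.of_card hK').exists_le_sylow
      exact ⟨P, (eq_of_le_of_card_ge hP (by rw [hK', Sylow.card_eq_multiplicity P, ← Sylow.card_eq_multiplicity S, h.card])).symm⟩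
    obtain ⟨g, hg⟩ := MulAction.exists_smul_eq G P S
    have hconj : (S : Subgroup G) ≤ (normalizer (T : Set G)).map (MulAut.conj g).toMonoidHom := by
      intro s hs
      rw [← hg] at hs
      have hs' : s ∈ MulAut.conj g • (P : Subgroup G) := hs
      rw [hP] at hs'
      exact map_mono (map_subtype_le K) hs'
    rcases h.sylow_maximal hconj with e | e
    · have h2 : IsPGroup 2 (normalizer (T : Set G)) := by
        refine IsPGroup.of_card (n := 7) ?_
        rw [← card_map_of_injective (f := (MulAut.conj g).toMonoidHom) (MulAut.conj g).injective, e, h.card]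
      obtain ⟨H, hH⟩ : ∃ H, H = normalizer (U : Set G) ⊓ normalizer (T : Set G) := ⟨_, rfl⟩
      have hTH : T ≤ H := hH ▸ le_inf (hT ▸ inf_le_right) le_normalizer
      obtain ⟨e2, he2⟩ := IsPGroup.iff_card.1 (h2.to_le (hH ▸ inf_le_right : H ≤ normalizer (T : Set G)))
      have h3 := card_dvd_of_le (hH ▸ inf_le_left : H ≤ normalizer (U : Set G))
      rw [he2, hs.cardN] at h3
      have h4 : 2 ^ e2 ∣ 2 ^ a :=
        ((Nat.coprime_two_left.2 hs.odd).pow_left e2).dvd_of_dvd_mul_right h3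
      exact hno ((eq_of_le_of_card_ge hTH (by rw [he2, hcT, ← ha]; exact Nat.le_of_dvd (by positivity) h4)).ge
        (hH ▸ ⟨hn, hnT⟩))
    · exact hTne ((map_injective (f := (MulAut.conj g).toMonoidHom) (MulAut.conj g).injective).eq_iff.1
        (e.trans (map_top_of_surjective _ (MulAut.conj g).surjective).symm))
  have hE : Ess S T := by
    refine ⟨hTS, fun e => hnS (e hnT), hcTU.trans hUT, ?_, fun K hKle hKp hKn => ?_⟩
    · rintro ⟨m, hm⟩
      refine hno7 ?_
      rw [← hR] at hm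
      rw [← Grp.card_mul_relIndex (hR ▸ inf_le_right : R ≤ normalizer (T : Set G)), hcR, hm, pow_succ 2 6]
      exact ⟨m, (mul_assoc _ _ _).symm⟩
    · have hKR : K ≤ R := by
        have hRK : R ≤ normalizer (K : Set G) := fun r hr => mem_normalizer_fintype fun q hq =>
          hKn r ((hR ▸ inf_le_right : R ≤ normalizer (T : Set G)) hr) q hq
        have hp : IsPGroup 2 ↥(R ⊔ K) :=
          (IsPGroup.of_card hcR).to_sup_of_normal_right' hKp hRK
        obtain ⟨e, he⟩ := IsPGroup.iff_card.1 hp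
        have hd := card_dvd_of_le (sup_le (hR ▸ inf_le_right) hKle : R ⊔ K ≤ normalizer (T : Set G))
        rw [he] at hd
        have he6 : e ≤ 6 := by
          by_contra h7
          exact hno7 ((Nat.pow_dvd_pow 2 (show 7 ≤ e by omega)).trans hd)
        exact (eq_of_le_of_card_ge (le_sup_left : R ≤ R ⊔ K)
          (by rw [he, hcR]; exact Nat.pow_le_pow_right (by norm_num) he6)).symm ▸ le_sup_right
      by_contra hKT
      have hTR : T ⊔ K = R := eq_of_le_of_card_ge (sup_le hRlt.le hKR) (by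
        have := double_le (S := S) (le_trans (sup_le hRlt.le hKR) hRS.le)
          (lt_of_le_of_ne (le_sup_left : T ≤ T ⊔ K) fun e => hKT (e ▸ le_sup_right))
        omega)
      have hNR : normalizer (T : Set G) ≤ normalizer (R : Set G) := fun g hg => by
        refine Grp.mem_normalizer_of_map_eq.2 ?_
        rw [← hTR, Subgroup.map_sup, Grp.mem_normalizer_of_map_eq.1 hg,
          Grp.mem_normalizer_of_map_eq.1 (mem_normalizer_fintype fun q hq => hKn g hg q hq)]
      obtain ⟨x, hxS, hxR, hxN⟩ := exists_normalizing (S := S) le_rfl hRS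
      have hlt : R < (S : Subgroup G) ⊓ normalizer (R : Set G) :=
        lt_of_le_of_ne (le_inf hRS.le le_normalizer) fun e => hxR (e.ge ⟨hxS, hxN⟩)
      have := double_le (S := S) inf_le_left hlt
      have hSN : (S : Subgroup G) ≤ normalizer (R : Set G) :=
        (eq_of_le_of_card_ge (inf_le_left : (S : Subgroup G) ⊓ normalizer (R : Set G) ≤ _)
          (by rw [h.card]; omega)).ge.trans inf_le_right
      rcases h.sylow_maximal hSN with e | e
      · exact hnS (e.le (hNR hnT))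
      · haveI := normalizer_eq_top_iff.1 e
        rcases h.normal_eq R inferInstance with e1 | e1
        · exact hz.ne (mem_bot.1 (e1 ▸ hRlt.le hzT))
        · exact h.ne_top (top_le_iff.1 (e1 ▸ hRS.le))
  obtain ⟨v0, hv0, hv0b⟩ : ∃ v ∈ U, b * v ≠ v * b := by
    by_contra! hall
    exact hbU (hU.cent (mem_centralizer_iff.2 fun v hv => (hall v hv).symm))
  obtain ⟨u2, a2, k2, hs2⟩ := hE.sizes h hz
  obtain ⟨d⟩ := hE.data_large h hz hs2 fun hab2 => hv0b (hab2 b hb v0 (hUT hv0))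
  have hU2 : U.relIndex T = 2 := rel_two hUT (by rw [hcT, hs.cardU, hu]; norm_num)
  -- the center of `T`
  obtain ⟨A, hA⟩ : ∃ A, A = U ⊓ centralizer ({b} : Set G) := ⟨_, rfl⟩
  have hAT : A ≤ centralizer (T : Set G) := fun q hq => by
    rw [hA] at hq
    refine mem_centralizer_iff.2 fun t ht => ?_
    by_cases htU : t ∈ U
    · exact hab t htU q hq.1
    · have hm : b⁻¹ * t ∈ U := (rel_mul hU2 (inv_mem hb) ht).2 (iff_of_false (fun e => hbU (inv_mem_iff.1 e)) htU)
      have h1 : Commute q b := mem_centralizer_singleton_iff.1 hq.2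
      have h2 : Commute q (b⁻¹ * t) := hab q hq.1 _ hm
      have := h1.mul_right h2
      rw [mul_inv_cancel_left] at this
      exact this.eq.symm
  have hTA : centralizer (T : Set G) ≤ A := fun q hq => hA ▸ ⟨hcTU hq,
    mem_centralizer_singleton_iff.2 (mem_centralizer_iff.1 hq b hb).symm⟩
  have hv0A : v0 ∉ A := fun e => hv0b (mem_centralizer_singleton_iff.1 (hA ▸ e : v0 ∈ U ⊓ _).2).symm
  obtain ⟨c, e, hc, he, hce⟩ : ∃ c e, c ∈ d.split.C ∧ e ∈ centralizer (T : Set G) ∧ v0 = c * e := by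
    obtain ⟨c, hc, hcases⟩ := d.split.decomp v0 (hUT hv0)
    have hw : d.split.w ∈ centralizer (T : Set G) := mem_centralizer_iff.2 d.split.w_central
    have hv : d.split.v ∈ centralizer (T : Set G) := mem_centralizer_iff.2 d.split.v_central
    rcases hcases with e1 | e1 | e1 | e1
    · exact ⟨c, 1, hc, one_mem _, by rw [mul_one, e1]⟩
    · exact ⟨c, _, hc, hw, e1⟩
    · exact ⟨c, _, hc, hv, e1⟩
    · exact ⟨c, _, hc, mul_mem hv hw, e1⟩
  have hcA : c ∉ A := fun e1 => hv0A (hce ▸ mul_mem e1 (hTA he))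
  have hcU : c ∈ U := by
    rw [show c = v0 * e⁻¹ by rw [hce, mul_inv_cancel_right]]
    exact mul_mem hv0 (inv_mem (hcTU he))
  have hiA : A.relIndex U = 2 := rel_two (hA ▸ inf_le_left) (by
    have hH : Nat.card U ≤ 2 * Nat.card ↥(U ⊓ centralizer ({b} : Set G)) := by
      obtain ⟨b', hb', hbU', hH⟩ := hU.hyper_ab h hz hs hab (by omega)
      refine hH.trans (Nat.mul_le_mul_left 2 (card_le_of_le (le_inf inf_le_left fun q hq => ?_)))
      rw [← hT] at hb'
      have hm : b⁻¹ * b' ∈ U := (rel_mul hU2 (inv_mem hb) hb').2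
        (iff_of_false (fun e => hbU (inv_mem_iff.1 e)) hbU')
      have h1 : Commute q b' := mem_centralizer_singleton_iff.1 hq.2
      have h2 : Commute q (b⁻¹ * b') := hab q hq.1 _ hm
      have := h1.mul_right h2.inv_right
      rw [mul_inv_rev, inv_inv, mul_inv_cancel_left] at this
      exact mem_centralizer_singleton_iff.2 this.eq
    rw [hA]; exact hU.hyper_exact hbU hH)
  have hcb : d.b * c = c * d.b := d.split.b_C c hc
  have hbnU : d.b ∈ normalizer (U : Set G) := mem_normalizer_fintype fun q hq => by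
    have key : ∀ r ∈ A, d.b * r * d.b⁻¹ ∈ U := fun r hr => (hA ▸ hTA (cent_conj d.b_mem.2 (hAT hr)) : _ ∈ U ⊓ _).1
    by_cases hqA : q ∈ A
    · exact key q hqA
    · have hm : c⁻¹ * q ∈ A := (rel_mul hiA (inv_mem hcU) hq).2
        (iff_of_false (fun e => hcA (inv_mem_iff.1 e)) hqA)
      rw [show d.b * q * d.b⁻¹ = d.b * c * d.b⁻¹ * (d.b * (c⁻¹ * q) * d.b⁻¹) by group, hcb, mul_inv_cancel_right]
      exact mul_mem hcU (key _ hm)
  exact d.b_notU (hT.ge ⟨d.b_mem.1, hbnU⟩)

theorem Ess.k_prime {u a k : ℕ} (hs : Sizes S U z u a k) : k.Prime := by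
  refine (hs.prime_or hU.cent).resolve_right fun ⟨hk, hu, ha⟩ => ?_
  have hab : Ab U := hU.ab_small h hz hs (by omega)
  obtain ⟨b, hb, hbU, hH⟩ := hU.hyper_ab h hz hs hab (by omega)
  obtain ⟨A, hA⟩ : ∃ A, A = U ⊓ centralizer ({b} : Set G) := ⟨_, rfl⟩
  have hcA : Nat.card U = 2 * Nat.card A := hA ▸ hU.hyper_exact hbU hH
  have hU2 : U.relIndex (nS S U) = 2 := rel_two hU.le_nS (by rw [hs.cardT, hs.cardU, hu, ha]; norm_num)
  set O := orb (normalizer (U : Set G)) z with hO
  have hfix : ∀ p ∈ O, p ≠ z → p ∈ (U : Set G) \ (A : Set G) := by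
    intro p hp hpz
    obtain ⟨hpC, -, -⟩ := hU.orb_mem hz p hp
    refine ⟨hU.cent hpC, fun hpA => hpz ?_⟩
    obtain ⟨n, hn, rfl⟩ := hp
    have hbn : n⁻¹ * b * n ∈ nS S U := by
      refine ⟨h.mem_of_fix_z hz ?_, (normalizer (U : Set G)).mul_mem ((normalizer (U : Set G)).mul_mem ((normalizer (U : Set G)).inv_mem hn) hb.2) hn⟩
      have h1 : n * z * n⁻¹ * b = b * (n * z * n⁻¹) := mem_centralizer_singleton_iff.1 (hA ▸ hpA : _ ∈ U ⊓ _).2
      have := congrArg (fun t => n⁻¹ * t * n) h1.symm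
      simpa [mul_assoc] using this
    have hnT : n⁻¹ ∈ normalizer (nS S U : Set G) := mem_normalizer_fintype fun t ht => by
      by_cases htU : t ∈ U
      · exact hU.le_nS ((mem_normalizer_iff.1 (inv_mem hn) t).1 htU)
      · have hm : b⁻¹ * t ∈ U := (rel_mul hU2 (inv_mem hb) ht).2 (iff_of_false (fun e => hbU (inv_mem_iff.1 e)) htU)
        rw [show n⁻¹ * t * n⁻¹⁻¹ = n⁻¹ * b * n * (n⁻¹ * (b⁻¹ * t) * n⁻¹⁻¹) by group]
        exact mul_mem hbn (hU.le_nS ((mem_normalizer_iff.1 (inv_mem hn) _).1 hm))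
    have := hU.self_norm h hz hs hab hu ha hb hbU (inv_mem hn) hnT
    exact mul_inv_eq_iff_eq_mul.2 (hz.comm n (inv_mem_iff.1 this).1)
  have hzO : z ∈ O := ⟨1, one_mem _, by group⟩
  have hsub : O \ {z} ⊆ (U : Set G) \ (A : Set G) := fun p hp => hfix p hp.1 hp.2
  have hcdiff : ((U : Set G) \ (A : Set G)).ncard = 8 := by
    have hAU : (A : Set G) ⊆ (U : Set G) := hA ▸ (inf_le_left : U ⊓ centralizer ({b} : Set G) ≤ U)
    rw [Set.ncard_diff hAU, show ((U : Subgroup G) : Set G).ncard = Nat.card U from (Nat.card_coe_set_eq _).symm,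
      show ((A : Subgroup G) : Set G).ncard = Nat.card A from (Nat.card_coe_set_eq _).symm]
    rw [hs.cardU, hu] at hcA
    rw [hs.cardU, hu]
    omega
  have hcO : (O \ {z}).ncard = k - 1 := by rw [Set.ncard_diff_singleton_of_mem hzO, hs.orbit]
  have hle := Set.ncard_le_ncard hsub
  rw [hcO, hcdiff] at hle
  have heq : O \ {z} = (U : Set G) \ (A : Set G) := Set.eq_of_subset_of_ncard_le hsub (by rw [hcO, hcdiff]; omega)
  obtain ⟨p, hp⟩ : (O \ {z}).Nonempty := Set.nonempty_of_ncard_ne_zero (by rw [hcO]; omega)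
  obtain ⟨n, hn, hnp⟩ := hp.1
  have hzA : z ∈ A := hA ▸ ⟨hU.z_mem hz, mem_centralizer_singleton_iff.2 (hz.comm b hb.1).symm⟩
  have hout : ∀ q ∈ A, q ≠ z → n⁻¹ * q * n ∈ A := by
    intro q hq hqz
    by_contra hqA
    have hqU : n⁻¹ * q * n ∈ U := by
      simpa using (mem_normalizer_iff.1 (inv_mem hn) q).1 ((hA ▸ hq : q ∈ U ⊓ _).1)
    obtain ⟨m, hm, hmq⟩ : n⁻¹ * q * n ∈ O := (heq.ge ⟨hqU, hqA⟩).1
    have hqO : q ∈ O := ⟨n * m, mul_mem hn hm, by
      calc n * m * z * (n * m)⁻¹ = n * (m * z * m⁻¹) * n⁻¹ := by group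
        _ = q := by rw [hmq]; group⟩
    exact (hfix q hqO hqz).2 hq
  obtain ⟨c, hc, hc1, hcz⟩ : ∃ c ∈ A, c ≠ 1 ∧ c ≠ z := by
    by_contra! hall
    have hsub2 : (A : Set G) ⊆ {1, z} := fun q hq => by
      by_cases e : q = 1
      · exact Or.inl e
      · exact Or.inr (hall q hq e)
    have := (Set.ncard_le_ncard hsub2).trans (Set.ncard_insert_le _ _)
    rw [show ((A : Subgroup G) : Set G).ncard = Nat.card A from (Nat.card_coe_set_eq _).symm,
      Set.ncard_singleton] at this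
    rw [hs.cardU, hu] at hcA
    omega
  have hm : n⁻¹ * z * n ∈ A := by
    have h2 := hout (c⁻¹ * z) (mul_mem (inv_mem hc) hzA) fun e => hc1 (inv_eq_one.1 (mul_eq_right.1 e))
    have := mul_mem (hout c hc hcz) h2
    simpa [mul_assoc] using this
  refine (hfix _ ⟨n⁻¹, inv_mem hn, by group⟩ fun e => hp.2 ?_).2 hm
  rw [Set.mem_singleton_iff, ← hnp]
  calc n * z * n⁻¹ = n * (n⁻¹ * z * n) * n⁻¹ := by rw [e]
    _ = z := by group

theorem Ess.data : Nonempty (Data S U) := by
  obtain ⟨u, a, k, hs⟩ := hU.sizes h hz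
  by_cases hab : Ab U
  · have hT := hU.two_of_ab h hz hs hab
    obtain ⟨b, hb, hbU, hH⟩ := hU.hyper_ab h hz hs hab hT
    exact hU.data_of_hyper h hz hs hT (hU.k_prime h hz hs) hb hbU hH
  · exact hU.data_large h hz hs hab

end Cfsg.Agent.Fus.LenEight
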