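import Cfsg.Agent.Lib.Fus.LengthEight.EssAbelian

/-!
# Non-abelian essential subgroups (for S3250)
-/

set_option autoImplicit false
set_option linter.style.haveILetI false

namespace Cfsg.Agent.Fus.LenEight

open Subgroup

universe u

variable {G : Type u} [Group G] [Finite G] {S : Sylow 2 G}

omit [Finite G] in
theorem cent_conj {U : Subgroup G} {n q : G} (hn : n ∈ normalizer (U : Set G))
    (hq : q ∈ centralizer (U : Set G)) : n * q * n⁻¹ ∈ centralizer (U : Set G) := by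
  refine mem_centralizer_iff.2 fun v hv => ?_
  have h1 := mem_centralizer_iff.1 hq (n⁻¹ * v * n) (by simpa using (mem_normalizer_iff.1 (inv_mem hn) v).1 hv)
  have := congrArg (fun t => n * t * n⁻¹) h1
  simpa [mul_assoc] using this

variable (h : Hyp G S) {z : G} (hz : Cen S z) {U : Subgroup G} (hU : Ess S U)
include hz hU

omit [Finite G] in
theorem Ess.orb_mem : ∀ p ∈ orb (normalizer (U : Set G)) z, p ∈ centralizer (U : Set G) ∧ p * p = 1 ∧ p ≠ 1 := by
  rintro _ ⟨n, hn, rfl⟩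
  refine ⟨cent_conj hn (mem_centralizer_iff.2 (hU.z_comm hz)), ?_, fun e => hz.ne (conj_eq_one_iff.1 e)⟩
  rw [conj_mul, hz.sq, mul_one, mul_inv_cancel]

omit hz in
include hz in
theorem Ess.gen_of_odd {u a k : ℕ} (hs : Sizes S U z u a k) (hk : k.Prime) {y : G} (hyN : y ∈ normalizer (U : Set G))
    (hyo : Odd (orderOf y)) (hy1 : y ≠ 1) (K : Subgroup G) (hK : nS S U ≤ K) (hyK : y ∈ K) :
    normalizer (U : Set G) ≤ K := by
  have hdvd := card_dvd_of_le (inf_le_right : K ⊓ normalizer (U : Set G) ≤ normalizer (U : Set G))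
  have hle : nS S U ≤ K ⊓ normalizer (U : Set G) := le_inf hK inf_le_right
  obtain ⟨m, hm⟩ := card_dvd_of_le hle
  rw [hs.cardN, hm, hs.cardT] at hdvd
  rcases (Nat.dvd_prime hk).1 (Nat.dvd_of_mul_dvd_mul_left (Nat.two_pow_pos a) hdvd) with e | e
  · exact absurd ((eq_of_le_of_card_ge hle (by rw [hm, e, mul_one])).ge ⟨hyK, hyN⟩).1
      (not_mem_of_odd S.isPGroup' hyo hy1)
  · exact (eq_of_le_of_card_ge (inf_le_right : K ⊓ normalizer (U : Set G) ≤ _)
      (by rw [hm, hs.cardT, hs.cardN, e])).ge.trans inf_le_left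

include h

/-- Nothing below `S` is invariant under `N` and an element outside it, when `N` has a maximal 2-part. -/
theorem Ess.no_invariant {u a k : ℕ} (hs : Sizes S U z u a k) (ha : a = 6) {x : G}
    (hxS : x ∈ (S : Subgroup G)) (hxT : x ∉ nS S U) {K : Subgroup G} (hK : K ≠ ⊥) (hKS : K ≤ (S : Subgroup G))
    (hN : normalizer (U : Set G) ≤ normalizer (K : Set G)) (hx : x ∈ normalizer (K : Set G)) : False := by
  have hlt : nS S U < (S : Subgroup G) ⊓ normalizer (K : Set G) :=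
    lt_of_le_of_ne (le_inf inf_le_left (inf_le_right.trans hN)) fun e => hxT (e.ge ⟨hxS, hx⟩)
  have := double_le (S := S) inf_le_left hlt
  rw [hs.cardT, ha] at this
  have hSK : (S : Subgroup G) ≤ normalizer (K : Set G) :=
    (eq_of_le_of_card_ge (inf_le_left : (S : Subgroup G) ⊓ normalizer (K : Set G) ≤ _)
      (by rw [h.card]; omega)).ge.trans inf_le_right
  rcases h.sylow_maximal hSK with e | e
  · exact hU.non (hN.trans e.le)
  · haveI := normalizer_eq_top_iff.1 e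
    rcases h.normal_eq K inferInstance with e1 | e1
    · exact hK e1
    · exact h.ne_top (top_le_iff.1 (e1 ▸ hKS))

theorem Ess.data_large {u a k : ℕ} (hs : Sizes S U z u a k) (hab : ¬ Ab U) : Nonempty (Data S U) := by
  have hu : 5 ≤ u := by
    by_contra hlt
    exact hab (hU.ab_small h hz hs (by omega))
  have ha : a = 6 := by have := hs.lt; have := hs.le6; omega
  have hu5 : u = 5 := by have := hs.lt; omega
  have hk : k.Prime := (hs.prime_or hU.cent).resolve_right fun e => by omega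
  haveI : Fact k.Prime := ⟨hk⟩
  obtain ⟨x, hxS, hxT, hxN, hle, hne, hTU⟩ := hU.exists_x h hz
  obtain ⟨U', hU'⟩ : ∃ U', U' = U.map (MulAut.conj x).toMonoidHom := ⟨_, rfl⟩
  rw [← hU'] at hle hne hTU
  have memU' : ∀ g, g ∈ U' ↔ x⁻¹ * g * x ∈ U := fun g => hU' ▸ mem_conj
  have hcI : Nat.card U = 2 * Nat.card ↥(U ⊓ U') := by
    rw [hU'] at hle hne ⊢
    exact hU.two_halves h hz hs (by omega) hle hne
  have hxx : x * x ∈ nS S U :=
    rel_sq (rel_two inf_le_left (by rw [h.card, hs.cardT, ha]; norm_num)) hxS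
  set Z := centralizer (U : Set G) with hZdef
  have hZcent : ∀ {q}, q ∈ Z → ∀ v ∈ U, v * q = q * v := fun hq v hv => mem_centralizer_iff.1 hq v hv
  have hconjU' : ∀ {q}, x⁻¹ * q * x ∈ Z → q ∈ U' ∧ ∀ g ∈ U', g * q = q * g := by
    intro q hq
    refine ⟨(memU' q).2 (hU.cent hq), fun g hg => ?_⟩
    have h1 := hZcent hq _ ((memU' g).1 hg)
    have := congrArg (fun t => x * t * x⁻¹) h1
    simpa [mul_assoc] using this
  by_cases hZU : ∃ b, x⁻¹ * b * x ∈ Z ∧ b ∉ U
  · obtain ⟨b, hb, hbU⟩ := hZU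
    obtain ⟨hb', hbc⟩ := hconjU' hb
    refine hU.data_of_hyper h hz hs (by omega) hk (hle hb') hbU ?_
    rw [hcI]
    exact Nat.mul_le_mul_left 2 (card_le_of_le (le_inf inf_le_left fun g hg =>
      mem_centralizer_singleton_iff.2 (hbc g hg.2)))
  push Not at hZU
  exfalso
  -- `Z` is moved by `x`
  have hZN : ∀ n ∈ normalizer (U : Set G), ∀ q ∈ Z, n * q * n⁻¹ ∈ Z := fun n hn q hq => cent_conj hn hq
  have hback : ∀ {K : Subgroup G}, (∀ n ∈ normalizer (U : Set G), ∀ q ∈ K, n * q * n⁻¹ ∈ K) → ∀ {q}, q ∈ K →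
      ∃ r ∈ K, x⁻¹ * q * x = x * r * x⁻¹ := by
    intro K hK q hq
    exact ⟨(x * x)⁻¹ * q * (x * x)⁻¹⁻¹, hK _ (inv_mem hxx.2) q hq, by group⟩
  have hZU' : Z ≤ U' := fun q hq => by
    obtain ⟨r, hr, e⟩ := hback hZN hq
    rw [memU', e]
    exact hZU _ (by simpa [mul_assoc] using hr)
  have hnormN : ∀ {K : Subgroup G}, (∀ n ∈ normalizer (U : Set G), ∀ q ∈ K, n * q * n⁻¹ ∈ K) →
      normalizer (U : Set G) ≤ normalizer (K : Set G) := fun hK n hn =>
    mem_normalizer_fintype fun q hq => hK n hn q hq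
  have hzZ : z ∈ Z := mem_centralizer_iff.2 (hU.z_comm hz)
  have hbot : ∀ {K : Subgroup G}, z ∈ K → K ≠ ⊥ := fun hK e => hz.ne (mem_bot.1 (e ▸ hK))
  have hZS : Z ≤ (S : Subgroup G) := hU.cent.trans hU.le
  -- the center has order at most eight
  have hZ8 : Nat.card Z ≤ 8 := by
    obtain ⟨a', ha', b', hb', hne'⟩ : ∃ a ∈ U, ∃ b ∈ U, a * b ≠ b * a := by
      by_contra! hcon; exact hab hcon
    have h1 : Z < U ⊓ centralizer ({a'} : Set G) := by
      refine lt_of_le_of_ne (le_inf hU.cent fun q hq => mem_centralizer_singleton_iff.2 (hZcent hq a' ha').symm)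
        fun e => hne' ?_
      have hm : a' ∈ Z := e.ge ⟨ha', mem_centralizer_singleton_iff.2 rfl⟩
      exact (hZcent hm b' hb').symm
    have h2 : U ⊓ centralizer ({a'} : Set G) < U := lt_of_le_of_ne inf_le_left fun e =>
      hne' (mem_centralizer_singleton_iff.1 (e.ge hb').2).symm
    have := double_le (S := S) (inf_le_left.trans hU.le) h1
    have := double_le (S := S) hU.le h2
    rw [hs.cardU, hu5] at this
    omega
  have hZ4 : k + 1 ≤ Nat.card Z := hs.cent
  have hk3 := hs.three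
  -- an element of the other orbit outside `Z`
  obtain ⟨p, hp, hpZ⟩ : ∃ p ∈ orb (normalizer (U : Set G)) z, x * p * x⁻¹ ∉ Z := by
    by_contra! hall
    set O := orb (normalizer (U : Set G)) z with hO
    obtain ⟨R, hR⟩ : ∃ R, R = closure O := ⟨_, rfl⟩
    have hRZ : R ≤ Z := hR ▸ (closure_le _).2 fun q hq => (hU.orb_mem hz q hq).1
    have hRN : ∀ n ∈ normalizer (U : Set G), ∀ q ∈ R, n * q * n⁻¹ ∈ R := by
      intro n hn q hq
      have : R.map (MulAut.conj n).toMonoidHom ≤ R := by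
        rw [hR, MonoidHom.map_closure]
        refine closure_mono ?_
        rintro _ ⟨_, ⟨m, hm, rfl⟩, rfl⟩
        exact ⟨n * m, mul_mem hn hm, by simp [mul_assoc]⟩
      exact this ⟨q, hq, rfl⟩
    have hR'Z : R.map (MulAut.conj x).toMonoidHom ≤ Z := by
      rw [hR, MonoidHom.map_closure, closure_le]
      rintro _ ⟨q, hq, rfl⟩
      exact hall q hq
    have hRZ' : R ≤ Z.map (MulAut.conj x).toMonoidHom := fun q hq => by
      obtain ⟨r, hr, e⟩ := hback hRN hq
      rw [mem_conj, e]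
      exact hR'Z ⟨r, hr, rfl⟩
    have hzR : z ∈ R := hR ▸ subset_closure ⟨1, one_mem _, by group⟩
    have hZne : Z.map (MulAut.conj x).toMonoidHom ≠ Z := fun e =>
      hU.no_invariant h hz hs ha hxS hxT (hbot hzZ) hZS (hnormN hZN) (Grp.mem_normalizer_of_map_eq.2 e)
    have hWlt : Z ⊓ Z.map (MulAut.conj x).toMonoidHom < Z := lt_of_le_of_ne inf_le_left fun e =>
      hZne (eq_of_le_of_card_ge (inf_eq_left.1 e) (by rw [card_conj])).symm
    have h4 : 4 ≤ Nat.card R := by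
      have h1 : insert (1 : G) O ⊆ (R : Set G) :=
        Set.insert_subset (one_mem _) (hR ▸ subset_closure)
      have h2 := Set.ncard_le_ncard h1
      rw [Set.ncard_insert_of_notMem (fun e => (hU.orb_mem hz 1 e).2.2 rfl), hs.orbit,
        show ((R : Subgroup G) : Set G).ncard = Nat.card R from (Nat.card_coe_set_eq _).symm] at h2
      omega
    have h8 := double_le (S := S) hZS hWlt
    have e1 : R = Z ⊓ Z.map (MulAut.conj x).toMonoidHom := eq_of_le_of_card_ge (le_inf hRZ hRZ') (by omega)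
    have e2 : R.map (MulAut.conj x).toMonoidHom = Z ⊓ Z.map (MulAut.conj x).toMonoidHom :=
      eq_of_le_of_card_ge (le_inf hR'Z (map_mono hRZ)) (by rw [card_conj]; omega)
    exact hU.no_invariant h hz hs ha hxS hxT (hbot hzR) (hRZ.trans hZS) (hnormN hRN)
      (Grp.mem_normalizer_of_map_eq.2 (e2.trans e1.symm))
  obtain ⟨hpC, hpp, -⟩ := hU.orb_mem hz p hp
  obtain ⟨d, hd⟩ : ∃ d, d = x * p * x⁻¹ := ⟨_, rfl⟩
  rw [← hd] at hpZ
  have hdx : x⁻¹ * d * x ∈ Z := by rw [hd]; simpa [mul_assoc] using hpC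
  have hdd : d * d = 1 := by rw [hd, conj_mul, hpp, mul_one, mul_inv_cancel]
  obtain ⟨hdU', hdc⟩ := hconjU' hdx
  have hdU : d ∈ U := hZU d hdx
  obtain ⟨I, hI⟩ : ∃ I, I = U ⊓ U' := ⟨_, rfl⟩
  rw [← hI] at hcI
  have hIU : I ≤ U := hI ▸ inf_le_left
  have hIC : I = U ⊓ centralizer ({d} : Set G) := by
    refine eq_of_le_of_card_ge (hI ▸ le_inf inf_le_left fun g hg => mem_centralizer_singleton_iff.2 (hdc g hg.2)) ?_
    have := double_le (S := S) hU.le (lt_of_le_of_ne (inf_le_left : U ⊓ centralizer ({d} : Set G) ≤ U) fun e =>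
      hpZ (mem_centralizer_iff.2 fun v hv => mem_centralizer_singleton_iff.1 (e.ge hv).2))
    omega
  have memI : ∀ g, g ∈ I ↔ g ∈ U ∧ g * d = d * g := fun g => by
    rw [hIC, mem_inf, mem_centralizer_singleton_iff]
  have hdI : d ∈ I := (memI d).2 ⟨hdU, rfl⟩
  have hZI : Z ≤ I := hI ▸ le_inf hU.cent hZU'
  have hzI : z ∈ I := hZI hzZ
  have hTI : nS S U ≤ normalizer (I : Set G) := fun t ht => mem_normalizer_fintype fun q hq => by
    rw [hI] at hq ⊢
    exact ⟨(mem_normalizer_iff.1 ht.2 q).1 hq.1, hTU t ht q hq.2⟩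
  have hxI : x ∈ normalizer (I : Set G) := mem_normalizer_fintype fun q hq => by
    rw [hI] at hq ⊢
    refine ⟨?_, (memU' _).2 (by simpa [mul_assoc] using hq.1)⟩
    have := (mem_normalizer_iff.1 hxx.2 _).1 ((memU' q).1 hq.2)
    simpa [mul_assoc] using this
  obtain ⟨y', hy'⟩ := exists_prime_orderOf_dvd_card' (G := normalizer (U : Set G)) k (hs.cardN ▸ Dvd.intro_left _ rfl)
  obtain ⟨y, hyN, hyo, hy1⟩ : ∃ y ∈ normalizer (U : Set G), Odd (orderOf y) ∧ y ≠ 1 :=
    ⟨y', y'.2, by rw [orderOf_coe, hy']; exact hs.odd, fun e => by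
      rw [← orderOf_coe, e, orderOf_one] at hy'; omega⟩
  have hnoty : y ∉ normalizer (I : Set G) := fun hy =>
    hU.no_invariant h hz hs ha hxS hxT (hbot hzI) (hIU.trans hU.le)
      (hU.gen_of_odd hz hs hk hyN hyo hy1 _ hTI hy) hxI
  obtain ⟨d1, hd1⟩ : ∃ d1, d1 = y * d * y⁻¹ := ⟨_, rfl⟩
  have hd1U : d1 ∈ U := hd1 ▸ (mem_normalizer_iff.1 hyN d).1 hdU
  have hconjd : ∀ {g}, g ∈ U → (g * d1 = d1 * g ↔ y⁻¹ * g * y ∈ I) := by
    intro g hg
    rw [memI, hd1]
    have hm : y⁻¹ * g * y ∈ U := by simpa using (mem_normalizer_iff.1 (inv_mem hyN) g).1 hg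
    refine ⟨fun e => ⟨hm, ?_⟩, fun e => ?_⟩
    · have := congrArg (fun t => y⁻¹ * t * y) e
      simpa [mul_assoc] using this
    · have := congrArg (fun t => y * t * y⁻¹) e.2
      simpa [mul_assoc] using this
  have hd1ne : d1 * d ∉ Z := fun hm => hnoty (mem_normalizer_fintype fun g hg => by
    have hgU : y * g * y⁻¹ ∈ U := (mem_normalizer_iff.1 hyN g).1 (hIU hg)
    refine (memI _).2 ⟨hgU, ?_⟩
    have e1 : Commute (y * g * y⁻¹) d1 := (hconjd hgU).2 (by simpa [mul_assoc] using hg)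
    have e2 : Commute (y * g * y⁻¹) (d1 * d) := hZcent hm _ hgU
    have e3 := e1.inv_right.mul_right e2
    rwa [inv_mul_cancel_left] at e3)
  have hd1Z : d1 ∉ Z := fun hm => hpZ (by
    have := cent_conj (inv_mem hyN) hm
    rw [hd1] at this
    simpa [mul_assoc] using this)
  -- `d` and its conjugate commute
  have hcomm : d * d1 = d1 * d := by
    by_contra hnc
    have hd1I : d1 ∉ I := fun e => hnc ((memI d1).1 e).2.symm
    have hiI : I.relIndex U = 2 := rel_two hIU hcI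
    obtain ⟨γ, hγ⟩ : ∃ γ, γ = d1 * d * d1⁻¹ * d := ⟨_, rfl⟩
    have hout : ∀ v ∈ U, v ∉ I → v * d * v⁻¹ * d = γ := by
      intro v hv hvI
      have hm : d1⁻¹ * v ∈ I := (rel_mul hiI (inv_mem hd1U) hv).2
        (iff_of_false (fun e => hd1I (inv_mem_iff.1 e)) hvI)
      have he := ((memI _).1 hm).2
      rw [hγ]
      calc v * d * v⁻¹ * d = d1 * ((d1⁻¹ * v) * d * (d1⁻¹ * v)⁻¹) * d1⁻¹ * d := by group
        _ = _ := by rw [he, mul_inv_cancel_right]
    have hγx : x⁻¹ * γ * x ∈ Z := by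
      have hd1T : x⁻¹ * d1 * x ∈ nS S U := by
        simpa using (mem_normalizer_iff.1 (inv_mem hxN) d1).1 (hU.le_nS hd1U)
      have := mul_mem (cent_conj hd1T.2 hdx) hdx
      rw [hγ]
      simpa [mul_assoc] using this
    obtain ⟨hγU', hγc⟩ := hconjU' hγx
    have hγsq : γ * γ = 1 := by
      have e1 : x⁻¹ * (d1 * d * d1⁻¹) * x ∈ Z := by
        have hd1T : x⁻¹ * d1 * x ∈ nS S U := by
          simpa using (mem_normalizer_iff.1 (inv_mem hxN) d1).1 (hU.le_nS hd1U)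
        have := cent_conj hd1T.2 hdx
        simpa [mul_assoc] using this
      have e2 : Commute (d1 * d * d1⁻¹) d := hdc _ (hconjU' e1).1
      calc γ * γ = d1 * d * d1⁻¹ * d * (d1 * d * d1⁻¹ * d) := by rw [hγ]
        _ = (d1 * d * d1⁻¹) * (d1 * d * d1⁻¹) * (d * d) := by
          rw [mul_assoc, ← mul_assoc d (d1 * d * d1⁻¹) d, ← e2.eq]; group
        _ = 1 := by rw [hdd, conj_mul, hdd, mul_one, mul_one, mul_inv_cancel]
    have hγU : γ ∈ U := hγ ▸ mul_mem (mul_mem (mul_mem hd1U hdU) (inv_mem hd1U)) hdU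
    have hγI : γ ∈ I := hI ▸ ⟨hγU, hγU'⟩
    have hd1d1 : d1 * d1 = 1 := by rw [hd1, conj_mul, hdd, mul_one, mul_inv_cancel]
    have hd1i : d1⁻¹ = d1 := inv_eq_of_mul_eq_one_right hd1d1
    have hdi : d⁻¹ = d := inv_eq_of_mul_eq_one_right hdd
    have hγZ : γ ∈ Z := by
      refine mem_centralizer_iff.2 fun v hv => ?_
      have hd1γ : d1 * γ = γ * d1 := by
        have e2 : Commute (d1 * d * d1⁻¹) d := by
          have hd1T : x⁻¹ * d1 * x ∈ nS S U := by
            simpa using (mem_normalizer_iff.1 (inv_mem hxN) d1).1 (hU.le_nS hd1U)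
          have e1 := cent_conj hd1T.2 hdx
          exact hdc _ (hconjU' (q := d1 * d * d1⁻¹) (by simpa [mul_assoc] using e1)).1
        calc d1 * γ = d1 * (d * (d1 * d * d1⁻¹)) := by rw [← e2.eq, hγ]
          _ = γ * d1 := by rw [hγ, hd1i]; group
      by_cases hvI : v ∈ I
      · exact hγc v ((hI ▸ hvI : v ∈ U ⊓ U').2)
      · obtain ⟨i, hi, rfl⟩ : ∃ i ∈ I, v = d1 * i :=
          ⟨_, (rel_mul hiI (inv_mem hd1U) hv).2 (iff_of_false (fun e => hd1I (inv_mem_iff.1 e)) hvI), by group⟩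
        exact ((show Commute d1 γ from hd1γ).mul_left
          (show Commute i γ from hγc i ((hI ▸ hi : i ∈ U ⊓ U').2))).eq
    have hγ1 : γ ≠ 1 := fun e => hnc (by
      rw [hγ, mul_eq_one_iff_eq_inv, hdi] at e
      exact (mul_inv_eq_iff_eq_mul.1 e).symm)
    have hfix : y * γ * y⁻¹ = γ := by
      have he : y⁻¹ * d * y ∈ U := by simpa using (mem_normalizer_iff.1 (inv_mem hyN) d).1 hdU
      have heI : y⁻¹ * d * y ∉ I := fun e => hnc ((hconjd hdU).2 e)
      have e1 := congrArg (fun t => y * t * y⁻¹) (hout _ he heI)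
      calc y * γ * y⁻¹ = y * (y⁻¹ * d * y * d * (y⁻¹ * d * y)⁻¹ * d) * y⁻¹ := e1.symm
        _ = d * d1 * d⁻¹ * d1 := by rw [hd1]; group
        _ = γ⁻¹ := by rw [hγ, mul_inv_rev, mul_inv_rev, mul_inv_rev, inv_inv, hdi, hd1i]; group
        _ = γ := inv_eq_of_mul_eq_one_right hγsq
    obtain ⟨Ω, hΩ⟩ : ∃ Ω : Subgroup G, ∀ q, q ∈ Ω ↔ q ∈ Z ∧ q * q = 1 :=
      ⟨{ carrier := {q | q ∈ Z ∧ q * q = 1}
         one_mem' := ⟨one_mem _, one_mul _⟩
         mul_mem' := fun {a b} ha hb => ⟨mul_mem ha.1 hb.1, by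
           have e : a * b = b * a := hZcent hb.1 a (hU.cent ha.1)
           rw [mul_assoc, ← mul_assoc b, ← e, mul_assoc a b b, hb.2, mul_one, ha.2]⟩
         inv_mem' := fun {a} ha => ⟨inv_mem ha.1, by rw [← mul_inv_rev, ha.2, inv_one]⟩ }, fun q => Iff.rfl⟩
    by_cases hΩ4 : Nat.card Ω ≤ 4
    · have hsub : insert (1 : G) (orb (normalizer (U : Set G)) z) ⊆ (Ω : Set G) :=
        Set.insert_subset (one_mem _) fun q hq => (hΩ q).2 ⟨(hU.orb_mem hz q hq).1, (hU.orb_mem hz q hq).2.1⟩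
      have heq := Set.eq_of_subset_of_ncard_le hsub (by
        rw [Set.ncard_insert_of_notMem (fun e => (hU.orb_mem hz 1 e).2.2 rfl), hs.orbit,
          show ((Ω : Subgroup G) : Set G).ncard = Nat.card Ω from (Nat.card_coe_set_eq _).symm]
        omega)
      obtain e | ⟨n, hn, hnz⟩ : γ ∈ insert (1 : G) (orb (normalizer (U : Set G)) z) := heq ▸ (hΩ γ).2 ⟨hγZ, hγsq⟩
      · exact hγ1 e
      · refine hy1 (conj_eq_one_iff.1 (h.fix_z hz (g := n⁻¹ * y * n⁻¹⁻¹) ?_ ?_))
        · rw [show orderOf (n⁻¹ * y * n⁻¹⁻¹) = orderOf y from orderOf_injective (MulAut.conj n⁻¹).toMonoidHom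
            (MulAut.conj n⁻¹).injective y]
          exact hyo
        · rw [← hnz] at hfix
          have := congrArg (fun t => n⁻¹ * t * n) (mul_inv_eq_iff_eq_mul.1 hfix)
          simpa [mul_assoc] using this
    have hΩZ : Ω = Z := by
      by_contra hne
      have := double_le (S := S) hZS (lt_of_le_of_ne (fun q hq => ((hΩ q).1 hq).1) hne)
      omega
    have hΩ8 : Nat.card Z = 8 := by
      rw [hΩZ] at hΩ4
      obtain ⟨e, he⟩ := card_two_pow hZS
      have : e ≤ 3 := by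
        by_contra h4
        have := Nat.pow_le_pow_right (show 0 < 2 by norm_num) (show 4 ≤ e by omega)
        omega
      interval_cases e <;> omega
    have hiZ : Z.relIndex I = 2 := rel_two hZI (by rw [hs.cardU, hu5] at hcI; omega)
    obtain ⟨d2, hd2⟩ : ∃ d2, d2 = y * d1 * y⁻¹ := ⟨_, rfl⟩
    have hd2U : d2 ∈ U := hd2 ▸ (mem_normalizer_iff.1 hyN d1).1 hd1U
    have hd22 : d2 * d2 = 1 := by rw [hd2, conj_mul, hd1d1, mul_one, mul_inv_cancel]
    have hyback : ∀ {q}, y * q * y⁻¹ ∈ Z → q ∈ Z := fun {q} hm => by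
      simpa [mul_assoc] using cent_conj (inv_mem hyN) hm
    have hd2Z : d2 ∉ Z := fun e => hd1Z (hyback (hd2 ▸ e))
    by_cases hd2I : d2 ∈ I
    · -- then `y ^ 2` normalises `I`
      have hm : d2 * d ∈ Z := (rel_mul hiZ hd2I hdI).2 (iff_of_false hd2Z hpZ)
      have hy2 : y * y ∈ normalizer (I : Set G) := mem_normalizer_fintype fun g hg => by
        have h1U : y * g * y⁻¹ ∈ U := (mem_normalizer_iff.1 hyN g).1 (hIU hg)
        have h2U : y * (y * g * y⁻¹) * y⁻¹ ∈ U := (mem_normalizer_iff.1 hyN _).1 h1U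
        have e1 : Commute (y * g * y⁻¹) d1 := (hconjd h1U).2 (by simpa [mul_assoc] using hg)
        have e2 : Commute (y * (y * g * y⁻¹) * y⁻¹) d2 := hd2 ▸ e1.map (MulAut.conj y).toMonoidHom
        have e3 : Commute (y * (y * g * y⁻¹) * y⁻¹) (d2 * d) := hZcent hm _ h2U
        have e4 := e2.inv_right.mul_right e3
        rw [inv_mul_cancel_left] at e4
        rw [show y * y * g * (y * y)⁻¹ = y * (y * g * y⁻¹) * y⁻¹ by group]
        exact (memI _).2 ⟨h2U, e4.eq⟩
      obtain ⟨j, hj⟩ := exists_pow_eq_self_of_coprime (x := y) (n := 2) (Nat.coprime_two_left.2 hyo)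
      exact hnoty (hj ▸ pow_mem (by rw [sq]; exact hy2) j)
    · have hm : d2 * d1 ∈ I := (rel_mul hiI hd2U hd1U).2 (iff_of_false hd2I hd1I)
      by_cases hmZ : d2 * d1 ∈ Z
      · refine hd1ne (hyback ?_)
        rw [← conj_mul, ← hd2, ← hd1]
        exact hmZ
      · have hζ : d2 * d1 * d ∈ Z := (rel_mul hiZ hm hdI).2 (iff_of_false hmZ hpZ)
        obtain ⟨ζ, hζ', e⟩ : ∃ ζ ∈ Z, d2 = ζ * (d * d1) := by
          refine ⟨_, hζ, ?_⟩
          calc d2 = d2 * d1 * (d * d) * d1 := by rw [hdd, mul_one, mul_assoc, hd1d1, mul_one]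
            _ = _ := by group
        have hζ2 : ζ * ζ = 1 := ((hΩ ζ).1 (by rw [hΩZ]; exact hζ')).2
        apply hnc
        have h1 : (d * d1) * (d * d1) = 1 := by
          have e' : Commute (d * d1) ζ := hZcent hζ' _ (mul_mem hdU hd1U)
          calc d * d1 * (d * d1) = (ζ * ζ) * (d * d1 * (d * d1)) := by rw [hζ2, one_mul]
            _ = (ζ * (d * d1)) * (ζ * (d * d1)) := by
              rw [mul_assoc ζ (d * d1) (ζ * (d * d1)), ← mul_assoc (d * d1) ζ, e'.eq]; group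
            _ = 1 := by rw [← e, hd22]
        calc d * d1 = (d * d1)⁻¹ := (inv_eq_of_mul_eq_one_right h1).symm
          _ = d1 * d := by rw [mul_inv_rev, hdi, hd1i]
  -- too many common elements
  obtain ⟨I1, hI1⟩ : ∃ I1, I1 = I.map (MulAut.conj y).toMonoidHom := ⟨_, rfl⟩
  have memI1 : ∀ g, g ∈ I1 ↔ y⁻¹ * g * y ∈ I := fun g => hI1 ▸ mem_conj
  have hlt : I ⊓ I1 < I := lt_of_le_of_ne inf_le_left fun e =>
    hnoty (Grp.mem_normalizer_of_map_eq.2 (hI1 ▸
      (eq_of_le_of_card_ge (inf_eq_left.1 e) (by rw [hI1, card_conj])).symm))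
  have hIS : I ≤ (S : Subgroup G) := hIU.trans hU.le
  have h8 := double_le (S := S) hIS hlt
  have hd_1 : d ∈ I1 := (memI1 d).2 ((hconjd hdU).1 hcomm)
  have hd1_1 : d1 ∈ I1 := (memI1 d1).2 (by rw [hd1]; simpa [mul_assoc] using hdI)
  have hd1_0 : d1 ∈ I := (memI d1).2 ⟨hd1U, hcomm.symm⟩
  have hZ1 : Z ≤ I1 := fun q hq => (memI1 q).2 (hZI (by simpa using cent_conj (inv_mem hyN) hq))
  obtain ⟨K, hK⟩ : ∃ K, K = Z ⊔ zpowers d := ⟨_, rfl⟩
  have hK1 : K ≤ I ⊓ I1 := hK ▸ sup_le (le_inf hZI hZ1) (zpowers_le.2 ⟨hdI, hd_1⟩)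
  have hK2 : K ⊔ zpowers d1 ≤ I ⊓ I1 := sup_le hK1 (zpowers_le.2 ⟨hd1_0, hd1_1⟩)
  have hZK : Z < K := hK ▸ lt_of_le_of_ne le_sup_left fun e =>
    hpZ (e.ge (le_sup_right (b := zpowers d) (mem_zpowers d)))
  have hKlt : K < K ⊔ zpowers d1 := lt_of_le_of_ne le_sup_left fun e => by
    have hm : d1 ∈ K := e.ge (le_sup_right (b := zpowers d1) (mem_zpowers d1))
    have hdn : zpowers d ≤ normalizer (Z : Set G) := zpowers_le.2 (mem_normalizer_fintype fun q hq =>
      cent_conj (le_normalizer hdU) hq)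
    rw [hK, sup_comm] at hm
    have hd1K : d1 ∈ ((zpowers d ⊔ Z : Subgroup G) : Set G) := hm
    rw [coe_mul_of_left_le_normalizer_right _ _ hdn] at hd1K
    obtain ⟨_, ⟨i, rfl⟩, q, hq, rfl⟩ := hd1K
    rcases Int.even_or_odd' i with ⟨j, rfl | rfl⟩
    · refine hd1Z ?_
      simp only [zpow_mul, zpow_two, hdd, one_zpow, one_mul]
      exact hq
    · refine hd1ne ?_
      simp only [zpow_add, zpow_mul, zpow_two, hdd, one_zpow, one_mul, zpow_one]
      rw [mul_assoc, ← hZcent hq d hdU, ← mul_assoc, hdd, one_mul]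
      exact hq
  have h9 := double_le (S := S) (hK1.trans (inf_le_left.trans hIS)) hZK
  have h10 := double_le (S := S) (hK2.trans (inf_le_left.trans hIS)) hKlt
  have h11 := card_le_of_le hK2
  rw [hs.cardU, hu5] at hcI
  omega

end Cfsg.Agent.Fus.LenEight
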