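import Cfsg.Agent.Lib.Fus.LengthEight.EssLarge

/-!
# `|T : U| = 2` for abelian essential subgroups (for S3250)
-/

set_option autoImplicit false
set_option linter.style.haveILetI false

namespace Cfsg.Agent.Fus.LenEight

open Subgroup

universe u

variable {G : Type u} [Group G] [Finite G] {S : Sylow 2 G}

/-- Fixed points of an element of prime order on an invariant subgroup. -/
theorem cong {k : ℕ} [Fact k.Prime] {y : G} (hy : orderOf y = k) {V : Subgroup G} (hV : y ∈ normalizer (V : Set G)) :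
    Nat.card V ≡ Nat.card ↥(V ⊓ centralizer ({y} : Set G)) [MOD k] := by
  let φ : zpowers y →* MulAut V := (MulEquiv.refl _).toMonoidHom.comp
    ((normalizerMonoidHom V).comp (inclusion (zpowers_le.2 hV : zpowers y ≤ normalizer (V : Set G))))
  letI : MulAction (zpowers y) V := MulAction.compHom V φ
  have hcoe : ∀ (g : zpowers y) (v : V), ((g • v : V) : G) = g * v * (g : G)⁻¹ := fun g v => rfl
  have hp : IsPGroup k (zpowers y) := IsPGroup.of_card (n := 1) (by rw [Nat.card_zpowers, pow_one, hy])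
  have h1 : ∀ v : MulAction.fixedPoints (zpowers y) V, ((v : V) : G) ∈ V ⊓ centralizer ({y} : Set G) := fun v => by
    refine ⟨(v : V).2, ?_⟩
    have h1 := congrArg Subtype.val (v.2 ⟨y, mem_zpowers y⟩)
    rw [hcoe] at h1
    exact mem_centralizer_singleton_iff.2 (mul_inv_eq_iff_eq_mul.1 h1).symm
  have h2 : ∀ v : ↥(V ⊓ centralizer ({y} : Set G)), (⟨(v : G), v.2.1⟩ : V) ∈ MulAction.fixedPoints (zpowers y) V := by
    intro v g
    obtain ⟨i, hi⟩ := mem_zpowers_iff.1 g.2
    refine Subtype.ext ?_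
    rw [hcoe]
    have h1 : Commute y (v : G) := (mem_centralizer_singleton_iff.1 v.2.2).symm
    exact mul_inv_eq_iff_eq_mul.2 (by rw [← hi]; exact (h1.zpow_left i).eq)
  have e : Nat.card (MulAction.fixedPoints (zpowers y) V) = Nat.card ↥(V ⊓ centralizer ({y} : Set G)) :=
    Nat.card_congr ⟨fun v => ⟨_, h1 v⟩, fun v => ⟨_, h2 v⟩, fun v => rfl, fun v => rfl⟩
  exact e ▸ hp.card_modEq_card_fixedPoints V

variable (h : Hyp G S) {z : G} (hz : Cen S z) {U : Subgroup G} (hU : Ess S U)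
include h hz hU

theorem Ess.two_of_ab {u a k : ℕ} (hs : Sizes S U z u a k) (hab : Ab U) : a = u + 1 := by
  by_contra hne
  have hc2 : 2 ≤ a - u := by have := hs.lt; omega
  have hu4 : u ≤ 4 := by have := hs.le6; omega
  have hk : k.Prime := (hs.prime_or hU.cent).resolve_right fun e => by omega
  haveI : Fact k.Prime := ⟨hk⟩
  haveI : Fact (Nat.Prime 2) := ⟨Nat.prime_two⟩
  haveI := hs.solv
  have hk3 := hs.three
  set N := normalizer (U : Set G) with hN
  let π := QuotientGroup.mk' (U.subgroupOf N)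
  haveI : Group.IsSolvable (N ⧸ U.subgroupOf N) :=
    Group.isSolvable_of_surjective (QuotientGroup.mk'_surjective (U.subgroupOf N))
  obtain ⟨R, hR⟩ : ∃ R, R = ((nS S U).subgroupOf N).map π := ⟨_, rfl⟩
  have hRc : Nat.card R = 2 ^ (a - u) := by
    rw [hR, ← relIndex_ker, QuotientGroup.ker_mk', relIndex_subgroupOf inf_le_right]
    refine Nat.eq_of_mul_eq_mul_left (Nat.two_pow_pos u) ?_
    conv_lhs => rw [← hs.cardU, Grp.card_mul_relIndex hU.le_nS, hs.cardT]
    rw [← pow_add, Nat.add_sub_cancel' hs.lt.le]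
  obtain ⟨hcyc, hdvd, hpair⟩ := cyclic_quot (hU.quot_card hs) hk (fun e => by
    have := hs.odd; rw [e] at this; exact absurd this (by decide)) hU.normal_two_le R hRc
  -- orders
  obtain ⟨y', hy'⟩ := exists_prime_orderOf_dvd_card' (G := N) k (hs.cardN ▸ Dvd.intro_left _ rfl)
  obtain ⟨y, hyN, hyk⟩ : ∃ y ∈ N, orderOf y = k := ⟨y', y'.2, by rw [orderOf_coe, hy']⟩
  have hy1 : y ≠ 1 := fun e => by rw [e, orderOf_one] at hyk; omega
  have hCU : ¬ U ≤ centralizer ({y} : Set G) := fun hle =>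
    not_mem_of_odd hU.pgroup (hyk ▸ hs.odd) hy1 (hU.cent (mem_centralizer_iff.2 fun v hv =>
      mem_centralizer_singleton_iff.1 (hle hv)))
  obtain ⟨j, hj⟩ := card_two_pow (H := U ⊓ centralizer ({y} : Set G)) (inf_le_left.trans hU.le)
  have hju : j < u := by
    by_contra hle
    refine hCU fun v hv => ((eq_of_le_of_card_ge (inf_le_left : U ⊓ centralizer ({y} : Set G) ≤ U) ?_).ge hv).2
    rw [hj, hs.cardU]
    exact Nat.pow_le_pow_right (by norm_num) (not_lt.1 hle)
  have hmod := cong hyk hyN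
  rw [hs.cardU, hj] at hmod
  have hk1 : k + 1 ≤ 2 ^ u := hs.cardU ▸ hs.cent.trans (card_le_of_le hU.cent)
  have hk15 : k ≤ 15 := by
    have := Nat.pow_le_pow_right (show 0 < 2 by norm_num) hu4
    omega
  have h4k : 4 ∣ k - 1 := (Nat.pow_dvd_pow 2 hc2).trans hdvd
  obtain ⟨rfl, rfl, rfl⟩ : k = 5 ∧ u = 4 ∧ j = 0 := by
    rcases (show k = 5 ∨ k = 13 ∨ k = 9 by omega) with rfl | rfl | rfl
    · interval_cases u <;> interval_cases j <;> first | omega | exact absurd hmod (by decide) | simp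
    · interval_cases u <;> interval_cases j <;> first | omega | exact absurd hmod (by decide)
    · exact absurd hk (by norm_num)
  have ha : a = 6 := by have := hs.le6; omega
  have hc : a - 4 = 2 := by omega
  -- `U` is elementary abelian
  have helem : ∀ v ∈ U, v * v = 1 := by
    obtain ⟨Ω, hΩ⟩ : ∃ Ω : Subgroup G, ∀ q, q ∈ Ω ↔ q ∈ U ∧ q * q = 1 :=
      ⟨{ carrier := {q | q ∈ U ∧ q * q = 1}
         one_mem' := ⟨one_mem _, one_mul _⟩
         mul_mem' := fun {a b} ha hb => ⟨mul_mem ha.1 hb.1, by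
           rw [mul_assoc, ← mul_assoc b, ← hab a ha.1 b hb.1, mul_assoc a b b, hb.2, mul_one, ha.2]⟩
         inv_mem' := fun {a} ha => ⟨inv_mem ha.1, by rw [← mul_inv_rev, ha.2, inv_one]⟩ }, fun q => Iff.rfl⟩
    have hΩN : y ∈ normalizer (Ω : Set G) := mem_normalizer_fintype fun q hq => (hΩ _).2
      ⟨(mem_normalizer_iff.1 hyN q).1 ((hΩ q).1 hq).1, by rw [conj_mul, ((hΩ q).1 hq).2, mul_one, mul_inv_cancel]⟩
    have hΩU : Ω ≤ U := fun q hq => ((hΩ q).1 hq).1
    have h0 : Nat.card ↥(Ω ⊓ centralizer ({y} : Set G)) = 1 := by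
      have h1 := card_le_of_le (inf_le_inf_right (centralizer ({y} : Set G)) hΩU)
      rw [hj] at h1
      exact le_antisymm h1 Nat.card_pos
    have h2 := cong hyk hΩN
    rw [h0] at h2
    obtain ⟨e, he⟩ := card_two_pow (hΩU.trans hU.le)
    rw [he] at h2
    have he4 : e ≤ 4 := by
      by_contra h4
      have := card_le_of_le hΩU
      rw [he, hs.cardU] at this
      have := Nat.pow_le_pow_right (show 0 < 2 by norm_num) (show 5 ≤ e by omega)
      omega
    have he1 : e ≠ 0 := fun e0 => by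
      have : Ω = ⊥ := card_eq_one.1 (by rw [he, e0, pow_zero])
      exact hz.ne (mem_bot.1 (this ▸ (hΩ z).2 ⟨hU.z_mem hz, hz.sq⟩))
    have : e = 4 := by
      interval_cases e <;> first | omega | exact absurd h2 (by decide) | rfl
    subst this
    intro v hv
    exact ((hΩ v).1 ((eq_of_le_of_card_ge hΩU (by rw [he, hs.cardU])).ge hv)).2
  obtain ⟨x, hxS, hxT, hxN, hle, hne', hTU⟩ := hU.exists_x h hz
  obtain ⟨U', hU'⟩ : ∃ U', U' = U.map (MulAut.conj x).toMonoidHom := ⟨_, rfl⟩
  rw [← hU'] at hle hne' hTU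
  have hab' : Ab U' := by
    rw [hU']
    rintro _ ⟨a, ha, rfl⟩ _ ⟨c, hc, rfl⟩
    exact (show Commute a c from hab a ha c hc).map (MulAut.conj x).toMonoidHom
  have hnorm : U' ≤ normalizer (U : Set G) := hle.trans inf_le_right
  have hsup := Grp.card_sup_mul_card_inf hnorm
  rw [show Nat.card U' = 2 ^ 4 from hU' ▸ card_conj.trans hs.cardU, hs.cardU] at hsup
  have hsupT : U' ⊔ U ≤ nS S U := sup_le hle hU.le_nS
  have hI : U' ⊓ U < U' := lt_of_le_of_ne inf_le_left fun e =>
    hne' (eq_of_le_of_card_ge (inf_eq_left.1 e) (by rw [hU', card_conj]))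
  have hIS : U' ≤ (S : Subgroup G) := hle.trans inf_le_left
  have hI2 := double_le (S := S) hIS hI
  rw [show Nat.card U' = 2 ^ 4 from hU' ▸ card_conj.trans hs.cardU] at hI2
  have hT64 := card_le_of_le hsupT
  rw [hs.cardT, ha] at hT64
  obtain ⟨i, hi⟩ := card_two_pow (H := U' ⊓ U) (inf_le_left.trans hIS)
  have hi3 : i = 2 ∨ i = 3 := by
    rw [hi] at hsup hI2
    have : i ≤ 3 := by
      by_contra h4
      have := Nat.pow_le_pow_right (show 0 < 2 by norm_num) (show 4 ≤ i by omega)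
      omega
    interval_cases i <;> norm_num at hsup hI2 ⊢ <;> omega
  rcases hi3 with rfl | rfl
  · -- the image of `U'` would be elementary and cyclic
    have hT : U' ⊔ U = nS S U := eq_of_le_of_card_ge hsupT (by
      rw [hs.cardT, ha]
      rw [hi] at hsup
      omega)
    have hsq : ∀ b ∈ U', b * b ∈ U := by
      intro b hb
      refine hU.cent (mem_centralizer_iff.2 fun v hv => ?_)
      obtain ⟨c, hc⟩ : ∃ c, c = b * v * b⁻¹ * v⁻¹ := ⟨_, rfl⟩
      have hcU : c ∈ U := hc ▸ mul_mem ((mem_normalizer_iff.1 (hnorm hb) v).1 hv) (inv_mem hv)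
      have hcU' : c ∈ U' := by
        have := mul_mem hb (hTU v (hU.le_nS hv) _ (inv_mem hb))
        rw [hc]
        simpa [mul_assoc] using this
      have hbc : b * c * b⁻¹ = c := mul_inv_eq_iff_eq_mul.2 (hab' b hb c hcU')
      have : b * b * v * (b * b)⁻¹ = v := by
        calc b * b * v * (b * b)⁻¹ = b * ((b * v * b⁻¹ * v⁻¹) * v) * b⁻¹ := by group
          _ = (b * c * b⁻¹) * (b * v * b⁻¹) := by rw [← hc]; group
          _ = c * (c * v) := by rw [hbc, hc]; group
          _ = v := by rw [← mul_assoc, helem c hcU, one_mul]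
      exact (mul_inv_eq_iff_eq_mul.1 this).symm
    obtain ⟨g, hg⟩ := hcyc.exists_generator
    obtain ⟨r, hr⟩ : ∃ r : N ⧸ U.subgroupOf N, r ∈ R ∧ r * r ≠ 1 := by
      refine ⟨g, g.2, fun e => ?_⟩
      have h1 : orderOf g = 4 := by
        rw [orderOf_eq_card_of_forall_mem_zpowers hg, hRc, hc]; norm_num
      have h2 : g * g = 1 := Subtype.ext e
      have h3 := orderOf_dvd_of_pow_eq_one (show g ^ 2 = 1 by rw [sq, h2])
      rw [h1] at h3
      norm_num at h3
    obtain ⟨hrR, hrr⟩ := hr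
    rw [hR] at hrR
    obtain ⟨t, ht, rfl⟩ := hrR
    have htT : (t : G) ∈ ((U' ⊔ U : Subgroup G) : Set G) := hT.ge (mem_subgroupOf.1 ht)
    rw [coe_mul_of_left_le_normalizer_right _ _ hnorm] at htT
    obtain ⟨b, hb, v, hv, hbv⟩ := htT
    refine hrr ?_
    rw [← map_mul]
    refine (QuotientGroup.eq_one_iff _).2 (mem_subgroupOf.2 ?_)
    rw [coe_mul, ← hbv]
    show b * v * (b * v) ∈ U
    rw [show b * v * (b * v) = (b * v * b⁻¹) * (b * b) * v by group]
    exact mul_mem (mul_mem ((mem_normalizer_iff.1 (hnorm hb) v).1 hv) (hsq b hb)) hv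
  · -- an element of `U' - U` centralises a hyperplane
    obtain ⟨b, hb, hbI⟩ := SetLike.exists_of_lt hI
    have hbU : b ∉ U := fun e => hbI ⟨hb, e⟩
    have hbb : b * b ∈ U :=
      (rel_sq (rel_two (H := U' ⊓ U) inf_le_left (by
        rw [hi, show Nat.card U' = 2 ^ 4 from hU' ▸ card_conj.trans hs.cardU]; norm_num)) hb).2
    have hH : Nat.card U ≤ 2 * Nat.card ↥(U ⊓ centralizer ({b} : Set G)) := by
      have := card_le_of_le (show U' ⊓ U ≤ U ⊓ centralizer ({b} : Set G) from fun g hg =>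
        ⟨hg.2, mem_centralizer_singleton_iff.2 (hab' g hg.1 b hb)⟩)
      rw [hi] at this
      rw [hs.cardU]
      omega
    have hbN : b ∈ N := hnorm hb
    obtain ⟨f, hf⟩ := hpair (π ⟨b, hbN⟩) (hR ▸ mem_map_of_mem π (mem_subgroupOf.2 (hle hb)))
      (by rw [← map_mul]; exact (QuotientGroup.eq_one_iff _).2 hbb)
      (fun e => hbU ((QuotientGroup.eq_one_iff (⟨b, hbN⟩ : N)).1 e))
    obtain ⟨g, rfl⟩ := QuotientGroup.mk'_surjective _ f
    obtain ⟨y3, hy3N, -, -, -, ⟨d⟩⟩ := exists_split_of_pair hU.pgroup hU.cent (hU.z_mem hz) (hU.z_comm hz) hz.sq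
      (fun g hg e => h.fix_z hz hg e) hbN g.2 hbb (H0 := U ⊓ centralizer ({b} : Set G)) inf_le_left
      (hU.hyper_exact hbU hH) (fun c hc => (mem_centralizer_singleton_iff.1 hc.2).symm) (by
        rintro ⟨e, he⟩
        have h1 : (π ⟨b, hbN⟩ * (π g * π ⟨b, hbN⟩ * (π g)⁻¹)) ^ 2 ^ e = 1 := by
          simp only [← map_inv, ← map_mul, ← map_pow]
          exact (QuotientGroup.eq_one_iff _).2 (mem_subgroupOf.2 he)
        have h2 := orderOf_dvd_of_pow_eq_one h1
        rw [hf] at h2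
        have h3 := (Nat.prime_dvd_prime_iff_eq (by norm_num) Nat.prime_two).1
          (Nat.Prime.dvd_of_dvd_pow (show Nat.Prime 5 by norm_num) h2)
        omega)
    have h1 : orderOf y3 ∣ Nat.card N := orderOf_dvd_natCard N hy3N
    rw [d.y_three, hs.cardN, ha] at h1
    norm_num at h1

end Cfsg.Agent.Fus.LenEight
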