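import Cfsg.Agent.Lib.Fus.LengthEight.EssData

/-!
# Consequences of the structure of essential subgroups (for S3250)
-/

set_option autoImplicit false
set_option linter.style.haveILetI false

namespace Cfsg.Agent.Fus.LenEight

open Subgroup

universe u

variable {G : Type u} [Group G] [Finite G] {S : Sylow 2 G}

theorem Data.iU {U : Subgroup G} (hU : Ess S U) (d : Data S U) : U.relIndex (nS S U) = 2 :=
  rel_two hU.le_nS d.card_T

theorem Data.cases_T {U : Subgroup G} (hU : Ess S U) (d : Data S U) {t : G} (ht : t ∈ nS S U) :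
    t ∈ U ∨ d.b⁻¹ * t ∈ U := by
  by_cases htU : t ∈ U
  · exact Or.inl htU
  · exact Or.inr ((rel_mul (d.iU hU) (inv_mem d.b_mem) ht).2 (iff_of_false (fun e => d.b_notU (inv_mem_iff.1 e)) htU))

theorem Data.bv_ne {U : Subgroup G} (d : Data S U) : d.b * d.split.v ≠ d.split.v * d.b := fun e => by
  have h1 := d.split.b_v
  rw [e, mul_inv_cancel_right] at h1
  exact d.split.w_ne (left_eq_mul.1 h1)

theorem Data.v_memS {U : Subgroup G} (hU : Ess S U) (d : Data S U) : d.split.v ∈ (S : Subgroup G) :=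
  hU.le d.split.v_mem

/-- The centraliser of `v` in `S` is `U`. -/
theorem Data.cent_v {U : Subgroup G} (hU : Ess S U) (d : Data S U) :
    (S : Subgroup G) ⊓ centralizer ({d.split.v} : Set G) = U := by
  refine (eq_of_le_of_not_lt ?_ fun hlt => ?_).symm
  · exact le_inf hU.le fun x hx => mem_centralizer_singleton_iff.2 (d.split.v_central x hx)
  obtain ⟨x, hx, hxU, hxN⟩ := exists_normalizing (S := S) inf_le_left hlt
  have hm := (d.cases_T hU ⟨hx.1, hxN⟩).resolve_left hxU
  refine d.bv_ne ?_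
  have h1 : Commute x d.split.v := mem_centralizer_singleton_iff.1 hx.2
  have h2 : Commute (d.b⁻¹ * x) d.split.v := d.split.v_central _ hm
  have := h1.mul_left h2.inv_left
  rw [mul_inv_rev, inv_inv, mul_inv_cancel_left] at this
  exact this.eq

variable (h : Hyp G S) {z : G} (hz : Cen S z) {U : Subgroup G} (hU : Ess S U) (d : Data S U)
include h hz hU d

theorem Data.C_central {c : G} (hc : c ∈ d.split.C) (hcS : ∀ x ∈ (S : Subgroup G), x * c = c * x) : c = 1 := by
  by_contra hc1
  have h1 : d.y ∈ centralizer ({c} : Set G) := mem_centralizer_singleton_iff.2 ((d.split.mem_C c).1 hc).2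
  rw [h.centralizer_eq hc1 hcS] at h1
  exact not_mem_of_odd S.isPGroup' (d.split.y_three ▸ (by decide)) (fun e => by
    have := d.split.y_three; rw [e, orderOf_one] at this; omega) h1

omit hz in
include hz in
theorem Data.no_square {q : G} (hq : q ∈ U) : q * q ≠ z := fun e =>
  hz.ne (d.C_central h hz hU (e ▸ d.split.sq_mem q hq) hz.comm)

theorem Data.central_eq {q : G} (hq : ∀ x ∈ (S : Subgroup G), x * q = q * x) (hq1 : q ≠ 1) : q = z := by
  have key : ∀ r : G, (∀ x ∈ (S : Subgroup G), x * r = r * x) → r ≠ 1 → ∃ c ∈ d.split.C, r = c * d.split.w := by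
    intro r hr hr1
    obtain ⟨c, hc, hcases⟩ := d.split.decomp r (hU.center_le hr)
    have hb : d.b * r = r * d.b := hr d.b d.b_mem.1
    have hbc : d.b * c = c * d.b := d.split.b_C c hc
    have hbe : ∀ e, r = c * e → d.b * e * d.b⁻¹ = e := fun e he => by
      rw [he] at hb
      have h1 : c * (d.b * e) = c * (e * d.b) := by rw [← mul_assoc, ← hbc, mul_assoc, hb, mul_assoc]
      rw [mul_left_cancel h1, mul_inv_cancel_right]
    rcases hcases with e | e | e | e
    · exact absurd (d.C_central h hz hU (e ▸ hc) hr) hr1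
    · exact ⟨c, hc, e⟩
    · exfalso
      have := hbe _ e
      rw [d.split.b_v] at this
      exact d.split.w_ne (mul_eq_left.1 this)
    · exfalso
      have := hbe _ e
      rw [← conj_mul, d.split.b_v, (show d.b * d.split.w * d.b⁻¹ = d.split.w by
        rw [d.split.b_w, mul_inv_cancel_right]), mul_assoc, d.split.w_sq, mul_one] at this
      exact d.split.w_ne (left_eq_mul.1 this)
  obtain ⟨c, hc, e⟩ := key q hq hq1
  obtain ⟨c0, hc0, e0⟩ := key z hz.comm hz.ne
  have hm : q * z⁻¹ ∈ d.split.C := by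
    rw [e, e0, mul_inv_rev, ← mul_assoc, mul_inv_cancel_right]
    exact mul_mem hc (inv_mem hc0)
  have hcen : ∀ x ∈ (S : Subgroup G), x * (q * z⁻¹) = q * z⁻¹ * x := fun x hx =>
    ((show Commute x q from hq x hx).mul_right (show Commute x z from hz.comm x hx).inv_right).eq
  exact mul_inv_eq_one.1 (d.C_central h hz hU hm hcen)

/-- The parity of a subgroup of index two containing `v` is invariant under `N`. -/
theorem Data.parity {M : Subgroup G} (hi : M.relIndex (S : Subgroup G) = 2) (hv : d.split.v ∈ M) :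
    ∀ n ∈ normalizer (U : Set G), ∀ x ∈ U, (n * x * n⁻¹ ∈ M ↔ x ∈ M) := by
  have hvS := d.v_memS hU
  have hvw : d.split.v * d.split.w ∈ M := by
    rw [← d.split.b_v]; exact (half_conj hi hvS d.b_mem.1).2 hv
  have hwM : d.split.w ∈ M := by simpa using mul_mem (inv_mem hv) hvw
  obtain ⟨K, hK⟩ : ∃ K : Subgroup G, ∀ n, n ∈ K ↔
      n ∈ normalizer (U : Set G) ∧ ∀ x ∈ U, (n * x * n⁻¹ ∈ M ↔ x ∈ M) :=
    ⟨{ carrier := {n | n ∈ normalizer (U : Set G) ∧ ∀ x ∈ U, (n * x * n⁻¹ ∈ M ↔ x ∈ M)}
       one_mem' := ⟨one_mem _, fun x _ => by simp⟩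
       mul_mem' := fun {a c} ha hc => ⟨mul_mem ha.1 hc.1, fun x hx => by
         rw [show a * c * x * (a * c)⁻¹ = a * (c * x * c⁻¹) * a⁻¹ by group,
           ha.2 _ ((mem_normalizer_iff.1 hc.1 x).1 hx), hc.2 x hx]⟩
       inv_mem' := fun {a} ha => ⟨inv_mem ha.1, fun x hx => by
         have := ha.2 _ ((mem_normalizer_iff.1 (inv_mem ha.1) x).1 hx)
         rw [show a * (a⁻¹ * x * a⁻¹⁻¹) * a⁻¹ = x by group] at this
         exact this.symm⟩ }, fun n => Iff.rfl⟩
  intro n hn
  refine ((hK n).1 (d.gen K (fun t ht => (hK t).2 ⟨ht.2, fun x hx => half_conj hi (hU.le hx) ht.1⟩) ?_ hn)).2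
  refine (hK _).2 ⟨d.y_mem, fun x hx => ?_⟩
  obtain ⟨c, hc, hcases⟩ := d.split.decomp x hx
  have hcy : d.y * c * d.y⁻¹ = c := mul_inv_eq_iff_eq_mul.2 ((d.split.mem_C c).1 hc).2
  rcases hcases with rfl | rfl | rfl | rfl
  · rw [hcy]
  · rw [← conj_mul, hcy, d.split.y_w, mul_mem_cancel_right hv, mul_mem_cancel_right hwM]
  · rw [← conj_mul, hcy, d.split.y_v, mul_mem_cancel_right hvw, mul_mem_cancel_right hv]
  · rw [← conj_mul, hcy, d.split.y_vw, mul_mem_cancel_right hwM, mul_mem_cancel_right hvw]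

omit hU d

/-- Transfer: every subgroup of index two avoids some `v`. -/
theorem Hyp.exists_v {M : Subgroup G} (hi : M.relIndex (S : Subgroup G) = 2) :
    ∃ (U : Subgroup G) (hU : Ess S U) (d : Data S U), d.split.v ∉ M := by
  obtain ⟨U, hU, x, hx, n, hn, hne⟩ := h.exists_moving hi
  obtain ⟨d⟩ := hU.data h hz
  exact ⟨U, hU, d, fun hv => hne (d.parity h hz hU hi hv n hn x hx)⟩

/-- A subgroup of index two contains the commutators. -/
theorem commutator_le_half {M : Subgroup G} (hi : M.relIndex (S : Subgroup G) = 2) :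
    ⁅(S : Subgroup G), (S : Subgroup G)⁆ ≤ M :=
  commutator_le.2 fun a ha c hc => by
    rw [commutatorElement_def, half_mul hi (mul_mem (mul_mem ha hc) (inv_mem ha)) (inv_mem hc),
      half_conj hi hc ha, inv_mem_iff]

end Cfsg.Agent.Fus.LenEight
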