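import Cfsg.Agent.Lib.Fus.LengthEight.Facts

/-!
# Essential subgroups have order at most sixteen (for S3250)
-/

set_option autoImplicit false
set_option linter.style.haveILetI false

namespace Cfsg.Agent.Fus.LenEight

open Subgroup
open scoped Pointwise

universe u

variable {G : Type u} [Group G] [Finite G] {S : Sylow 2 G} (h : Hyp G S) {z : G} (hz : Cen S z)
include h hz

theorem Hyp.ess_small {U : Subgroup G} (hU : Ess S U) : Nat.card U ≤ 16 ∧ Ab U := by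
  obtain ⟨u, a, k, hs⟩ := hU.sizes h hz
  by_cases hu : u ≤ 4
  · refine ⟨?_, hU.ab_small h hz hs hu⟩
    have := Nat.pow_le_pow_right (show 0 < 2 by norm_num) hu
    rw [hs.cardU]; omega
  exfalso
  obtain ⟨d⟩ := hU.data h hz
  have ha : a = 6 := by have := hs.lt; have := hs.le6; omega
  have hu5 : u = 5 := by have := hs.lt; omega
  obtain ⟨T, hT⟩ : ∃ T, T = nS S U := ⟨_, rfl⟩
  have hTS : T ≤ (S : Subgroup G) := hT ▸ inf_le_left
  have hcT : Nat.card T = 2 ^ 6 := by rw [hT, hs.cardT, ha]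
  have hiT : T.relIndex (S : Subgroup G) = 2 := rel_two hTS (by rw [hcT, h.card]; norm_num)
  obtain ⟨U2, hU2, d2, hv⟩ := h.exists_v hz hiT
  obtain ⟨v, hvd⟩ : ∃ v, v = d2.split.v := ⟨_, rfl⟩
  have hvS : v ∈ (S : Subgroup G) := hvd ▸ d2.v_memS hU2
  rw [← hvd] at hv
  have hvv : v * v = 1 := hvd ▸ d2.split.v_sq
  have hvi : v⁻¹ = v := inv_eq_of_mul_eq_one_right hvv
  obtain ⟨C, hC⟩ : ∃ C, C = d.split.C := ⟨_, rfl⟩
  have hCU : C ≤ U := hC ▸ d.split.C_le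
  have hCT : C ≤ T := hT ▸ hCU.trans hU.le_nS
  have hcC : Nat.card C = 8 := by
    have := d.split.card
    rw [hs.cardU, hu5, ← hC] at this
    omega
  have hTC : ∀ t ∈ T, ∀ c ∈ C, t * c * t⁻¹ ∈ C := by
    intro t ht c hc
    rw [hC] at hc ⊢
    rw [hT] at ht
    rcases d.cases_T hU ht with e | e
    · exact d.split.normal_C t e c hc
    · have h1 := d.split.normal_C _ e c hc
      rw [show t * c * t⁻¹ = d.b * (d.b⁻¹ * t * c * (d.b⁻¹ * t)⁻¹) * d.b⁻¹ by group,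
        d.split.b_C _ h1, mul_inv_cancel_right]
      exact h1
  obtain ⟨C', hC'⟩ : ∃ C', C' = C.map (MulAut.conj v).toMonoidHom := ⟨_, rfl⟩
  have memC' : ∀ g, g ∈ C' ↔ v⁻¹ * g * v ∈ C := fun g => hC' ▸ mem_conj
  have hvT : ∀ t ∈ T, v * t * v⁻¹ ∈ T := fun t ht => (half_conj hiT (hTS ht) hvS).2 ht
  have hC'T : C' ≤ T := by
    rw [hC']; rintro _ ⟨c, hc, rfl⟩; exact hvT c (hCT hc)
  have hTC' : ∀ t ∈ T, ∀ c ∈ C', t * c * t⁻¹ ∈ C' := fun t ht c hc => by
    have hvt : v⁻¹ * t * v ∈ T := by have := hvT t ht; rwa [hvi] at this ⊢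
    have := hTC _ hvt _ ((memC' c).1 hc)
    rw [memC']
    simpa [mul_assoc] using this
  have hbot : C ⊓ C' = ⊥ := by
    by_contra hne
    obtain ⟨D, hD⟩ : ∃ D, D = C ⊓ C' := ⟨_, rfl⟩
    rw [← hD] at hne
    have hDS : D ≤ (S : Subgroup G) := hD ▸ inf_le_left.trans (hCT.trans hTS)
    have hvD : v ∈ normalizer (D : Set G) := mem_normalizer_fintype fun q hq => by
      rw [hD] at hq ⊢
      refine ⟨?_, (memC' _).2 (by simpa [mul_assoc] using hq.1)⟩
      have := (memC' q).1 hq.2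
      rwa [hvi] at this ⊢
    have hTD : T ≤ normalizer (D : Set G) := fun t ht => mem_normalizer_fintype fun q hq => by
      rw [hD] at hq ⊢
      exact ⟨hTC t ht q hq.1, hTC' t ht q hq.2⟩
    have hSD : (S : Subgroup G) ≤ normalizer (D : Set G) := fun s hs => by
      by_cases hsT : s ∈ T
      · exact hTD hsT
      · have : v * s ∈ T := (half_mul hiT hvS hs).2 (iff_of_false hv hsT)
        simpa [← mul_assoc, hvv] using mul_mem hvD (hTD this)
    haveI : (D.subgroupOf (S : Subgroup G)).Normal := normal_subgroupOf_of_le_normalizer hSD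
    haveI : Fact (Nat.Prime 2) := ⟨Nat.prime_two⟩
    haveI := S.isPGroup'.isNilpotent
    have h1 : D.subgroupOf (S : Subgroup G) ≠ ⊥ := fun e => hne (by
      rw [subgroupOf_eq_bot] at e
      exact disjoint_self.1 (e.mono_right hDS))
    obtain ⟨⟨⟨q, hqS⟩, hq⟩, hq1⟩ := ne_bot_iff_exists_ne_one.1 (Grp.inf_center_ne_bot (D.subgroupOf (S : Subgroup G)) h1)
    refine hq1 (Subtype.ext (Subtype.ext ?_))
    exact d.C_central h hz hU (hC ▸ (hD ▸ mem_subgroupOf.1 hq.1 : q ∈ C ⊓ C').1)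
      (fun x hx => congrArg Subtype.val (mem_center_iff.1 hq.2 ⟨x, hx⟩))
  have hcomm : ∀ c ∈ C, ∀ c' ∈ C', c * c' = c' * c := fun c hc c' hc' => by
    have hm : c * c' * c⁻¹ * c'⁻¹ ∈ C ⊓ C' := ⟨by
      rw [mul_assoc, mul_assoc]; exact C.mul_mem hc (by simpa [mul_assoc] using hTC c' (hC'T hc') _ (C.inv_mem hc)),
      C'.mul_mem (hTC' c (hCT hc) c' hc') (C'.inv_mem hc')⟩
    rw [hbot, mem_bot] at hm
    exact mul_inv_eq_iff_eq_mul.1 (mul_inv_eq_one.1 hm)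
  have hnorm : C' ≤ normalizer (C : Set G) := fun c' hc' => mem_normalizer_fintype fun q hq => hTC c' (hC'T hc') q hq
  have hsup : C' ⊔ C = T := by
    refine eq_of_le_of_card_ge (sup_le hC'T hCT) ?_
    have := Grp.card_sup_mul_card_inf hnorm
    rw [inf_comm, hbot, card_bot, mul_one, hC', card_conj, hcC] at this
    rw [hcT, hC', this]; norm_num
  -- `C` is not commutative
  obtain ⟨c1, hc1, c2, hc2, hne⟩ : ∃ a ∈ C, ∃ c ∈ C, a * c ≠ c * a := by
    by_contra! hab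
    have key : ∀ q ∈ T, ∀ c ∈ C, c * q = q * c := fun q hq c hc => by
      have hq' : q ∈ ((C' ⊔ C : Subgroup G) : Set G) := hsup.ge hq
      rw [coe_mul_of_left_le_normalizer_right _ _ hnorm] at hq'
      obtain ⟨c', hc', c0, hc0, rfl⟩ := hq'
      exact ((show Commute c c' from hcomm c hc c' hc').mul_right (hab c hc c0 hc0)).eq
    have hvb : Commute d.b d.split.v := by
      have hm1 : d.split.v ∈ ((C' ⊔ C : Subgroup G) : Set G) := hsup.ge (hT ▸ hU.le_nS d.split.v_mem)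
      have hm2 : d.b ∈ ((C' ⊔ C : Subgroup G) : Set G) := hsup.ge (hT ▸ d.b_mem)
      rw [coe_mul_of_left_le_normalizer_right _ _ hnorm] at hm1 hm2
      obtain ⟨x1, hx1, y1, hy1, e1⟩ := hm1
      obtain ⟨x2, hx2, y2, hy2, e2⟩ := hm2
      have h1 : Commute x2 x1 := by
        have hh := (show Commute (v⁻¹ * x2 * v) (v⁻¹ * x1 * v) from
          hab _ ((memC' x2).1 hx2) _ ((memC' x1).1 hx1)).map (MulAut.conj v).toMonoidHom
        simpa [mul_assoc] using hh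
      have h2 : Commute x2 y1 := (hcomm y1 hy1 x2 hx2).symm
      have h3 : Commute y2 x1 := hcomm y2 hy2 x1 hx1
      rw [← e1, ← e2]
      exact (h1.mul_right h2).mul_left (h3.mul_right (hab y2 hy2 y1 hy1))
    exact d.bv_ne hvb.eq
  -- the diagonal
  have hdiag : ∀ c ∈ C, c * (v * c * v⁻¹) ∈ U2 := fun c hc => by
    rw [← d2.cent_v hU2, ← hvd]
    refine ⟨mul_mem (hTS (hCT hc)) (hTS (hvT c (hCT hc))), mem_centralizer_singleton_iff.2 ?_⟩
    have hm : v * c * v⁻¹ ∈ C' := hC' ▸ ⟨c, hc, rfl⟩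
    rw [hcomm c hc _ hm]
    simp only [hvi, mul_assoc, ← hcomm c hc _ hm]
    rw [show v * (c * (v * (c * v))) = v * (c * (v * c * v)) by group]
    have e : c * (v * c * v) = v * c * v * c := by have := hcomm c hc _ hm; rwa [hvi] at this
    rw [e]
    simp only [← mul_assoc, hvv, one_mul]
  obtain ⟨u2, a2, k2, hs2⟩ := hU2.sizes h hz
  have hu2 : u2 = 5 := by
    by_contra hne5
    have hab := hU2.ab_small h hz hs2 (by have := hs2.lt; have := hs2.le6; omega)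
    refine hne ?_
    have e := hab _ (hdiag c1 hc1) _ (hdiag c2 hc2)
    have hm1 : v * c1 * v⁻¹ ∈ C' := hC' ▸ ⟨c1, hc1, rfl⟩
    have hm2 : v * c2 * v⁻¹ ∈ C' := hC' ▸ ⟨c2, hc2, rfl⟩
    have e1 : c1 * (v * c1 * v⁻¹) * (c2 * (v * c2 * v⁻¹)) = (c1 * c2) * (v * c1 * v⁻¹ * (v * c2 * v⁻¹)) := by
      rw [mul_assoc, ← mul_assoc (v * c1 * v⁻¹), ← hcomm c2 hc2 _ hm1]; group
    have e2 : c2 * (v * c2 * v⁻¹) * (c1 * (v * c1 * v⁻¹)) = (c2 * c1) * (v * c2 * v⁻¹ * (v * c1 * v⁻¹)) := by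
      rw [mul_assoc, ← mul_assoc (v * c2 * v⁻¹), ← hcomm c1 hc1 _ hm2]; group
    rw [e1, e2] at e
    have hmem : (c2 * c1)⁻¹ * (c1 * c2) ∈ C ⊓ C' := by
      refine ⟨C.mul_mem (C.inv_mem (C.mul_mem hc2 hc1)) (C.mul_mem hc1 hc2), show _ ∈ C' from ?_⟩
      have : (c2 * c1)⁻¹ * (c1 * c2) = (v * c2 * v⁻¹ * (v * c1 * v⁻¹)) * (v * c1 * v⁻¹ * (v * c2 * v⁻¹))⁻¹ := by
        rw [eq_mul_inv_iff_mul_eq, mul_assoc, e, inv_mul_cancel_left]
      rw [this]
      exact mul_mem (mul_mem hm2 hm1) (inv_mem (mul_mem hm1 hm2))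
    rw [hbot, mem_bot, inv_mul_eq_one] at hmem
    exact hmem.symm
  have hcU2 : Nat.card U2 = 32 := by rw [hs2.cardU, hu2]; norm_num
  -- the fixed points of `v` in `T`
  have hfix : ∀ t ∈ U2 ⊓ T, ∃ c ∈ C, t = c * (v * c * v⁻¹) := by
    intro t ht
    have ht2 : t ∈ ((C' ⊔ C : Subgroup G) : Set G) := hsup.ge ht.2
    rw [coe_mul_of_left_le_normalizer_right _ _ hnorm] at ht2
    obtain ⟨c', hc', c, hc, rfl⟩ := ht2
    have ht1 : c' * c ∈ (S : Subgroup G) ⊓ centralizer ({v} : Set G) := by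
      rw [hvd, d2.cent_v hU2]; exact ht.1
    have e : v * (c' * c) * v⁻¹ = c' * c := mul_inv_eq_iff_eq_mul.2 (mem_centralizer_singleton_iff.1 ht1.2).symm
    have hm : v * c * v⁻¹ ∈ C' := hC' ▸ ⟨c, hc, rfl⟩
    have hm' : v * c' * v⁻¹ ∈ C := by have := (memC' c').1 hc'; rwa [hvi] at this ⊢
    have hmem : c * (v * c' * v⁻¹)⁻¹ ∈ C ⊓ C' := by
      refine ⟨C.mul_mem hc (C.inv_mem hm'), show _ ∈ C' from ?_⟩
      have e3 : c' * c = (v * c' * v⁻¹) * (v * c * v⁻¹) := by rw [conj_mul, e]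
      rw [hcomm _ hm' _ hm] at e3
      have : c * (v * c' * v⁻¹)⁻¹ = c'⁻¹ * (v * c * v⁻¹) := by
        rw [mul_inv_eq_iff_eq_mul, mul_assoc, ← e3, inv_mul_cancel_left]
      rw [this]
      exact mul_mem (inv_mem hc') hm
    rw [hbot, mem_bot, mul_inv_eq_one] at hmem
    refine ⟨c, hc, ?_⟩
    have hc'e : c' = v * c * v⁻¹ := by rw [hmem, hvi]; simp only [← mul_assoc, hvv, one_mul]; rw [mul_assoc, hvv, mul_one]
    show c' * c = _
    rw [hc'e, hcomm c hc _ hm]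
  have hle : Nat.card ↥(U2 ⊓ T) ≤ 8 := by
    let f : C → G := fun c => c * (v * (c : G) * v⁻¹)
    have hsub : ((U2 ⊓ T : Subgroup G) : Set G) ⊆ Set.range f := fun t ht => by
      obtain ⟨c, hc, rfl⟩ := hfix t ht
      exact ⟨⟨c, hc⟩, rfl⟩
    rw [show Nat.card ↥(U2 ⊓ T) = ((U2 ⊓ T : Subgroup G) : Set G).ncard from Nat.card_coe_set_eq _]
    refine (Set.ncard_le_ncard hsub (Set.finite_range f)).trans ?_
    rw [← hcC, ← Nat.card_coe_set_eq (Set.range f)]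
    exact Finite.card_range_le f
  have hn : U2 ≤ normalizer (T : Set G) := fun q hq => mem_normalizer_fintype fun t ht =>
    (half_conj hiT (hTS ht) (hU2.le hq)).2 ht
  have h3 := Grp.card_sup_mul_card_inf hn
  have h4 := card_le_of_le (sup_le hU2.le hTS : U2 ⊔ T ≤ (S : Subgroup G))
  rw [h.card] at h4
  rw [hcU2, hcT] at h3
  nlinarith

end Cfsg.Agent.Fus.LenEight
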