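import Cfsg.Agent.Lib.Fus.LengthEight.Basic
import Cfsg.Agent.Lib.Grp.Cores
import Cfsg.Agent.S0080
import Cfsg.Agent.S3072

/-!
# Essential subgroups and the transfer step (for S3250)
-/

set_option autoImplicit false
set_option linter.style.haveILetI false

namespace Cfsg.Agent.Fus.LenEight

open Subgroup
open scoped commutatorElement

universe u

variable {G : Type u} [Group G] [Finite G] {S : Sylow 2 G}

/-- A self-centralising tame intersection whose normalizer is not a 2-group. -/
structure Ess (S : Sylow 2 G) (U : Subgroup G) : Prop where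
  le : U ≤ (S : Subgroup G)
  non : ¬ normalizer (U : Set G) ≤ (S : Subgroup G)
  cent : centralizer (U : Set G) ≤ U
  syl : ¬ 2 ∣ ((S : Subgroup G) ⊓ normalizer (U : Set G)).relIndex (normalizer (U : Set G))
  core : ∀ K : Subgroup G, K ≤ normalizer (U : Set G) → IsPGroup 2 K →
    (∀ n ∈ normalizer (U : Set G), ∀ k ∈ K, n * k * n⁻¹ ∈ K) → K ≤ U

/-- Membership in a subgroup of index two is a parity. -/
theorem half_mul {M : Subgroup G} (hi : M.relIndex (S : Subgroup G) = 2) {a b : G} (ha : a ∈ (S : Subgroup G))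
    (hb : b ∈ (S : Subgroup G)) : a * b ∈ M ↔ (a ∈ M ↔ b ∈ M) := by
  simpa [mem_subgroupOf] using mul_mem_iff_of_index_two (H := M.subgroupOf (S : Subgroup G)) hi
    (a := ⟨a, ha⟩) (b := ⟨b, hb⟩)

theorem half_conj {M : Subgroup G} (hi : M.relIndex (S : Subgroup G) = 2) {a x : G} (ha : a ∈ (S : Subgroup G))
    (hx : x ∈ (S : Subgroup G)) : x * a * x⁻¹ ∈ M ↔ a ∈ M := by
  rw [half_mul hi (mul_mem hx ha) (inv_mem hx), half_mul hi hx ha, inv_mem_iff]
  tauto

theorem half_sq {M : Subgroup G} (hi : M.relIndex (S : Subgroup G) = 2) {a : G} (ha : a ∈ (S : Subgroup G)) :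
    a * a ∈ M := (half_mul hi ha ha).2 Iff.rfl

/-- Transfer: some essential subgroup moves an element across a given subgroup of index two. -/
theorem Hyp.exists_moving (h : Hyp G S) {M : Subgroup G} (hi : M.relIndex (S : Subgroup G) = 2) :
    ∃ U, Ess S U ∧ ∃ x ∈ U, ∃ n ∈ normalizer (U : Set G), ¬ (n * x * n⁻¹ ∈ M ↔ x ∈ M) := by
  haveI : Fact (Nat.Prime 2) := ⟨Nat.prime_two⟩
  haveI := h.simple
  by_contra! hno
  obtain ⟨z, hzS, hz1, -, hzc⟩ := exists_central (S := S) h.card
  have hCz := h.centralizer_eq hz1 hzc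
  -- conjugation preserves the parity
  have key : ∀ a ∈ (S : Subgroup G), a ≠ 1 → ∀ u : G, u * a * u⁻¹ ∈ (S : Subgroup G) →
      (u * a * u⁻¹ ∈ M ↔ a ∈ M) := by
    intro a ha ha1 u hu
    obtain ⟨n, H, X, x, c, y, hc, hy, hg, hdata⟩ := S3072.result S {a} (Set.singleton_subset_iff.2 ha)
      ⟨a, rfl, ha1⟩ u⁻¹ (by rintro _ ⟨b, hb, rfl⟩; rw [Set.mem_singleton_iff.1 hb, inv_inv]; exact hu)
    set q : ℕ → G := fun i => (((List.ofFn x).take i).prod)⁻¹ * a * ((List.ofFn x).take i).prod with hq
    have hstep : ∀ i, i ≤ n → q i ∈ (S : Subgroup G) ∧ (q i ∈ M ↔ a ∈ M) := by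
      intro i
      induction i with
      | zero => intro _; simp [hq, ha]
      | succ i ih =>
        intro hi'
        obtain ⟨hS, hM⟩ := ih (by omega)
        obtain ⟨hHle, hsyl, hcen, hcore, -, ⟨hHX, hXN, -, -, -⟩, hx, himg⟩ := hdata ⟨i, by omega⟩
        have hqH : q i ∈ H ⟨i, by omega⟩ := himg ⟨a, rfl, rfl⟩
        have hxN : x ⟨i, by omega⟩ ∈ normalizer (H ⟨i, by omega⟩ : Set G) := hXN ((map_subtype_le _) hx)
        have hnext : q (i + 1) = (x ⟨i, by omega⟩)⁻¹ * q i * x ⟨i, by omega⟩ := by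
          simp only [hq]
          rw [List.take_add_one, List.getElem?_ofFn, dif_pos (show i < n by omega), Option.toList_some, List.prod_append,
            List.prod_singleton, mul_inv_rev]
          group
        set N := normalizer (H ⟨i, by omega⟩ : Set G) with hN
        set xi := x ⟨i, by omega⟩
        have hqH' : q (i + 1) ∈ H ⟨i, by omega⟩ := by
          rw [hnext]
          simpa using (mem_normalizer_iff.1 (inv_mem hxN) _).1 hqH
        refine ⟨hHle hqH', Iff.trans ?_ hM⟩
        by_cases hle : N ≤ (S : Subgroup G)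
        · rw [hnext]
          simpa using half_conj hi hS (inv_mem (hle hxN))
        have hCH : centralizer (H ⟨i, by omega⟩ : Set G) ≤ H ⟨i, by omega⟩ := by
          have hz : z ∈ H ⟨i, by omega⟩ := hcen ⟨hzS, mem_centralizer_iff.2 fun y hy => hzc y (hHle hy)⟩
          intro w hw
          refine hcen ⟨?_, hw⟩
          rw [← hCz]
          exact mem_centralizer_singleton_iff.2 (mem_centralizer_iff.1 hw z hz).symm
        have hE : Ess S (H ⟨i, by omega⟩) := ⟨hHle, hle, hCH, hsyl, fun K hK hKp hKn => by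
          haveI hp : (Cfsg.pPrimeCore 2 ↥N).Normal := Grp.pPrimeCore_isNormal
          have hKnorm : (K.subgroupOf N).Normal :=
            ⟨fun k hk g => hKn g g.2 k hk⟩
          have h1 : K.subgroupOf N ≤ Cfsg.pPrimePCore 2 ↥N := by
            intro k hk
            refine Grp.le_pCore (p := 2) (hKnorm.map _ (QuotientGroup.mk'_surjective _))
              ((hKp.comap_subtype).map _) ⟨k, hk, rfl⟩
          intro k hk
          have h2 : k ∈ (Cfsg.pPrimePCore 2 ↥N).map N.subtype := ⟨⟨k, hK hk⟩, h1 hk, rfl⟩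
          rw [hcore, sup_eq_left.2 hCH] at h2
          exact h2⟩
        rw [hnext]
        simpa using hno _ hE _ hqH xi⁻¹ (inv_mem hxN)
    obtain ⟨hqS, hqM⟩ := hstep n le_rfl
    have hy' : y ∈ (S : Subgroup G) := h.normalizer_sylow ▸ hy
    have hca : c⁻¹ * a * c = a := by
      rw [mul_assoc, mem_centralizer_iff.1 hc a rfl, inv_mul_cancel_left]
    have he : u * a * u⁻¹ = y⁻¹ * q n * y := by
      simp only [hq]
      rw [List.take_of_length_le (by simp)]
      have hu' : u = (c * (List.ofFn x).prod * y)⁻¹ := by rw [← hg, inv_inv]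
      rw [hu']
      conv_rhs => rw [← hca]
      group
    rw [he]
    have := (half_conj hi hqS (inv_mem hy')).trans hqM
    simpa using this
  have hfoc : focalSubgroup (S : Subgroup G) ≤ M := by
    rw [focalSubgroup, closure_le]
    rintro g ⟨hgS, x, hx, u, rfl⟩
    by_cases hx1 : x = 1
    · simp [hx1]
    have e : ⁅x, u⁆ = x * (u * x⁻¹ * u⁻¹) := by rw [commutatorElement_def]; group
    have hy : u * x⁻¹ * u⁻¹ ∈ (S : Subgroup G) := by
      rw [e] at hgS
      simpa using mul_mem (inv_mem hx) hgS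
    rw [SetLike.mem_coe, e, half_mul hi hx hy, key x⁻¹ (inv_mem hx) (by simpa using hx1) u hy, inv_mem_iff]
  have hcop : Nat.Coprime (S : Subgroup G).index (⁅(S : Subgroup G), (S : Subgroup G)⁆.relIndex S) := by
    obtain ⟨k, hk⟩ := IsPGroup.iff_card.1 S.isPGroup'
    obtain ⟨j, -, hj⟩ := (Nat.dvd_prime_pow Nat.prime_two).1
      (hk ▸ relIndex_dvd_card ⁅(S : Subgroup G), (S : Subgroup G)⁆ (S : Subgroup G))
    rw [hj]
    exact ((Nat.prime_two.coprime_iff_not_dvd).2 S.not_dvd_index).symm.pow_right j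
  obtain ⟨hf, -⟩ := S0080.result (S : Subgroup G) hcop
  have hperf : commutator G = ⊤ := (h.normal_eq (commutator G) inferInstance).resolve_left fun e =>
    h.nonab ⟨⟨fun a b => commutatorElement_eq_one_iff_mul_comm.1
      (mem_bot.1 (e ▸ commutator_mem_commutator (mem_top a) (mem_top b)))⟩⟩
  rw [hperf, top_inf_eq] at hf
  rw [hf] at hfoc
  have := relIndex_eq_one.2 hfoc
  omega

end Cfsg.Agent.Fus.LenEight
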