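import Cfsg.Agent.Lib.Fus.LengthEight.Five

/-!
# Classes of the involutions `v` in `S` (for S3250)
-/

set_option autoImplicit false
set_option linter.style.haveILetI false

namespace Cfsg.Agent.Fus.LenEight

open Subgroup
open scoped commutatorElement

universe u

variable {G : Type u} [Group G] [Finite G] {S : Sylow 2 G}

theorem orb_card (H : Subgroup G) (g : G) :
    (orb H g).ncard * Nat.card ↥(H ⊓ centralizer ({g} : Set G)) = Nat.card H := by
  let f : H ⧸ (centralizer ({g} : Set G)).subgroupOf H → G := fun q => q.out * g * (q.out : G)⁻¹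
  have hf : ∀ n : H, f (QuotientGroup.mk n) = n * g * (n : G)⁻¹ := by
    intro n
    obtain ⟨⟨t, htT⟩, ht⟩ := QuotientGroup.mk_out_eq_mul ((centralizer ({g} : Set G)).subgroupOf H) n
    have hc : (t : G) * g * (t : G)⁻¹ = g :=
      mul_inv_eq_iff_eq_mul.2 (mem_centralizer_singleton_iff.1 (mem_subgroupOf.1 htT))
    show ((QuotientGroup.mk n : H ⧸ (centralizer ({g} : Set G)).subgroupOf H).out : G) * g * _⁻¹ = _
    rw [ht, coe_mul, mul_inv_rev]
    calc (n : G) * t * g * ((t : G)⁻¹ * (n : G)⁻¹) = n * (t * g * (t : G)⁻¹) * (n : G)⁻¹ := by group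
      _ = _ := by rw [hc]
  have hinj : Function.Injective f := by
    intro p q
    induction p using QuotientGroup.induction_on with
    | _ a =>
      induction q using QuotientGroup.induction_on with
      | _ b =>
        intro e
        rw [hf, hf] at e
        refine QuotientGroup.eq.2 (mem_subgroupOf.2 (mem_centralizer_singleton_iff.2 ?_))
        rw [coe_mul, coe_inv]
        have := congrArg (fun t => (a : G)⁻¹ * t * b) e
        simpa [mul_assoc] using this.symm
  have hrange : Set.range f = orb H g := by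
    ext p
    constructor
    · rintro ⟨q, rfl⟩; exact ⟨_, q.out.2, rfl⟩
    · rintro ⟨n, hn, rfl⟩; exact ⟨QuotientGroup.mk ⟨n, hn⟩, hf _⟩
  rw [← hrange, Set.ncard_range_of_injective hinj, inf_comm,
    ← Nat.card_congr (subgroupOfEquivOfLe (inf_le_right : centralizer ({g} : Set G) ⊓ H ≤ H)).toEquiv,
    inf_subgroupOf_right]
  exact (card_eq_card_quotient_mul_card_subgroup _).symm

omit [Finite G] in
/-- A class in `S` lies in a coset of the commutator subgroup. -/
theorem orb_coset {g p : G} (hg : g ∈ (S : Subgroup G)) (hp : p ∈ orb (S : Subgroup G) g) :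
    p * g⁻¹ ∈ ⁅(S : Subgroup G), (S : Subgroup G)⁆ := by
  obtain ⟨s, hs, rfl⟩ := hp
  rw [show s * g * s⁻¹ * g⁻¹ = ⁅s, g⁆ from rfl]
  exact commutator_mem_commutator hs hg

omit [Finite G] in
theorem commutator_conj {s q : G} (hs : s ∈ (S : Subgroup G)) (hq : q ∈ ⁅(S : Subgroup G), (S : Subgroup G)⁆) :
    s * q * s⁻¹ ∈ ⁅(S : Subgroup G), (S : Subgroup G)⁆ := by
  have : ⁅(S : Subgroup G), (S : Subgroup G)⁆.map (MulAut.conj s).toMonoidHom =
      ⁅(S : Subgroup G), (S : Subgroup G)⁆ := by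
    rw [map_commutator, Grp.mem_normalizer_of_map_eq.1 (le_normalizer hs)]
  exact this.le ⟨q, hq, rfl⟩

omit [Finite G] in
theorem commutator_le_S : ⁅(S : Subgroup G), (S : Subgroup G)⁆ ≤ (S : Subgroup G) :=
  commutator_le_self _

theorem Data.orbit_v {U : Subgroup G} (h : Hyp G S) (hU : Ess S U) (d : Data S U) :
    (orb (S : Subgroup G) d.split.v).ncard * Nat.card U = 2 ^ 7 := by
  have := orb_card (S : Subgroup G) d.split.v
  rwa [d.cent_v hU, h.card] at this

/-- A normal nontrivial subgroup of `S` contains `z`. -/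
theorem Hyp.z_mem_normal (h : Hyp G S) {z : G} (hz : Cen S z) {U : Subgroup G} (hU : Ess S U) (d : Data S U)
    {D : Subgroup G} (hDS : D ≤ (S : Subgroup G)) (hne : D ≠ ⊥)
    (hn : ∀ s ∈ (S : Subgroup G), ∀ q ∈ D, s * q * s⁻¹ ∈ D) : z ∈ D := by
  haveI : (D.subgroupOf (S : Subgroup G)).Normal := ⟨fun q hq s => hn s s.2 q hq⟩
  haveI : Fact (Nat.Prime 2) := ⟨Nat.prime_two⟩
  haveI := S.isPGroup'.isNilpotent
  have h1 : D.subgroupOf (S : Subgroup G) ≠ ⊥ := fun e => hne (by
    rw [subgroupOf_eq_bot] at e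
    exact disjoint_self.1 (e.mono_right hDS))
  obtain ⟨⟨⟨q, hqS⟩, hq⟩, hq1⟩ :=
    ne_bot_iff_exists_ne_one.1 (Grp.inf_center_ne_bot (D.subgroupOf (S : Subgroup G)) h1)
  have := d.central_eq h hz hU (fun x hx => congrArg Subtype.val (mem_center_iff.1 hq.2 ⟨x, hx⟩))
    (fun e => hq1 (Subtype.ext (Subtype.ext e)))
  rw [← this]
  exact mem_subgroupOf.1 hq.1

end Cfsg.Agent.Fus.LenEight
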